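import Mathlib.GroupTheory.Nilpotent
import Mathlib.Data.Set.Finite.Lemmas
import Mathlib.GroupTheory.SpecificGroups.Cyclic
import Cfsg.Prelude.Def_Transfer

/-!
# Elementary properties of `Z(J(P))`

`centerThompson_ne_bot`, `normalizer_le_normalizer_centerThompson`.
-/

set_option linter.style.haveILetI false

namespace CfsgLib.SolvCrit

open Subgroup

variable {G : Type*} [Group G]

theorem isElementaryAbelian_map {X : Type*} [Group X] {Y : Type*} [Group Y] {p : ℕ} (f : X →* Y)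
    {A : Subgroup X} (hA : Cfsg.IsElementaryAbelian p A) :
    Cfsg.IsElementaryAbelian p (A.map f) := by
  refine ⟨⟨⟨?_⟩⟩, ?_⟩
  · rintro ⟨_, x, hx, rfl⟩ ⟨_, y, hy, rfl⟩
    refine Subtype.ext ?_
    show f x * f y = f y * f x
    rw [← map_mul, ← map_mul]
    exact congrArg f (congrArg Subtype.val (hA.1.is_comm.comm ⟨x, hx⟩ ⟨y, hy⟩))
  · rintro _ ⟨x, hx, rfl⟩
    rw [← map_pow, hA.2 x hx, map_one]

theorem map_mem_maxElementary {P : Type*} [Group P] {P' : Type*} [Group P'] {p : ℕ} (e : P ≃* P')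
    {A : Subgroup P} (hA : A ∈ Cfsg.maxElementaryAbelianSubgroups p P) :
    A.map e.toMonoidHom ∈ Cfsg.maxElementaryAbelianSubgroups p P' := by
  refine ⟨isElementaryAbelian_map _ hA.1, fun B hB => ?_⟩
  rw [card_map_of_injective e.injective]
  have h := hA.2 _ (isElementaryAbelian_map e.symm.toMonoidHom hB)
  rwa [card_map_of_injective e.symm.injective] at h

theorem normalizer_le_normalizer_thompson (p : ℕ) (P : Subgroup G) :
    normalizer (P : Set G) ≤ normalizer (Cfsg.thompsonSubgroupOf p P : Set G) := by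
  intro g hg
  have key : ∀ g ∈ normalizer (P : Set G), ∀ x ∈ Cfsg.thompsonSubgroupOf p P,
      g * x * g⁻¹ ∈ Cfsg.thompsonSubgroupOf p P := by
    intro g hg
    let e : P ≃* P :=
      { toFun := fun y => ⟨g * y * g⁻¹, (mem_normalizer_iff.1 hg y).1 y.2⟩
        invFun := fun y => ⟨g⁻¹ * y * g, (mem_normalizer_iff''.1 hg y).1 y.2⟩
        left_inv := fun y => by ext; simp [mul_assoc]
        right_inv := fun y => by ext; simp [mul_assoc]
        map_mul' := fun y z => by ext; simp [mul_assoc] }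
    have h : (Cfsg.thompsonSubgroup p P).map e.toMonoidHom ≤ Cfsg.thompsonSubgroup p P := by
      rw [Cfsg.thompsonSubgroup, map_le_iff_le_comap]
      refine sSup_le fun A hA => ?_
      rw [← map_le_iff_le_comap]
      exact le_sSup (map_mem_maxElementary e hA)
    rintro _ ⟨y, hy, rfl⟩
    exact ⟨e y, h ⟨y, hy, rfl⟩, rfl⟩
  refine mem_normalizer_iff.2 fun x => ⟨key g hg x, fun h => ?_⟩
  simpa [mul_assoc] using key g⁻¹ (inv_mem hg) _ h

theorem normalizer_le_normalizer_centerThompson (p : ℕ) (P : Subgroup G) :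
    normalizer (P : Set G) ≤ normalizer (Cfsg.centerThompsonOf p P : Set G) := by
  refine (normalizer_le_normalizer_thompson p P).trans ?_
  intro g hg
  have key : ∀ g ∈ normalizer (Cfsg.thompsonSubgroupOf p P : Set G),
      ∀ x ∈ Cfsg.centerThompsonOf p P, g * x * g⁻¹ ∈ Cfsg.centerThompsonOf p P := by
    intro g hg x hx
    refine ⟨(mem_normalizer_iff.1 hg x).1 hx.1, fun j hj => ?_⟩
    have h := hx.2 _ ((mem_normalizer_iff''.1 hg j).1 hj)
    calc j * (g * x * g⁻¹) = g * ((g⁻¹ * j * g) * x) * g⁻¹ := by group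
      _ = g * (x * (g⁻¹ * j * g)) * g⁻¹ := by rw [h]
      _ = g * x * g⁻¹ * j := by group
  refine mem_normalizer_iff.2 fun x => ⟨key g hg x, fun h => ?_⟩
  simpa [mul_assoc] using key g⁻¹ (inv_mem hg) _ h

theorem map_thompsonSubgroup {P : Type*} [Group P] {P' : Type*} [Group P'] (p : ℕ) (e : P ≃* P') :
    (Cfsg.thompsonSubgroup p P).map e.toMonoidHom = Cfsg.thompsonSubgroup p P' := by
  apply le_antisymm
  · rw [Cfsg.thompsonSubgroup, map_le_iff_le_comap]
    exact sSup_le fun A hA => map_le_iff_le_comap.1 (le_sSup (map_mem_maxElementary e hA))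
  · refine sSup_le fun A hA => ?_
    have h : A.map e.symm.toMonoidHom ≤ Cfsg.thompsonSubgroup p P :=
      le_sSup (map_mem_maxElementary e.symm hA)
    intro x hx
    exact ⟨e.symm x, h ⟨x, hx, rfl⟩, e.apply_symm_apply x⟩

/-- `Z(J(P))` commutes with monomorphisms. -/
theorem map_centerThompson {K : Type*} [Group K] (f : G →* K) (hf : Function.Injective f) (p : ℕ)
    (P : Subgroup G) :
    (Cfsg.centerThompsonOf p P).map f = Cfsg.centerThompsonOf p (P.map f) := by
  have hJ : (Cfsg.thompsonSubgroupOf p P).map f = Cfsg.thompsonSubgroupOf p (P.map f) := by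
    rw [Cfsg.thompsonSubgroupOf, Cfsg.thompsonSubgroupOf,
      ← map_thompsonSubgroup p (equivMapOfInjective P f hf), map_map, map_map]
    congr 1
  rw [Cfsg.centerThompsonOf, Cfsg.centerThompsonOf, ← hJ, map_inf _ _ _ hf]
  ext x
  simp only [mem_inf, mem_map, mem_centralizer_iff]
  constructor
  · rintro ⟨⟨a, ha, rfl⟩, ⟨b, hb, hab⟩⟩
    obtain rfl := hf hab
    exact ⟨⟨b, ha, rfl⟩, by rintro _ ⟨c, hc, rfl⟩; rw [← map_mul, hb c hc, map_mul]⟩
  · rintro ⟨⟨a, ha, rfl⟩, hc⟩
    exact ⟨⟨a, ha, rfl⟩, a, fun j hj => hf (by rw [map_mul, map_mul]; exact hc _ ⟨j, hj, rfl⟩), rfl⟩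

theorem centerThompson_le (p : ℕ) (P : Subgroup G) : Cfsg.centerThompsonOf p P ≤ P :=
  inf_le_left.trans (map_subtype_le _)

theorem centerThompson_ne_bot [Finite G] {p : ℕ} [hp : Fact p.Prime] {P : Subgroup G}
    (hP : IsPGroup p P) (h : P ≠ ⊥) : Cfsg.centerThompsonOf p P ≠ ⊥ := by
  obtain ⟨n, hn⟩ := IsPGroup.iff_card.1 hP
  have hn0 : n ≠ 0 := by
    rintro rfl
    exact h (card_eq_one.1 (by simpa using hn))
  obtain ⟨x, hx⟩ := exists_prime_orderOf_dvd_card' (G := P) p (hn ▸ dvd_pow_self p hn0)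
  have hel : Cfsg.IsElementaryAbelian p (zpowers x) :=
    ⟨inferInstance, fun a ha => orderOf_dvd_iff_pow_eq_one.1
      ((orderOf_dvd_of_mem_zpowers ha).trans hx.dvd)⟩
  obtain ⟨A, hA, hmax⟩ := Set.exists_max_image {A : Subgroup P | Cfsg.IsElementaryAbelian p A}
    (fun A => Nat.card A) (Set.toFinite _) ⟨_, hel⟩
  have hAmem : A ∈ Cfsg.maxElementaryAbelianSubgroups p P := ⟨hA, fun B hB => hmax B hB⟩
  have hAne : A ≠ ⊥ := by
    intro h0
    have := hmax _ hel
    rw [h0, card_bot, Nat.card_zpowers, hx] at this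
    exact absurd this (not_le.2 hp.out.one_lt)
  set J := Cfsg.thompsonSubgroupOf p P
  have hJne : J ≠ ⊥ := fun h0 => hAne <| le_bot_iff.1 <| (le_sSup hAmem).trans
    ((map_eq_bot_iff_of_injective _ P.subtype_injective).1 h0).le
  have hJp : IsPGroup p J := hP.to_le (map_subtype_le _)
  haveI := hJp.isNilpotent
  haveI : Nontrivial J := (nontrivial_iff_ne_bot J).2 hJne
  obtain ⟨z, hz, hz1⟩ := (center J).nontrivial_iff_exists_ne_one.1
    ((nontrivial_iff_ne_bot _).2 (Group.IsNilpotent.center_ne_bot J))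
  intro h0
  have : (z : G) ∈ Cfsg.centerThompsonOf p P :=
    ⟨z.2, fun j hj => congrArg Subtype.val (mem_center_iff.1 hz ⟨j, hj⟩)⟩
  rw [h0, mem_bot] at this
  exact hz1 (Subtype.ext this)

end CfsgLib.SolvCrit
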