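import Mathlib
import Cfsg.Agent.Transfer.Frobenius
import Cfsg.Agent.Coprime.Action

/-!
# Solvability criteria by a maximal subgroup

* `isCoatom_map_mk'`: images of maximal subgroups.
* `isSolvable_of_coprime_supplement`: a maximal subgroup acting coprimely on a normal complement.
* `isSolvable_of_abelian_coatom`: a finite group with an abelian maximal subgroup is solvable.
-/

set_option linter.style.haveILetI false

namespace CfsgLib.SolvCrit

open Subgroup CfsgLib.Transfer

universe u

theorem isCoatom_map_mk' {G : Type u} [Group G] {N M : Subgroup G} [N.Normal] (hM : IsCoatom M)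
    (hNM : N ≤ M) : IsCoatom (M.map (QuotientGroup.mk' N)) := by
  have hsurj := QuotientGroup.mk'_surjective N
  have hker : (QuotientGroup.mk' N).ker ≤ M := by rwa [QuotientGroup.ker_mk']
  refine ⟨fun h => hM.1 ?_, fun K hK => ?_⟩
  · rw [← comap_map_eq_self hker, h, comap_top]
  · have h2 : M < K.comap (QuotientGroup.mk' N) := by
      rw [← comap_map_eq_self hker]
      exact (comap_lt_comap_of_surjective hsurj).2 hK
    rw [← map_comap_eq_self_of_surjective hsurj K, hM.2 _ h2, map_top_of_surjective _ hsurj]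

theorem isSolvable_of_normal_of_quotient {G : Type u} [Group G] (N : Subgroup G) [N.Normal]
    (hN : Group.IsSolvable N) (hQ : Group.IsSolvable (G ⧸ N)) : Group.IsSolvable G :=
  haveI := hN
  haveI := hQ
  Group.isSolvable_of_ker_le_range N.subtype (QuotientGroup.mk' N)
    (by rw [QuotientGroup.ker_mk', range_subtype])

/-- A group of prime order is solvable. -/
theorem isSolvable_of_prime_card {G : Type u} [Group G] {p : ℕ} (hp : p.Prime)
    (h : Nat.card G = p) : Group.IsSolvable G :=
  haveI := Fact.mk hp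
  haveI : IsCyclic G := isCyclic_of_prime_card h
  let _ : CommGroup G := IsCyclic.commGroup
  inferInstance

/-- The quotient by a normal maximal subgroup is solvable. -/
theorem isSolvable_quotient_of_coatom {G : Type u} [Group G] [Finite G] {M : Subgroup G}
    [M.Normal] (hM : IsCoatom M) : Group.IsSolvable (G ⧸ M) := by
  have hne : Nat.card (G ⧸ M) ≠ 1 := fun h => hM.1 (index_eq_one.1 h)
  obtain ⟨p, hp, hd⟩ := Nat.exists_prime_and_dvd hne
  haveI := Fact.mk hp
  obtain ⟨x, hx⟩ := exists_prime_orderOf_dvd_card' p hd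
  obtain ⟨y, rfl⟩ := QuotientGroup.mk'_surjective M x
  have hy : y ∉ M := fun hy => hp.ne_one <| by
    rw [← hx, (QuotientGroup.eq_one_iff y).2 hy |> fun h => show QuotientGroup.mk' M y = 1 from h,
      orderOf_one]
  have hlt : M < (zpowers (QuotientGroup.mk' M y)).comap (QuotientGroup.mk' M) := by
    refine lt_of_le_of_ne ?_ fun h => hy (h ▸ mem_zpowers (QuotientGroup.mk' M y))
    conv_lhs => rw [← QuotientGroup.ker_mk' M]
    exact ker_le_comap _ _
  have htop : zpowers (QuotientGroup.mk' M y) = ⊤ := by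
    rw [← map_comap_eq_self_of_surjective (QuotientGroup.mk'_surjective M) (zpowers _),
      hM.2 _ hlt, map_top_of_surjective _ (QuotientGroup.mk'_surjective M)]
  exact isSolvable_of_prime_card hp (by rw [← card_top, ← htop, Nat.card_zpowers, hx])

/-- A solvable maximal subgroup acting coprimely on a normal subgroup it complements forces
solvability. -/
theorem isSolvable_of_coprime_supplement {G : Type u} [Group G] [Finite G] {M K : Subgroup G}
    [K.Normal] (hM : IsCoatom M) (hs : Group.IsSolvable M) (hsup : K ⊔ M = ⊤)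
    (hcop : (Nat.card M).Coprime (Nat.card K)) : Group.IsSolvable G := by
  rcases eq_or_ne K ⊥ with rfl | hK
  · rw [bot_sup_eq] at hsup
    exact absurd hsup hM.1
  have hMK : M ≤ normalizer (K : Set G) := by rw [normalizer_eq_top]; exact le_top
  obtain ⟨r, hr, hrK⟩ := Nat.exists_prime_and_dvd (fun h => hK (card_eq_one.1 h))
  haveI := Fact.mk hr
  obtain ⟨R, hR⟩ := CfsgLib.Coprime.exists_invariant_sylow hMK hcop (Or.inl hs) r
  set R' := (R : Subgroup K).map K.subtype with hR'
  have hRM : ¬ R' ≤ M := by
    intro hle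
    have h1 : R' ≤ K ⊓ M := le_inf (map_subtype_le _) hle
    rw [inf_comm, CfsgLib.Coprime.inf_eq_bot_of_coprime hcop, le_bot_iff,
      map_eq_bot_iff_of_injective _ K.subtype_injective] at h1
    exact R.ne_bot_of_dvd_card hrK h1
  have hd : R' ⊓ M = ⊥ := le_bot_iff.1 <| by
    rw [← CfsgLib.Coprime.inf_eq_bot_of_coprime hcop, inf_comm M K]
    exact inf_le_inf_right M (map_subtype_le _)
  have htop : R' ⊔ M = ⊤ :=
    hM.2 _ (lt_of_le_of_ne le_sup_right fun h => hRM (h.symm ▸ le_sup_left))
  have hd' : K ⊓ M = ⊥ := inf_comm M K ▸ CfsgLib.Coprime.inf_eq_bot_of_coprime hcop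
  have h1 := CfsgLib.Coprime.card_sup_eq hR hd
  have h2 := CfsgLib.Coprime.card_sup_eq hMK hd'
  rw [htop, card_top] at h1
  rw [hsup, card_top, h1] at h2
  have hRK : R' = K := eq_of_le_of_card_ge (map_subtype_le _)
    (Nat.eq_of_mul_eq_mul_right Nat.card_pos h2).ge
  have hKr : IsPGroup r K := by
    rw [← hRK]
    exact R.2.map _
  haveI := hKr.isNilpotent
  refine isSolvable_of_normal_of_quotient K inferInstance ?_
  haveI := hs
  refine Group.isSolvable_of_surjective (f := (QuotientGroup.mk' K).comp M.subtype) ?_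
  intro x
  obtain ⟨g, rfl⟩ := QuotientGroup.mk'_surjective K x
  obtain ⟨k, hk, m, hm, rfl⟩ := CfsgLib.Coprime.exists_mul_of_mem_sup hMK (hsup ▸ mem_top g)
  refine ⟨⟨m, hm⟩, ?_⟩
  show QuotientGroup.mk' K m = QuotientGroup.mk' K (k * m)
  rw [map_mul, show QuotientGroup.mk' K k = 1 from (QuotientGroup.eq_one_iff k).2 hk, one_mul]

/-- A finite group with an abelian maximal subgroup is solvable. -/
theorem isSolvable_of_abelian_coatom : ∀ (n : ℕ) (G : Type u) [Group G] [Finite G],
    Nat.card G = n → ∀ M : Subgroup G, IsCoatom M → IsMulCommutative M → Group.IsSolvable G := by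
  intro n
  induction n using Nat.strong_induction_on with
  | _ n ih =>
  intro G _ _ hn M hM hab
  have hcomm : ∀ a ∈ M, ∀ b ∈ M, a * b = b * a := fun a ha b hb =>
    congrArg Subtype.val (hab.is_comm.comm ⟨a, ha⟩ ⟨b, hb⟩)
  haveI hMs : Group.IsSolvable M :=
    Group.isSolvable_of_comm fun a b => Subtype.ext (hcomm _ a.2 _ b.2)
  by_cases hN : ∃ N : Subgroup G, N.Normal ∧ N ≤ M ∧ N ≠ ⊥
  · obtain ⟨N, hNn, hNM, hN1⟩ := hN
    haveI := hNn
    have hlt : Nat.card (G ⧸ N) < n := by
      rw [← hn, card_eq_card_quotient_mul_card_subgroup N]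
      exact lt_mul_of_one_lt_right Nat.card_pos ((one_lt_card_iff_ne_bot N).2 hN1)
    refine isSolvable_of_normal_of_quotient N
      (Group.isSolvable_of_comm fun a b => Subtype.ext (hcomm _ (hNM a.2) _ (hNM b.2)))
      (ih _ hlt _ rfl _ (isCoatom_map_mk' hM hNM) ⟨⟨?_⟩⟩)
    rintro ⟨_, x, hx, rfl⟩ ⟨_, y, hy, rfl⟩
    refine Subtype.ext ?_
    show QuotientGroup.mk' N x * QuotientGroup.mk' N y = _
    rw [← map_mul, hcomm x hx y hy, map_mul]
    rfl
  push Not at hN
  rcases eq_or_ne M ⊥ with rfl | hM1
  · haveI : (⊥ : Subgroup G).Normal := normal_bot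
    exact isSolvable_of_normal_of_quotient ⊥ inferInstance (isSolvable_quotient_of_coatom hM)
  -- `M` is the normalizer of each nontrivial Sylow subgroup
  have hkey : ∀ r : ℕ, r.Prime → r ∣ Nat.card M →
      Cfsg.HasNormalPComplement r G ∧ ¬ r ∣ M.index := by
    intro r hr hrM
    haveI := Fact.mk hr
    let R : Sylow r M := default
    set R' := (R : Subgroup M).map M.subtype with hR'
    have hR1 : R' ≠ ⊥ := by
      rw [hR', Ne, map_eq_bot_iff_of_injective _ M.subtype_injective]
      exact R.ne_bot_of_dvd_card hrM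
    have hMN : M ≤ normalizer (R' : Set G) := fun m hm => mem_normalizer_iff.2 fun x => by
      refine ⟨fun hx => ?_, fun hx => ?_⟩
      · rwa [hcomm m hm x (map_subtype_le _ hx), mul_inv_cancel_right]
      · have h := hcomm m hm _ (map_subtype_le _ hx)
        have e : m * x * m⁻¹ = x := by
          have : m⁻¹ * (m * (m * x * m⁻¹)) = m⁻¹ * (m * x * m⁻¹ * m) := by rw [h]
          simpa [mul_assoc] using this
        rwa [e] at hx
    have hNR : normalizer (R' : Set G) = M := by
      rcases hMN.eq_or_lt with h | h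
      · exact h.symm
      · exact absurd (hN R' (normalizer_eq_top_iff.1 (hM.2 _ h)) (map_subtype_le _)) hR1
    obtain ⟨P, hP⟩ := (R.2.map M.subtype).exists_le_sylow
    have hPR : R' = (P : Subgroup G) := by
      by_contra hne
      have hlt := lt_inf_normalizer P.2 (lt_of_le_of_ne hP hne)
      rw [hNR] at hlt
      have h2 : (R : Subgroup M) < ((P : Subgroup G) ⊓ M).subgroupOf M := by
        apply lt_of_le_of_ne
        · intro x hx; exact hlt.le ⟨x, hx, rfl⟩
        · intro he
          apply hlt.ne
          show (R : Subgroup M).map M.subtype = (P : Subgroup G) ⊓ M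
          rw [he, subgroupOf_map_subtype, inf_eq_left.2 inf_le_right]
      exact h2.ne' (R.3 ((P.2.to_le inf_le_left).comap_subtype) h2.le)
    have hNC : normalizer ((P : Subgroup G) : Set G) ≤ centralizer ((P : Subgroup G) : Set G) := by
      rw [← hPR, hNR]
      intro m hm x hx
      exact hcomm x (map_subtype_le _ hx) m hm
    refine ⟨⟨P, (MonoidHom.transferSylow P hNC).ker, inferInstance,
      MonoidHom.ker_transferSylow_isComplement' P hNC⟩, fun hd => P.not_dvd_index ?_⟩
    rw [← hPR]
    exact hd.trans (index_dvd_of_le (map_subtype_le _))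
  set K := ⨅ r : (Nat.card M).primeFactors, Cfsg.pResidual (r : ℕ) G with hK
  haveI hKn : K.Normal := normal_iInf_normal fun r => inferInstance
  have hcop : (Nat.card M).Coprime (Nat.card K) := by
    rw [Nat.coprime_iff_gcd_eq_one]
    by_contra hg
    obtain ⟨r, hr, hrd⟩ := Nat.exists_prime_and_dvd hg
    haveI := Fact.mk hr
    have hrM := hrd.trans (Nat.gcd_dvd_left _ _)
    refine hasNormalPComplement_iff.1 (hkey r hr hrM).1
      ((hrd.trans (Nat.gcd_dvd_right _ _)).trans (card_dvd_of_le ?_))
    exact iInf_le (fun r : (Nat.card M).primeFactors => Cfsg.pResidual (r : ℕ) G)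
      ⟨r, Nat.mem_primeFactors.2 ⟨hr, hrM, Nat.card_pos.ne'⟩⟩
  have hKM : ¬ K ≤ M := by
    intro hle
    have hK1 : K = ⊥ := hN K hKn hle
    -- all elements of order prime to `|M|` are trivial, so `|G|` and `|M|` share their primes
    apply hM.1
    rw [← index_eq_one]
    by_contra hi
    obtain ⟨q, hq, hqi⟩ := Nat.exists_prime_and_dvd hi
    haveI := Fact.mk hq
    obtain ⟨x, hx⟩ := exists_prime_orderOf_dvd_card' (G := G) q (hqi.trans M.index_dvd_card)
    have hxK : x ∈ K := by
      rw [hK, mem_iInf]
      intro r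
      have hr := Nat.prime_of_mem_primeFactors r.2
      apply mem_pResidual_of_coprime
      rw [hx]
      refine (Nat.coprime_primes hq hr).2 fun h => ?_
      exact (hkey r hr (Nat.dvd_of_mem_primeFactors r.2)).2 (h ▸ hqi)
    rw [hK1, mem_bot] at hxK
    rw [hxK, orderOf_one] at hx
    exact hq.ne_one hx.symm
  exact isSolvable_of_coprime_supplement hM hMs
    (hM.2 _ (lt_of_le_of_ne le_sup_right fun h => hKM (h.symm ▸ le_sup_left))) hcop

end CfsgLib.SolvCrit
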