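import Mathlib
import Cfsg.Agent.Transfer.Tate
import Cfsg.Agent.Solvable.Frattini

/-!
Hall–Wielandt: a Sylow `p`-subgroup of class less than `p` has normalizer controlling `p`-transfer.
-/

set_option autoImplicit false

namespace CfsgLib.SolvCrit.HallWielandt

open Subgroup MulAction
open CfsgLib.Transfer (elemResidual elemResidual_le_ker)

section Formula

variable {Γ : Type*} [Group Γ] {H : Subgroup Γ} {A : Type*} [CommGroup A] (φ : H →* A)

open Classical in
/-- The value attached to a coset fixed by `y` (and `1` on the others). -/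
noncomputable def fixedVal (y : Γ) (u : Γ ⧸ H) : A :=
  if h : u.out⁻¹ * y * u.out ∈ H then φ ⟨_, h⟩ else 1

theorem smul_mk_eq_iff {y g : Γ} : y • (g : Γ ⧸ H) = (g : Γ ⧸ H) ↔ g⁻¹ * y * g ∈ H := by
  rw [MulAction.Quotient.smul_coe, eq_comm, QuotientGroup.eq, mul_assoc, smul_eq_mul]

theorem fixedVal_eq_one {y : Γ} {u : Γ ⧸ H} (h : y • u ≠ u) : fixedVal φ y u = 1 := by
  rw [fixedVal, dif_neg]
  rwa [← smul_mk_eq_iff, QuotientGroup.out_eq']

theorem fixedVal_mk {y g : Γ} (h : g⁻¹ * y * g ∈ H) :
    fixedVal φ y (g : Γ ⧸ H) = φ ⟨_, h⟩ := by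
  have hm : g⁻¹ * Quotient.out (g : Γ ⧸ H) ∈ H := by
    rw [← QuotientGroup.eq, QuotientGroup.out_eq']
  generalize hg' : Quotient.out (g : Γ ⧸ H) = g' at hm
  have h' : g'⁻¹ * y * g' ∈ H := by
    have h1 := mul_mem (mul_mem (inv_mem hm) h) hm
    simpa [mul_assoc] using h1
  subst hg'
  rw [fixedVal, dif_pos h']
  have h2 : (⟨_, h'⟩ : H) = ⟨_, hm⟩⁻¹ * ⟨_, h⟩ * ⟨_, hm⟩ := by
    apply Subtype.ext
    simp [mul_assoc]
  rw [h2, map_mul, map_mul, map_inv, mul_right_comm, inv_mul_cancel, one_mul]

theorem fixedVal_smul (t y : Γ) (u : Γ ⧸ H) :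
    fixedVal φ y (t • u) = fixedVal φ (t⁻¹ * y * t) u := by
  induction u using QuotientGroup.induction_on with
  | _ g =>
    rw [MulAction.Quotient.smul_coe, smul_eq_mul]
    by_cases h : g⁻¹ * (t⁻¹ * y * t) * g ∈ H
    · have h' : (t * g)⁻¹ * y * (t * g) ∈ H := by simpa [mul_assoc] using h
      rw [fixedVal_mk φ h, fixedVal_mk φ h']
      congr 1
      apply Subtype.ext
      simp [mul_assoc]
    · have h' : (t * g)⁻¹ * y * (t * g) ∉ H := by simpa [mul_assoc] using h
      rw [fixedVal_eq_one φ (by rwa [ne_eq, smul_mk_eq_iff]),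
        fixedVal_eq_one φ (by rwa [ne_eq, smul_mk_eq_iff])]

/-- If the long orbits contribute nothing, only the fixed cosets count in the transfer. -/
theorem transfer_eq_prod_fixedVal [Finite Γ] [Fintype (Γ ⧸ H)] (y : Γ)
    (hsmall : ∀ (g : Γ) (m : ℕ), m ≠ 1 → m ∣ orderOf y → ∀ h : g⁻¹ * y ^ m * g ∈ H,
      φ ⟨_, h⟩ = 1) :
    MonoidHom.transfer φ y = ∏ u : Γ ⧸ H, fixedVal φ y u := by
  classical
  rw [MonoidHom.transfer_eq_prod_quotient_orbitRel_zpowers_quot]
  rw [← Fintype.prod_fiberwise (fun u => (Quotient.mk (orbitRel (zpowers y) (Γ ⧸ H)) u))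
    (fixedVal φ y)]
  refine Fintype.prod_congr _ _ (fun q => ?_)
  have hout : Quotient.mk (orbitRel (zpowers y) (Γ ⧸ H)) q.out = q := Quotient.out_eq q
  have hothers : ∀ i : {u : Γ ⧸ H // Quotient.mk (orbitRel (zpowers y) (Γ ⧸ H)) u = q},
      i ≠ ⟨q.out, hout⟩ → fixedVal φ y i = 1 := by
    rintro ⟨u, hu⟩ hne
    refine fixedVal_eq_one φ (fun hfix => hne (Subtype.ext ?_))
    obtain ⟨⟨z, hz⟩, hzu⟩ : q.out ∈ orbit (zpowers y) u :=
      orbitRel_apply.1 (Quotient.exact (hout.trans hu.symm))
    have : z ∈ stabilizer Γ u := (zpowers_le.2 (show y ∈ stabilizer Γ u from hfix)) hz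
    show u = q.out
    rw [← hzu]
    exact (show z • u = u from this).symm
  rw [Fintype.prod_eq_single _ hothers]
  show φ ⟨_, _⟩ = fixedVal φ y q.out
  set m := Function.minimalPeriod (y • ·) q.out with hm
  by_cases hfix : y • q.out = q.out
  · have hm1 : m = 1 := Function.minimalPeriod_eq_one_iff_isFixedPt.2 hfix
    have hmem : q.out.out⁻¹ * y * q.out.out ∈ H := by
      rwa [← smul_mk_eq_iff, QuotientGroup.out_eq']
    rw [fixedVal, dif_pos hmem]
    congr 1
    apply Subtype.ext
    show q.out.out⁻¹ * y ^ m * q.out.out = _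
    rw [hm1, pow_one]
  · rw [fixedVal_eq_one φ hfix]
    refine hsmall q.out.out m (fun h1 => hfix ?_) ?_ _
    · exact Function.minimalPeriod_eq_one_iff_isFixedPt.1 h1
    · refine Function.IsPeriodicPt.minimalPeriod_dvd ?_
      show (y • ·)^[orderOf y] q.out = q.out
      rw [smul_iterate, pow_orderOf_eq_one]
      exact one_smul _ _

end Formula

/-- A binomial telescoping identity. -/
theorem prod_shift {A : Type*} [CommGroup A] (a : ℕ → ℕ → A)
    (h : ∀ j i, a j (i + 1) = a j i * a (j + 1) i) (n j : ℕ) :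
    ∏ i ∈ Finset.range n, a j i = ∏ k ∈ Finset.range n, a (j + k) 0 ^ n.choose (k + 1) := by
  induction n generalizing j with
  | zero => simp
  | succ n ih =>
    have e1 : ∏ k ∈ Finset.range (n + 1), a (j + k) 0 ^ n.choose (k + 1) =
        ∏ k ∈ Finset.range n, a (j + k) 0 ^ n.choose (k + 1) := by
      rw [Finset.prod_range_succ, Nat.choose_succ_self, pow_zero, mul_one]
    have e2 : ∏ k ∈ Finset.range (n + 1), a (j + k) 0 ^ n.choose k =
        a j 0 * ∏ k ∈ Finset.range n, a (j + 1 + k) 0 ^ n.choose (k + 1) := by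
      rw [Finset.prod_range_succ', mul_comm]
      congr 1
      · simp
      · exact Finset.prod_congr rfl fun k _ => by rw [add_comm k 1, add_assoc j 1 k]
    calc ∏ i ∈ Finset.range (n + 1), a j i
        = (∏ i ∈ Finset.range n, a j (i + 1)) * a j 0 := Finset.prod_range_succ' _ _
      _ = (∏ i ∈ Finset.range n, a j i) * (∏ i ∈ Finset.range n, a (j + 1) i) * a j 0 := by
        simp only [h, Finset.prod_mul_distrib]
      _ = (∏ k ∈ Finset.range (n + 1), a (j + k) 0 ^ n.choose k) *
          ∏ k ∈ Finset.range (n + 1), a (j + k) 0 ^ n.choose (k + 1) := by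
        rw [ih, ih, e1, e2]
        ac_rfl
      _ = _ := by
        simp only [← Finset.prod_mul_distrib, ← pow_add, Nat.choose_succ_succ]

variable {G : Type*} [Group G] [Finite G] {p : ℕ} [Fact p.Prime]

omit [Finite G] [Fact p.Prime] in
theorem mem_sylow_of_mem_normalizer (P : Sylow p G) {z : G}
    (hz : z ∈ normalizer ((P : Subgroup G) : Set G)) {k : ℕ} (hk : z ^ p ^ k = 1) :
    z ∈ (P : Subgroup G) := by
  have hp : IsPGroup p (zpowers z) := by
    rintro ⟨w, hw⟩
    obtain ⟨i, rfl⟩ := mem_zpowers_iff.1 hw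
    refine ⟨k, Subtype.ext ?_⟩
    show (z ^ i) ^ p ^ k = 1
    rw [← zpow_natCast, ← zpow_mul, mul_comm, zpow_mul, zpow_natCast, hk, one_zpow]
  have h1 : IsPGroup p (zpowers z ⊔ (P : Subgroup G) : Subgroup G) :=
    hp.to_sup_of_normal_right' P.2 (zpowers_le.2 hz)
  rw [← P.3 h1 le_sup_right]
  exact mem_sup_left (mem_zpowers z)

set_option maxHeartbeats 1000000 in
/-- If `E` lies in the kernel of the transfer, it meets `N(P)` inside the kernel of `φ`. -/
theorem apply_eq_one_of_class_lt (P : Sylow p G)
    (hcl : (P : Subgroup G).lowerCentralSeries (p - 1) = ⊥) {A : Type*} [CommGroup A]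
    (hA : ∀ a : A, a ^ p = 1) (φ : normalizer ((P : Subgroup G) : Set G) →* A)
    (E : Subgroup G) [E.Normal] (hE : E ≤ (MonoidHom.transfer φ).ker) :
    ∀ (z : normalizer ((P : Subgroup G) : Set G)), (z : G) ∈ E → (z : G) ∈ (P : Subgroup G) →
      φ z = 1 := by
  classical
  suffices ∀ (n : ℕ) (z : normalizer ((P : Subgroup G) : Set G)), orderOf (z : G) = n →
      (z : G) ∈ E → (z : G) ∈ (P : Subgroup G) → φ z = 1 from fun z => this _ z rfl
  intro n
  induction n using Nat.strong_induction_on with
  | _ n IH =>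
    rintro ⟨x, hxN⟩ hxn hxE hxP
    simp only at hxn hxE hxP
    have : Fintype (G ⧸ normalizer ((P : Subgroup G) : Set G)) := Fintype.ofFinite _
    obtain ⟨e, he⟩ := P.2 ⟨x, hxP⟩
    replace he : x ^ p ^ e = 1 := congrArg Subtype.val he
    -- terms from long orbits vanish
    have hsmall : ∀ (y g : G) (m : ℕ), y ∈ E → orderOf y = n → y ^ p ^ e = 1 → m ≠ 1 →
        m ∣ orderOf y → ∀ h : g⁻¹ * y ^ m * g ∈ normalizer ((P : Subgroup G) : Set G),
          φ ⟨_, h⟩ = 1 := by
      intro y g m hy hyn hye hm hmd h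
      have hz : orderOf (g⁻¹ * y ^ m * g) = orderOf (y ^ m) := by
        have := MulEquiv.orderOf_eq (MulAut.conj g⁻¹) (y ^ m)
        simpa using this
      have hlt : orderOf (g⁻¹ * y ^ m * g) < n := by
        rw [hz, orderOf_pow_of_dvd (fun h0 => ?_) hmd, ← hyn]
        · refine Nat.div_lt_self (orderOf_pos y) ?_
          have : m ≠ 0 := fun h0 => (orderOf_pos y).ne' (zero_dvd_iff.1 (h0 ▸ hmd))
          omega
        · exact (orderOf_pos y).ne' (zero_dvd_iff.1 (h0 ▸ hmd))
      refine IH _ hlt ⟨_, h⟩ rfl ?_ ?_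
      · have h1 := (inferInstance : E.Normal).conj_mem _ (pow_mem hy m) g⁻¹
        simpa using h1
      · refine mem_sylow_of_mem_normalizer P h (k := e) ?_
        have h1 : (MulAut.conj g⁻¹ (y ^ m)) ^ p ^ e = 1 := by
          rw [← map_pow, ← pow_mul, mul_comm, pow_mul, hye, one_pow, map_one]
        simpa using h1
    have hzero : MonoidHom.transfer φ x = 1 := hE hxE
    rw [transfer_eq_prod_fixedVal φ x (fun g m => hsmall x g m hxE hxn he)] at hzero
    set u₀ : G ⧸ normalizer ((P : Subgroup G) : Set G) := QuotientGroup.mk 1 with hu₀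
    have h0 : (1 : G)⁻¹ * x * 1 ∈ normalizer ((P : Subgroup G) : Set G) := by simpa using hxN
    rw [Fintype.prod_eq_mul_prod_compl u₀] at hzero
    suffices hrest : ∏ u ∈ ({u₀}ᶜ : Finset _), fixedVal φ x u = 1 by
      rw [hrest, mul_one, hu₀, fixedVal_mk φ h0] at hzero
      rw [← hzero]
      congr 1
      apply Subtype.ext
      simp
    -- group the cosets by `P`-orbits
    rw [← Finset.prod_fiberwise_of_maps_to (g := fun u => orbit (P : Subgroup G) u)
      (t := ({u₀}ᶜ : Finset _).image fun u => orbit (P : Subgroup G) u)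
      (fun u hu => Finset.mem_image_of_mem _ hu)]
    refine Finset.prod_eq_one fun O hO => ?_
    obtain ⟨u, hu, rfl⟩ := Finset.mem_image.1 hO
    rw [Finset.mem_compl, Finset.mem_singleton] at hu
    -- only `u₀` is fixed by `P`
    have hnfix : ∃ a : (P : Subgroup G), a • u ≠ u := by
      by_contra hall
      push Not at hall
      apply hu
      obtain ⟨g, rfl⟩ := QuotientGroup.mk_surjective u
      rw [hu₀, QuotientGroup.eq, mul_one, inv_mem_iff]
      have hle : ((g⁻¹ • P : Sylow p G) : Subgroup G) ≤
          normalizer ((P : Subgroup G) : Set G) := by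
        rintro _ ⟨a, ha, rfl⟩
        have h1 : a • (g : G ⧸ normalizer ((P : Subgroup G) : Set G)) =
            (g : G ⧸ normalizer ((P : Subgroup G) : Set G)) := hall ⟨a, ha⟩
        rw [smul_mk_eq_iff] at h1
        simpa using h1
      have h2 : g⁻¹ • P = P := by
        apply Sylow.ext
        have h3 : ((g⁻¹ • P : Sylow p G) : Subgroup G) ⊓ normalizer ((P : Subgroup G) : Set G) =
            ((g⁻¹ • P : Sylow p G) : Subgroup G) ⊓ (P : Subgroup G) :=
          (g⁻¹ • P).2.inf_normalizer_sylow P
        rw [inf_eq_left.2 hle] at h3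
        exact ((g⁻¹ • P).3 P.2 (inf_eq_left.1 h3.symm)).symm
      rw [Sylow.smul_eq_iff_mem_normalizer] at h2
      exact inv_mem_iff.1 h2
    have hufix : u₀ ∉ orbit (P : Subgroup G) u := by
      intro hmem
      obtain ⟨a, ha⟩ := hnfix
      apply ha
      have hu0fix : ∀ b : (P : Subgroup G), b • u₀ = u₀ := fun b => by
        show (b : G) • u₀ = u₀
        rw [hu₀, smul_mk_eq_iff]
        simpa using le_normalizer b.2
      have : u = u₀ := by
        obtain ⟨b, hb⟩ := hmem
        have h1 : b⁻¹ • u₀ = u := by rw [← hb]; exact inv_smul_smul b u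
        rw [hu0fix] at h1
        exact h1.symm
      exact absurd this hu
    have hset : (({u₀}ᶜ : Finset _).filter fun v => orbit (P : Subgroup G) v =
        orbit (P : Subgroup G) u) = Finset.univ.filter fun v => v ∈ orbit (P : Subgroup G) u := by
      ext v
      simp only [Finset.mem_filter, Finset.mem_compl, Finset.mem_singleton, Finset.mem_univ,
        true_and, orbit_eq_iff]
      exact ⟨fun h => h.2, fun h => ⟨fun hv => hufix (hv ▸ h), h⟩⟩
    rw [hset]
    -- a maximal subgroup above the stabiliser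
    obtain ⟨M, hM, hDM⟩ := (IsCoatomic.eq_top_or_exists_le_coatom
      (stabilizer (P : Subgroup G) u)).resolve_left (fun h => by
        obtain ⟨a, ha⟩ := hnfix
        exact ha (h ▸ mem_top a : a ∈ stabilizer (P : Subgroup G) u))
    have : Group.IsNilpotent (P : Subgroup G) := P.2.isNilpotent
    have hMn : M.Normal :=
      NormalizerCondition.normal_of_coatom M Group.normalizerCondition_of_isNilpotent hM
    by_cases hxM : (⟨x, hxP⟩ : (P : Subgroup G)) ∈ M
    swap
    · refine Finset.prod_eq_one fun v hv => fixedVal_eq_one φ fun hfix => hxM ?_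
      obtain ⟨a, rfl⟩ := (Finset.mem_filter.1 hv).2
      have : a⁻¹ * ⟨x, hxP⟩ * a ∈ stabilizer (P : Subgroup G) u := by
        show (a⁻¹ * ⟨x, hxP⟩ * a) • u = u
        rw [mul_smul, mul_smul, inv_smul_eq_iff]
        exact hfix
      have h1 := hMn.conj_mem _ (hDM this) a
      simpa [mul_assoc] using h1
    obtain ⟨t, ht⟩ : ∃ t : (P : Subgroup G), t ∉ M := by
      by_contra h
      push Not at h
      exact hM.1 ((eq_top_iff' M).2 h)
    have hindex : M.index = p := CfsgLib.Solvable.index_coatom P.2 hM
    have htord : orderOf (QuotientGroup.mk' M t) = p := by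
      refine orderOf_eq_prime ?_ fun h => ht ((QuotientGroup.eq_one_iff t).1 h)
      have h1 : QuotientGroup.mk' M t ^ Nat.card ((P : Subgroup G) ⧸ M) = 1 := pow_card_eq_one'
      rwa [show Nat.card ((P : Subgroup G) ⧸ M) = p from hindex] at h1
    have hcard : Nat.card ((P : Subgroup G) ⧸ M) = p := hindex
    -- the orbit is the union of `p` translates of an `M`-orbit
    set S := Finset.univ.filter fun v => v ∈ orbit M u with hS
    have hsplit : Finset.univ.filter (fun v => v ∈ orbit (P : Subgroup G) u) =
        (Finset.range p).biUnion fun i => S.image fun v => t ^ i • v := by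
      ext v
      simp only [Finset.mem_filter, Finset.mem_univ, true_and, Finset.mem_biUnion,
        Finset.mem_image, Finset.mem_range, hS]
      constructor
      · rintro ⟨a, rfl⟩
        have htop : zpowers (QuotientGroup.mk' M t) = ⊤ := by
          apply eq_top_of_card_eq
          rw [Nat.card_zpowers, htord, hcard]
        have ha : QuotientGroup.mk' M a ∈ zpowers (QuotientGroup.mk' M t) := htop ▸ mem_top _
        rw [← mem_powers_iff_mem_zpowers, mem_powers_iff_mem_range_orderOf, htord,
          Finset.mem_image] at ha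
        obtain ⟨i, hi, hia⟩ := ha
        rw [Finset.mem_range] at hi
        rw [← map_pow, QuotientGroup.mk'_apply, QuotientGroup.mk'_apply, QuotientGroup.eq] at hia
        refine ⟨i, hi, ((⟨_, hia⟩ : M) • u), ⟨_, rfl⟩, ?_⟩
        show t ^ i • (((t ^ i)⁻¹ * a) • u) = a • u
        rw [← mul_smul, mul_inv_cancel_left]
      · rintro ⟨i, -, w, ⟨m, rfl⟩, rfl⟩
        exact ⟨t ^ i * m, mul_smul _ _ _⟩
    have hdisj : (↑(Finset.range p) : Set ℕ).PairwiseDisjoint
        fun i => S.image fun v => t ^ i • v := by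
      intro i hi j hj hij
      rw [Function.onFun, Finset.disjoint_left]
      simp only [Finset.mem_image, hS, Finset.mem_filter, Finset.mem_univ, true_and]
      rintro v ⟨w, ⟨m, rfl⟩, rfl⟩ ⟨w', ⟨m', rfl⟩, hw'⟩
      apply hij
      have hst : ((m : (P : Subgroup G))⁻¹ * ((t ^ i)⁻¹ * (t ^ j * m'))) • u = u := by
        rw [mul_smul, mul_smul, mul_smul]
        simp only [inv_smul_eq_iff]
        exact hw'
      have h1 : (t ^ i)⁻¹ * t ^ j ∈ M := by
        have h2 := mul_mem (mul_mem m.2 (hDM hst)) (inv_mem m'.2)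
        simpa [mul_assoc] using h2
      rw [← QuotientGroup.eq, ← QuotientGroup.mk'_apply, ← QuotientGroup.mk'_apply, map_pow,
        map_pow] at h1
      simp only [Finset.coe_range, Set.mem_Iio] at hi hj
      refine pow_injOn_Iio_orderOf (x := QuotientGroup.mk' M t) ?_ ?_ h1
      · rw [Set.mem_Iio, htord]; exact hi
      · rw [Set.mem_Iio, htord]; exact hj
    rw [hsplit, Finset.prod_biUnion hdisj]
    simp_rw [Finset.prod_image fun a _ b _ h => (MulAction.injective (t ^ _)) h]
    -- the transfer from the stabiliser to `M`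
    set D := stabilizer M u with hD
    let ψ : D →* A :=
      { toFun := fun d => φ ⟨u.out⁻¹ * (((d : M) : (P : Subgroup G)) : G) * u.out, by
          rw [← smul_mk_eq_iff, QuotientGroup.out_eq']; exact d.2⟩
        map_one' := by rw [← map_one φ]; congr 1; apply Subtype.ext; simp
        map_mul' := fun a b => by
          rw [← map_mul φ]; congr 1; apply Subtype.ext; simp [mul_assoc] }
    have : Fintype (M ⧸ D) := Fintype.ofFinite _
    set h := MonoidHom.transfer ψ
    have hhom : ∀ y : M, ((y : (P : Subgroup G)) : G) ∈ E →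
        orderOf ((y : (P : Subgroup G)) : G) = n → ((y : (P : Subgroup G)) : G) ^ p ^ e = 1 →
        ∏ v ∈ S, fixedVal φ ((y : (P : Subgroup G)) : G) v = h y := by
      intro y hyE hyn hye
      rw [transfer_eq_prod_fixedVal ψ y]
      · have : Fintype ↥(orbit M u) := Fintype.ofFinite _
        rw [Finset.prod_subtype S (p := fun v => v ∈ orbit M u) (F := ‹_›) (fun v => by simp [hS])
          (fun v => fixedVal φ ((y : (P : Subgroup G)) : G) v)]
        refine Fintype.prod_equiv (orbitEquivQuotientStabilizer M u) _ _ ?_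
        intro v
        obtain ⟨c, hc⟩ := QuotientGroup.mk_surjective (orbitEquivQuotientStabilizer M u v)
        have hv : (v : G ⧸ normalizer ((P : Subgroup G) : Set G)) = c • u := by
          rw [← MulAction.orbitEquivQuotientStabilizer_symm_apply (G := M) u c]
          show _ = Subtype.val ((orbitEquivQuotientStabilizer M u).symm (c : M ⧸ D))
          rw [hc, Equiv.symm_apply_apply]
        rw [← hc, hv]
        show fixedVal φ _ (((c : (P : Subgroup G)) : G) • u) = _
        rw [fixedVal_smul]
        by_cases hfx : c⁻¹ * y * c ∈ D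
        · rw [fixedVal_mk ψ hfx, fixedVal, dif_pos]
          · show φ ⟨_, _⟩ = φ ⟨_, _⟩
            congr 1
          · rw [← smul_mk_eq_iff, QuotientGroup.out_eq']
            exact hfx
        · rw [fixedVal_eq_one ψ (by rwa [ne_eq, smul_mk_eq_iff]), fixedVal_eq_one φ]
          exact hfx
      · intro g m hm hmd hmem
        have hord : orderOf y = orderOf ((y : (P : Subgroup G)) : G) := by
          rw [Subgroup.orderOf_coe, Subgroup.orderOf_coe]
        rw [hord] at hmd
        show φ ⟨_, _⟩ = 1
        have heq : u.out⁻¹ * (((g⁻¹ * y ^ m * g : M) : (P : Subgroup G)) : G) * u.out =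
            ((((g : (P : Subgroup G)) : G)) * u.out)⁻¹ * ((y : (P : Subgroup G)) : G) ^ m *
              (((g : (P : Subgroup G)) : G) * u.out) := by
          simp [mul_assoc]
        have hmem' : ((((g : (P : Subgroup G)) : G)) * u.out)⁻¹ *
            ((y : (P : Subgroup G)) : G) ^ m * (((g : (P : Subgroup G)) : G) * u.out) ∈
            normalizer ((P : Subgroup G) : Set G) := by
          rw [← heq, ← smul_mk_eq_iff, QuotientGroup.out_eq']
          exact hmem
        rw [← hsmall _ _ m hyE hyn hye hm hmd hmem']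
        congr 1
        exact Subtype.ext heq
    clear_value h
    -- the iterated commutators
    let xs : ℕ → (P : Subgroup G) := fun j =>
      Nat.rec (motive := fun _ => (P : Subgroup G)) ⟨x, hxP⟩ (fun _ w => w⁻¹ * (t⁻¹ * w * t)) j
    have hxs_succ : ∀ j, xs (j + 1) = (xs j)⁻¹ * (t⁻¹ * xs j * t) := fun j => rfl
    have hxsM : ∀ j i, (t ^ i)⁻¹ * xs j * t ^ i ∈ M := by
      have hc : ∀ (i : ℕ) (w : (P : Subgroup G)), w ∈ M → (t ^ i)⁻¹ * w * t ^ i ∈ M :=
        fun i w hw => by simpa using hMn.conj_mem w hw (t ^ i)⁻¹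
      have h0 : ∀ j, xs j ∈ M := by
        intro j
        induction j with
        | zero => exact hxM
        | succ j ih =>
          rw [hxs_succ]
          exact mul_mem (inv_mem ih) (by simpa using hc 1 _ ih)
      exact fun j i => hc i _ (h0 j)
    have hxsL : ∀ j, (xs j : G) ∈ (P : Subgroup G).lowerCentralSeries j := by
      intro j
      induction j with
      | zero => exact hxP
      | succ j ih =>
        rw [Subgroup.lowerCentralSeries_succ, hxs_succ]
        have h1 := commutator_mem_commutator (inv_mem ih) (inv_mem t.2)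
        rw [commutatorElement_def] at h1
        simpa [mul_assoc] using h1
    let a : ℕ → ℕ → A := fun j i => h ⟨_, hxsM j i⟩
    have ha : ∀ j i, a j (i + 1) = a j i * a (j + 1) i := by
      intro j i
      refine (congrArg h ?_).trans (map_mul h _ _)
      apply Subtype.ext
      show (t ^ (i + 1))⁻¹ * xs j * t ^ (i + 1) =
        ((t ^ i)⁻¹ * xs j * t ^ i) * ((t ^ i)⁻¹ * xs (j + 1) * t ^ i)
      rw [hxs_succ, pow_succ']
      group
    calc _ = ∏ i ∈ Finset.range p, a 0 i := by
          refine Finset.prod_congr rfl fun i _ => ?_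
          show ∏ v ∈ S, fixedVal φ x (((t ^ i : (P : Subgroup G)) : G) • v) = _
          simp_rw [fixedVal_smul]
          set y : M := ⟨_, hxsM 0 i⟩ with hy
          have hyval : ((y : (P : Subgroup G)) : G) =
              ((t ^ i : (P : Subgroup G)) : G)⁻¹ * x * ((t ^ i : (P : Subgroup G)) : G) := rfl
          rw [← hyval]
          refine hhom y ?_ ?_ ?_
          · rw [hyval]
            have h1 := (inferInstance : E.Normal).conj_mem x hxE
              ((t ^ i : (P : Subgroup G)) : G)⁻¹
            simpa using h1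
          · rw [hyval, ← hxn]
            generalize ((t ^ i : (P : Subgroup G)) : G) = w
            have := MulEquiv.orderOf_eq (MulAut.conj w⁻¹) x
            simpa using this
          · rw [hyval]
            generalize ((t ^ i : (P : Subgroup G)) : G) = w
            have h1 : (MulAut.conj w⁻¹ x) ^ p ^ e = 1 := by
              rw [← map_pow, he, map_one]
            simpa using h1
      _ = ∏ k ∈ Finset.range p, a (0 + k) 0 ^ p.choose (k + 1) := prod_shift a ha p 0
      _ = 1 := by
          refine Finset.prod_eq_one fun k hk => ?_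
          rw [Finset.mem_range] at hk
          rcases eq_or_ne (k + 1) p with hkp | hkp
          · have hx1 : xs (0 + k) = 1 := by
              apply Subtype.ext
              have h1 := hxsL k
              rw [show p - 1 = k by omega] at hcl
              rw [hcl, mem_bot] at h1
              rw [zero_add]
              exact h1
            have : a (0 + k) 0 = 1 := by
              show h ⟨_, _⟩ = 1
              refine (congrArg h ?_).trans (map_one h)
              apply Subtype.ext
              show (t ^ 0)⁻¹ * xs (0 + k) * t ^ 0 = 1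
              rw [zero_add] at hx1 ⊢
              simp [hx1]
            rw [this, one_pow]
          · obtain ⟨c, hc⟩ := (Fact.out : p.Prime).dvd_choose_self (Nat.succ_ne_zero k)
              (by omega : k + 1 < p)
            rw [hc, pow_mul, hA, one_pow]

end CfsgLib.SolvCrit.HallWielandt
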