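import Cfsg.Agent.SolvCrit.Hyperplanes
import Cfsg.Agent.GroupBasics.Lift
import Cfsg.Agent.Transfer.Tate
import Mathlib.GroupTheory.Transfer

/-!
# Existence of turns

`exists_turn`: if `M` is nilpotent, `N_G(P) = M`, the Sylow `2`-subgroup `P` has class two,
`C_G(Z(P)) ≤ M` and `Z(P)` is not weakly closed in `P`, then there is a turn.
-/

set_option autoImplicit false
set_option linter.unusedSectionVars false
set_option linter.style.haveILetI false

namespace CfsgLib.SolvCrit.Hyperplanes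

open Subgroup CfsgLib.Transfer

open scoped commutatorElement

variable {G : Type*} [Group G] [Finite G]

/-- Two commuting involutions acting on a group of odd order so that each of the three
involutions only fixes common fixed points act trivially. -/
theorem commute_of_three {Q : Type*} [Group Q] [Finite Q] {K : Subgroup Q} [K.Normal]
    (hodd : Odd (Nat.card K)) {a b : Q} (ha : a * a = 1) (hb : b * b = 1) (hab : a * b = b * a)
    (h : ∀ e : Q, e = a ∨ e = b ∨ e = a * b → ∀ x ∈ K, Commute e x → Commute a x ∧ Commute b x) :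
    ∀ x ∈ K, Commute a x := by
  have hai : a⁻¹ = a := inv_eq_of_mul_eq_one_right ha
  have hbi : b⁻¹ = b := inv_eq_of_mul_eq_one_right hb
  have hcj : ∀ e x : Q, x ∈ K → e * x * e⁻¹ ∈ K := fun e x hx => Normal.conj_mem inferInstance x hx e
  have hord : ∀ x ∈ K, Odd (orderOf x) := fun x hx =>
    hodd.of_dvd_nat (orderOf_dvd_natCard K hx)
  have key : ∀ i ∈ K, a * i * a⁻¹ = i⁻¹ → i = 1 := by
    intro i hi hinv
    set w := i⁻¹ * (b * i * b⁻¹) with hw
    have hwK : w ∈ K := K.mul_mem (K.inv_mem hi) (hcj b i hi)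
    have hbw : b * w * b⁻¹ = w⁻¹ := by
      rw [hw, hbi]
      calc b * (i⁻¹ * (b * i * b)) * b = b * i⁻¹ * b * i * (b * b) := by group
        _ = b * i⁻¹ * b * i := by rw [hb, mul_one]
        _ = b⁻¹ * i⁻¹ * b⁻¹ * i := by rw [hbi]
        _ = (i⁻¹ * (b * i * b))⁻¹ := by group
    obtain ⟨n, hn⟩ : ∃ n, (w⁻¹ ^ 2) ^ n = w⁻¹ :=
      exists_sq_pow_eq (by rw [orderOf_inv]; exact hord w hwK)
    set j := w⁻¹ ^ n with hj
    have hjK : j ∈ K := K.pow_mem (K.inv_mem hwK) n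
    have hjj : j * j = w⁻¹ := by rw [hj, ← pow_add, ← two_mul, pow_mul, hn]
    have hbj : b * j * b⁻¹ = j⁻¹ := by
      rw [hj, ← conj_pow, ← inv_pow]
      congr 1
      rw [show b * w⁻¹ * b⁻¹ = (b * w * b⁻¹)⁻¹ by group, hbw]
    set c := i * j⁻¹ with hc
    have hcK : c ∈ K := K.mul_mem hi (K.inv_mem hjK)
    have hbc : b * c * b⁻¹ = c := by
      calc b * c * b⁻¹ = i * w * (b * j * b⁻¹)⁻¹ := by rw [hc, hw]; group
        _ = i * w * (j * j) * j⁻¹ := by rw [hbj]; group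
        _ = c := by rw [hjj, hc, mul_inv_cancel_right]
    have hac : a * c * a⁻¹ = c := by
      have h1 := (h b (Or.inr (Or.inl rfl)) c hcK (mul_inv_eq_iff_eq_mul.1 hbc)).1
      rw [h1.eq, mul_inv_cancel_right]
    have haj : a * j * a⁻¹ = c⁻¹ * j⁻¹ * c⁻¹ := by
      calc a * j * a⁻¹ = (a * c * a⁻¹)⁻¹ * (a * i * a⁻¹) := by rw [hc]; group
        _ = c⁻¹ * i⁻¹ := by rw [hac, hinv]
        _ = c⁻¹ * j⁻¹ * c⁻¹ := by rw [hc]; group
    have hba : b * (a * j * a⁻¹) * b⁻¹ = (a * j * a⁻¹)⁻¹ := by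
      calc b * (a * j * a⁻¹) * b⁻¹ = (b * a) * j * (b * a)⁻¹ := by group
        _ = (a * b) * j * (a * b)⁻¹ := by rw [hab]
        _ = a * (b * j * b⁻¹) * a⁻¹ := by group
        _ = (a * j * a⁻¹)⁻¹ := by rw [hbj]; group
    rw [haj] at hba
    have hsw : c⁻¹ * j * c⁻¹ = c * j * c := by
      calc c⁻¹ * j * c⁻¹ = (b * c * b⁻¹)⁻¹ * (b * j * b⁻¹)⁻¹ * (b * c * b⁻¹)⁻¹ := by
            rw [hbc, hbj, inv_inv]
        _ = b * (c⁻¹ * j⁻¹ * c⁻¹) * b⁻¹ := by group
        _ = c * j * c := by rw [hba]; group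
    set x := c * c with hx
    have hjx : j * x * j⁻¹ = x⁻¹ := by
      have h1 : j = c * c * j * (c * c) := by
        calc j = c * (c⁻¹ * j * c⁻¹) * c := by group
          _ = c * (c * j * c) * c := by rw [hsw]
          _ = c * c * j * (c * c) := by group
      calc j * x * j⁻¹ = x⁻¹ * (x * j * x) * j⁻¹ := by group
        _ = x⁻¹ := by rw [hx, ← h1]; group
    have hjx2 : Commute (j ^ 2) x := by
      show j ^ 2 * x = x * j ^ 2
      calc j ^ 2 * x = j * (j * x * j⁻¹) * j := by rw [pow_two]; group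
        _ = j * x⁻¹ * j := by rw [hjx]
        _ = (j * x * j⁻¹)⁻¹ * j * j := by group
        _ = x * j ^ 2 := by rw [hjx, inv_inv, pow_two, mul_assoc]
    obtain ⟨m, hm⟩ := exists_sq_pow_eq (hord j hjK)
    have hjx' : Commute j x := hm ▸ hjx2.pow_left m
    rw [hjx'.eq, mul_inv_cancel_right] at hjx
    have hone : ∀ y ∈ K, y * y = 1 → y = 1 := fun y hy h2 => by
      obtain ⟨m, hm⟩ := exists_sq_pow_eq (hord y hy)
      rw [← hm, pow_two, h2, one_pow]
    have hc1 : c = 1 := hone c hcK (hone x (K.mul_mem hcK hcK)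
      (by nth_rw 2 [hjx]; rw [mul_inv_cancel]))
    have hij : i = j := mul_inv_eq_one.1 hc1
    have habi : Commute (a * b) i := by
      show a * b * i = i * (a * b)
      have h1 : b * i * b⁻¹ = i⁻¹ := hij ▸ hbj
      calc a * b * i = a * (b * i * b⁻¹) * a⁻¹ * (a * b) := by group
        _ = (a * i * a⁻¹)⁻¹ * (a * b) := by rw [h1]; group
        _ = i * (a * b) := by rw [hinv, inv_inv]
    have h2 := (h _ (Or.inr (Or.inr rfl)) i hi habi).1
    rw [h2.eq, mul_inv_cancel_right] at hinv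
    exact hone i hi (by nth_rw 2 [hinv]; rw [mul_inv_cancel])
  intro x hx
  have hq : x⁻¹ * (a * x * a⁻¹) = 1 := by
    refine key _ (K.mul_mem (K.inv_mem hx) (hcj a x hx)) ?_
    rw [hai]
    calc a * (x⁻¹ * (a * x * a)) * a = a * x⁻¹ * a * x * (a * a) := by group
      _ = a⁻¹ * x⁻¹ * a⁻¹ * x := by rw [ha, mul_one, hai]
      _ = (x⁻¹ * (a * x * a))⁻¹ := by group
  exact mul_inv_eq_iff_eq_mul.1 (inv_mul_eq_one.1 hq).symm

/-- An element of a nilpotent `M` acts on its Sylow subgroup `P` as an element of `P`. -/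
theorem exists_conj_eq {p : ℕ} [Fact p.Prime] {M : Subgroup G} [Group.IsNilpotent M]
    (P : Sylow p G) (hPM : (P : Subgroup G) ≤ M) {m : G} (hm : m ∈ M) :
    ∃ u ∈ (P : Subgroup G), ∀ x ∈ (P : Subgroup G), m * x * m⁻¹ = u * x * u⁻¹ := by
  set R : Sylow p M := P.subtype hPM with hR
  have hRc : (R : Subgroup M) = (P : Subgroup G).subgroupOf M := P.coe_subtype hPM
  haveI : (R : Subgroup M).Normal :=
    R.normal_of_normalizerCondition (Group.normalizerCondition_of_isNilpotent (G := M))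
  have hc := isComplement'_of_isPGroup_quotient R
    (hasNormalPComplement_iff.1 hasNormalPComplement_of_isNilpotent) isPGroup_quotient_pResidual
  obtain ⟨⟨⟨k, hk⟩, ⟨r, hr⟩⟩, hkr, -⟩ := hc.existsUnique (⟨m, hm⟩ : M)
  simp only at hkr
  have hr' : (r : G) ∈ (P : Subgroup G) := by
    rw [SetLike.mem_coe, hRc, mem_subgroupOf] at hr
    exact hr
  refine ⟨r, hr', fun x hx => ?_⟩
  have hn' : m = (k : G) * r := (congrArg Subtype.val hkr).symm
  have hy : (r : G) * x * (r : G)⁻¹ ∈ (P : Subgroup G) :=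
    mul_mem (mul_mem hr' hx) (inv_mem hr')
  have hcomm : (k : G) * (r * x * (r : G)⁻¹) = r * x * (r : G)⁻¹ * k :=
    congrArg Subtype.val (commute_of_normal_of_disjoint _ _ inferInstance inferInstance
      hc.disjoint k (⟨r * x * (r : G)⁻¹, hPM hy⟩ : M) hk
      (by rw [hRc, mem_subgroupOf]; exact hy)).eq
  rw [hn']
  calc (k : G) * r * x * ((k : G) * r)⁻¹ = (k : G) * (r * x * (r : G)⁻¹) * (k : G)⁻¹ := by group
    _ = (r : G) * x * (r : G)⁻¹ * k * (k : G)⁻¹ := by rw [hcomm]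
    _ = (r : G) * x * (r : G)⁻¹ := by group

/-- The kernel of the action of `N(D)` on the chain `D ≥ Z(D) ≥ Z(D)²`. -/
def chainKernel (D : Subgroup G) : Submonoid G where
  carrier := {g | g ∈ normalizer (D : Set G) ∧
    (∀ d ∈ D, g * d * g⁻¹ * d⁻¹ ∈ D ⊓ centralizer (D : Set G)) ∧
    ∀ w ∈ D ⊓ centralizer (D : Set G), ∃ v ∈ D ⊓ centralizer (D : Set G),
      g * w * g⁻¹ * w⁻¹ = v * v}
  one_mem' := ⟨one_mem _, fun d _ => by simp [Subgroup.one_mem], fun w _ => ⟨1, Subgroup.one_mem _, by simp⟩⟩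
  mul_mem' := by
    rintro g h ⟨hgN, hg1, hg2⟩ ⟨hhN, hh1, hh2⟩
    have hcW : ∀ w ∈ D ⊓ centralizer (D : Set G), g * w * g⁻¹ ∈ D ⊓ centralizer (D : Set G) := by
      intro w hw
      refine ⟨(mem_normalizer_iff.1 hgN w).1 hw.1, fun d hd => ?_⟩
      have := hw.2 _ ((mem_normalizer_iff''.1 hgN d).1 hd)
      calc d * (g * w * g⁻¹) = g * (g⁻¹ * d * g * w) * g⁻¹ := by group
        _ = g * (w * (g⁻¹ * d * g)) * g⁻¹ := by rw [this]
        _ = g * w * g⁻¹ * d := by group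
    refine ⟨mul_mem hgN hhN, fun d hd => ?_, fun w hw => ?_⟩
    · rw [show g * h * d * (g * h)⁻¹ * d⁻¹ =
        g * (h * d * h⁻¹ * d⁻¹) * g⁻¹ * (g * d * g⁻¹ * d⁻¹) by group]
      exact Subgroup.mul_mem _ (hcW _ (hh1 d hd)) (hg1 d hd)
    · obtain ⟨v, hv, e⟩ := hh2 w hw
      obtain ⟨v', hv', e'⟩ := hg2 w hw
      refine ⟨g * v * g⁻¹ * v', Subgroup.mul_mem _ (hcW v hv) hv', ?_⟩
      have hcomm : v' * (g * v * g⁻¹) = g * v * g⁻¹ * v' := (hcW v hv).2 v' hv'.1
      calc g * h * w * (g * h)⁻¹ * w⁻¹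
          = g * (h * w * h⁻¹ * w⁻¹) * g⁻¹ * (g * w * g⁻¹ * w⁻¹) := by group
        _ = g * v * g⁻¹ * (g * v * g⁻¹ * v') * v' := by rw [e, e']; group
        _ = g * v * g⁻¹ * (v' * (g * v * g⁻¹)) * v' := by rw [hcomm]
        _ = _ := by group

theorem chainKernel_inv {D : Subgroup G} {g : G} (hg : g ∈ chainKernel D) :
    g⁻¹ ∈ chainKernel D := by
  have h : g⁻¹ = g ^ (orderOf g - 1) :=
    inv_eq_of_mul_eq_one_right (by
      rw [← pow_succ', Nat.sub_add_cancel (orderOf_pos g), pow_orderOf_eq_one])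
  rw [h]
  exact (chainKernel D).pow_mem hg _

theorem chainKernel_conj {D : Subgroup G} {g l : G} (hg : g ∈ chainKernel D)
    (hl : l ∈ normalizer (D : Set G)) : l * g * l⁻¹ ∈ chainKernel D := by
  obtain ⟨hgN, hg1, hg2⟩ := hg
  have hcW : ∀ {l : G}, l ∈ normalizer (D : Set G) → ∀ w ∈ D ⊓ centralizer (D : Set G),
      l * w * l⁻¹ ∈ D ⊓ centralizer (D : Set G) := by
    intro l hl w hw
    refine ⟨(mem_normalizer_iff.1 hl w).1 hw.1, fun d hd => ?_⟩
    have := hw.2 _ ((mem_normalizer_iff''.1 hl d).1 hd)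
    calc d * (l * w * l⁻¹) = l * (l⁻¹ * d * l * w) * l⁻¹ := by group
      _ = l * (w * (l⁻¹ * d * l)) * l⁻¹ := by rw [this]
      _ = l * w * l⁻¹ * d := by group
  refine ⟨mul_mem (mul_mem hl hgN) (inv_mem hl), fun d hd => ?_, fun w hw => ?_⟩
  · rw [show l * g * l⁻¹ * d * (l * g * l⁻¹)⁻¹ * d⁻¹ =
      l * (g * (l⁻¹ * d * l) * g⁻¹ * (l⁻¹ * d * l)⁻¹) * l⁻¹ by group]
    exact hcW hl _ (hg1 _ ((mem_normalizer_iff''.1 hl d).1 hd))
  · obtain ⟨v, hv, e⟩ := hg2 (l⁻¹ * w * l) (by simpa using hcW (inv_mem hl) w hw)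
    refine ⟨l * v * l⁻¹, hcW hl v hv, ?_⟩
    calc l * g * l⁻¹ * w * (l * g * l⁻¹)⁻¹ * w⁻¹
        = l * (g * (l⁻¹ * w * l) * g⁻¹ * (l⁻¹ * w * l)⁻¹) * l⁻¹ := by group
      _ = _ := by rw [e]; group

/-- An element of odd order of the chain kernel of a `2`-group centralizes it. -/
theorem mem_centralizer_of_odd {D : Subgroup G} (hD : IsPGroup 2 D) {o : G}
    (ho : o ∈ chainKernel D) (hodd : Odd (orderOf o)) : o ∈ centralizer (D : Set G) := by
  obtain ⟨hN, h1, h2⟩ := ho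
  set W := D ⊓ centralizer (D : Set G) with hW
  have hWc : ∀ a ∈ W, ∀ b ∈ W, a * b = b * a := fun a ha b hb => hb.2 a ha.1
  have hWm : ∀ w ∈ W, o * w * o⁻¹ ∈ W := by
    intro w hw
    obtain ⟨v, hv, e⟩ := h2 w hw
    rw [show o * w * o⁻¹ = v * v * w by rw [← e]; group]
    exact W.mul_mem (W.mul_mem hv hv) hw
  have hcop : ∀ x ∈ D, (orderOf o).Coprime (orderOf x) := fun x hx => by
    obtain ⟨i, hi⟩ := hD ⟨x, hx⟩
    exact Nat.Coprime.coprime_dvd_right
      (orderOf_dvd_of_pow_eq_one (congrArg Subtype.val hi))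
      (Nat.Coprime.pow_right i hodd.coprime_two_right)
  -- the powers of `o`
  have hpow : ∀ (V : Subgroup G), V ≤ W → ∀ w ∈ W,
      (∀ n : ℕ, o ^ n * (o * w * o⁻¹ * w⁻¹) * (o ^ n)⁻¹ * (o * w * o⁻¹ * w⁻¹)⁻¹ ∈ V) →
      o * w * o⁻¹ * w⁻¹ ∈ V := by
    intro V hV w hw hfix
    set c := o * w * o⁻¹ * w⁻¹ with hc
    have hcW : c ∈ W := W.mul_mem (hWm w hw) (W.inv_mem hw)
    have hn : ∀ n : ℕ, o ^ n * w * (o ^ n)⁻¹ * w⁻¹ * (c ^ n)⁻¹ ∈ V := by
      intro n
      induction n with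
      | zero => simp [V.one_mem]
      | succ n ih =>
        have h3 := V.mul_mem (hfix n) ih
        have hc1 : c * (o ^ n * w * (o ^ n)⁻¹ * w⁻¹ * (c ^ n)⁻¹) =
            o ^ n * w * (o ^ n)⁻¹ * w⁻¹ * (c ^ n)⁻¹ * c := hWc _ hcW _ (hV ih)
        have e : o ^ n * c * (o ^ n)⁻¹ * c⁻¹ * (o ^ n * w * (o ^ n)⁻¹ * w⁻¹ * (c ^ n)⁻¹) =
            o ^ (n + 1) * w * (o ^ (n + 1))⁻¹ * w⁻¹ * (c ^ (n + 1))⁻¹ := by
          calc o ^ n * c * (o ^ n)⁻¹ * c⁻¹ * (o ^ n * w * (o ^ n)⁻¹ * w⁻¹ * (c ^ n)⁻¹)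
              = o ^ n * c * (o ^ n)⁻¹ * c⁻¹ *
                  (c * (o ^ n * w * (o ^ n)⁻¹ * w⁻¹ * (c ^ n)⁻¹)) * c⁻¹ := by
                rw [hc1]; group
            _ = o ^ n * c * (o ^ n)⁻¹ *
                  (o ^ n * w * (o ^ n)⁻¹ * w⁻¹ * ((c ^ n)⁻¹ * c⁻¹)) := by group
            _ = _ := by
              have e0 : ∀ d : G, o ^ n * c * (o ^ n)⁻¹ * (o ^ n * w * (o ^ n)⁻¹ * w⁻¹ * d) =
                  o ^ (n + 1) * w * (o ^ (n + 1))⁻¹ * w⁻¹ * d := fun d => by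
                rw [pow_succ, hc]; group
              rw [e0, ← mul_inv_rev, ← pow_succ']
        rwa [e] at h3
    have h4 := hn (orderOf o)
    simp only [pow_orderOf_eq_one, one_mul, inv_one, mul_one, mul_inv_cancel] at h4
    obtain ⟨m, hm⟩ := exists_pow_eq_self_of_coprime (hcop c hcW.1)
    rw [← hm]
    exact V.pow_mem (inv_mem_iff.1 h4) m
  -- `o` centralizes `W`
  have hfixW : ∀ w ∈ W, o * w * o⁻¹ * w⁻¹ = 1 := by
    have hlev : ∀ i : ℕ, ∀ w ∈ W, ∃ v ∈ W, o * w * o⁻¹ * w⁻¹ = v ^ 2 ^ i := by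
      intro i
      induction i with
      | zero => intro w hw; exact ⟨_, W.mul_mem (hWm w hw) (W.inv_mem hw), by simp⟩
      | succ i ih =>
        let V : Subgroup G :=
          { carrier := {u | ∃ v ∈ W, u = v ^ 2 ^ (i + 1)}
            one_mem' := ⟨1, W.one_mem, (one_pow _).symm⟩
            mul_mem' := by
              rintro _ _ ⟨v, hv, rfl⟩ ⟨v', hv', rfl⟩
              exact ⟨v * v', W.mul_mem hv hv', ((show Commute v v' from hWc v hv v' hv').mul_pow _).symm⟩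
            inv_mem' := by
              rintro _ ⟨v, hv, rfl⟩
              exact ⟨v⁻¹, W.inv_mem hv, (inv_pow v _).symm⟩ }
        have hVW : V ≤ W := by
          rintro _ ⟨v, hv, rfl⟩
          exact W.pow_mem hv _
        have hVo : ∀ u ∈ V, o * u * o⁻¹ ∈ V := by
          rintro _ ⟨v, hv, rfl⟩
          exact ⟨o * v * o⁻¹, hWm v hv, conj_pow.symm⟩
        intro w hw
        refine hpow V hVW w hw ?_
        obtain ⟨v, hv, e⟩ := ih w hw
        rw [e]
        intro n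
        induction n with
        | zero => simp [V.one_mem]
        | succ n ihn =>
          obtain ⟨u, hu, e2⟩ := h2 v hv
          have h5 : o * v ^ 2 ^ i * o⁻¹ * (v ^ 2 ^ i)⁻¹ ∈ V := by
            refine ⟨u, hu, ?_⟩
            rw [← conj_pow, ← inv_pow,
              ← (show Commute (o * v * o⁻¹) v⁻¹ from
                hWc _ (hWm v hv) _ (W.inv_mem hv)).mul_pow, e2, pow_succ', pow_mul, pow_two]
          have e3 : o ^ (n + 1) * v ^ 2 ^ i * (o ^ (n + 1))⁻¹ * (v ^ 2 ^ i)⁻¹ =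
              o * (o ^ n * v ^ 2 ^ i * (o ^ n)⁻¹ * (v ^ 2 ^ i)⁻¹) * o⁻¹ *
                (o * v ^ 2 ^ i * o⁻¹ * (v ^ 2 ^ i)⁻¹) := by
            rw [pow_succ']; group
          rw [e3]
          exact V.mul_mem (hVo _ ihn) h5
    intro w hw
    obtain ⟨N, hN'⟩ := IsPGroup.iff_card.1 hD
    obtain ⟨v, hv, e⟩ := hlev N w hw
    rw [e, ← hN']
    exact congrArg Subtype.val (pow_card_eq_one' (x := (⟨v, hv.1⟩ : D)))
  refine mem_centralizer_iff.2 fun d hd => ?_
  set c := o * d * o⁻¹ * d⁻¹ with hc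
  have hcW : c ∈ W := h1 d hd
  have hoc : Commute o c := mul_inv_eq_iff_eq_mul.1 (mul_inv_eq_one.1 (hfixW c hcW))
  have hn : ∀ n : ℕ, o ^ n * d * (o ^ n)⁻¹ = c ^ n * d := by
    intro n
    induction n with
    | zero => simp
    | succ n ih =>
      calc o ^ (n + 1) * d * (o ^ (n + 1))⁻¹ = o * (o ^ n * d * (o ^ n)⁻¹) * o⁻¹ := by
            rw [pow_succ']; group
        _ = o * c ^ n * d * o⁻¹ := by rw [ih]; group
        _ = c ^ n * o * d * o⁻¹ := by rw [(hoc.pow_right n).eq]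
        _ = c ^ n * (c * d) := by rw [hc]; group
        _ = c ^ (n + 1) * d := by rw [pow_succ]; group
  have h3 : c ^ orderOf o = 1 := by
    have := hn (orderOf o)
    rw [pow_orderOf_eq_one] at this
    simpa using this.symm
  obtain ⟨m, hm⟩ := exists_pow_eq_self_of_coprime (hcop c hcW.1)
  rw [h3, one_pow] at hm
  calc d * o = c * d * o := by rw [← hm, one_mul]
    _ = o * d := by rw [hc]; group

/-- If `Z(P)` is not weakly closed in `P`, there is a turn. -/
theorem exists_turn {M : Subgroup G} [Group.IsNilpotent M] (P : Sylow 2 G)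
    (hPM : (P : Subgroup G) ≤ M) (hNP : normalizer ((P : Subgroup G) : Set G) = M)
    (hC : Ctx (P : Subgroup G) M) {g : G}
    (hg : ((P : Subgroup G) ⊓ centralizer ((P : Subgroup G) : Set G)).map
      (MulAut.conj g).toMonoidHom ≤ (P : Subgroup G))
    (hgM : g ∉ M) :
    ∃ D k, Turn (P : Subgroup G) M D k := by
  haveI := Fact.mk Nat.prime_two
  set Z := (P : Subgroup G) ⊓ centralizer ((P : Subgroup G) : Set G) with hZ
  -- `Z ≤ g P g⁻¹`
  set Pg := (P : Subgroup G).map (MulAut.conj g).toMonoidHom with hPg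
  have hback : Z.map (MulAut.conj g⁻¹).toMonoidHom ≤ (P : Subgroup G) := by
    have hle : Z.map (MulAut.conj g⁻¹).toMonoidHom ≤ M := by
      rintro _ ⟨z, hz, rfl⟩
      refine hC.centralizer_le fun y hy => ?_
      have h := hz.2 _ (hg ⟨y, hy, rfl⟩)
      simp only [MulEquiv.coe_toMonoidHom, MulAut.conj_apply, inv_inv] at h ⊢
      calc y * (g⁻¹ * z * g) = g⁻¹ * (g * y * g⁻¹ * z) * g := by group
        _ = g⁻¹ * (z * (g * y * g⁻¹)) * g := by rw [h]
        _ = g⁻¹ * z * g * y := by group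
    have hp : IsPGroup 2 (Z.map (MulAut.conj g⁻¹).toMonoidHom) :=
      (P.2.to_le inf_le_left).map _
    have h1 : IsPGroup 2 (Z.map (MulAut.conj g⁻¹).toMonoidHom ⊔ (P : Subgroup G) : Subgroup G) :=
      hp.to_sup_of_normal_right' P.2 (hle.trans hNP.ge)
    exact le_sup_left.trans (P.3 h1 le_sup_right).le
  -- subgroups between `Z` and `P` are normalized by `P`
  have hPnorm : ∀ X : Subgroup G, Z ≤ X → X ≤ (P : Subgroup G) →
      (P : Subgroup G) ≤ normalizer (X : Set G) := by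
    intro X hZX hXP a ha
    refine mem_normalizer_iff_map_conj_eq.2 (eq_of_le_of_card_ge ?_
      (card_map_of_injective (MulAut.conj a).injective).ge)
    rintro _ ⟨d, hd, rfl⟩
    show a * d * a⁻¹ ∈ X
    rw [show a * d * a⁻¹ = ⁅a, d⁆ * d by simp [commutatorElement_def, mul_assoc]]
    exact X.mul_mem (hZX (hC.comm_mem_center ha (hXP hd))) hd
  set D₀ := (P : Subgroup G) ⊓ Pg with hD₀
  have hZD₀ : Z ≤ D₀ := le_inf inf_le_left fun z hz => mem_map_conj_iff.2 (by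
    simpa [mul_assoc] using hback ⟨z, hz, rfl⟩)
  have hD₀N : ¬ normalizer (D₀ : Set G) ≤ M := by
    intro hle
    have hPgN : Pg ≤ normalizer (D₀ : Set G) := by
      rintro _ ⟨a, ha, rfl⟩
      refine mem_normalizer_iff_map_conj_eq.2 (eq_of_le_of_card_ge ?_
        (card_map_of_injective (MulAut.conj _).injective).ge)
      rintro _ ⟨d, hd, rfl⟩
      obtain ⟨b, hb, rfl⟩ := hd.2
      show g * a * g⁻¹ * (g * b * g⁻¹) * (g * a * g⁻¹)⁻¹ ∈ D₀
      rw [show g * a * g⁻¹ * (g * b * g⁻¹) * (g * a * g⁻¹)⁻¹ =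
          g * ⁅a, b⁆ * g⁻¹ * (g * b * g⁻¹) by simp [commutatorElement_def, mul_assoc]]
      refine D₀.mul_mem ⟨hg ⟨_, hC.comm_mem_center ha hb, rfl⟩, ⟨_, ?_, rfl⟩⟩ hd
      exact (hC.comm_mem_center ha hb).1
    have h1 : IsPGroup 2 (Pg ⊔ (P : Subgroup G) : Subgroup G) :=
      (P.2.map _).to_sup_of_normal_right' P.2 ((hPgN.trans hle).trans hNP.ge)
    have h2 : Pg ≤ (P : Subgroup G) := le_sup_left.trans (P.3 h1 le_sup_right).le
    apply hgM
    rw [← hNP]
    exact mem_normalizer_iff_map_conj_eq.2 (eq_of_le_of_card_ge h2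
      (card_map_of_injective (MulAut.conj g).injective).ge)
  -- a maximal such subgroup
  obtain ⟨D, -, hDmax⟩ := (Set.toFinite {X : Subgroup G | Z ≤ X ∧ X ≤ (P : Subgroup G) ∧
    ¬ normalizer (X : Set G) ≤ M}).exists_le_maximal (a := D₀) ⟨hZD₀, inf_le_left, hD₀N⟩
  obtain ⟨hZD, hDP, hDN⟩ := hDmax.1
  have hmax : ∀ X : Subgroup G, D ≤ X → X ≤ (P : Subgroup G) → ∀ x ∈ X, x ∉ D →
      normalizer (X : Set G) ≤ M := by
    intro X hDX hXP x hx hxD
    by_contra hX
    exact hxD (hDmax.2 ⟨hZD.trans hDX, hXP, hX⟩ hDX hx)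
  have hCD : centralizer (D : Set G) ≤ M := (centralizer_le hZD).trans hC.centralizer_le
  set L := normalizer (D : Set G) with hL
  have hPL : (P : Subgroup G) ≤ L := hPnorm D hZD hDP
  have hDL : D ≤ L := hDP.trans hPL
  haveI hDn : (D.subgroupOf L).Normal :=
    (normal_subgroupOf_iff_le_normalizer hDL).2 le_rfl
  set π := QuotientGroup.mk' (D.subgroupOf L) with hπ
  have hπ1 : ∀ l : L, π l = 1 ↔ (l : G) ∈ D := fun l =>
    (QuotientGroup.eq_one_iff l).trans mem_subgroupOf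
  have hπeq : ∀ l l' : L, π l = π l' ↔ (l : G) * (l' : G)⁻¹ ∈ D := fun l l' => by
    rw [← mul_inv_eq_one, ← map_inv, ← map_mul, hπ1]
    rfl
  -- elements of `M` act trivially on `P/D`
  have hM : ∀ l : L, (l : G) ∈ M → ∀ p : L, (p : G) ∈ (P : Subgroup G) →
      Commute (π l) (π p) := by
    intro l hl p hp
    obtain ⟨u, hu, e⟩ := exists_conj_eq P hPM hl
    show π l * π p = π p * π l
    rw [← map_mul, ← map_mul, hπeq]
    show (l : G) * p * ((p : G) * l)⁻¹ ∈ D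
    rw [show (l : G) * p * ((p : G) * l)⁻¹ = (l : G) * p * (l : G)⁻¹ * (p : G)⁻¹ by group,
      e p hp]
    exact hZD (hC.comm_mem_center hu hp)
  -- Burnside in `L/D`
  let PL : Sylow 2 L := P.subtype hPL
  have hPLc : (PL : Subgroup L) = (P : Subgroup G).subgroupOf L := P.coe_subtype hPL
  let PQ : Sylow 2 (L ⧸ D.subgroupOf L) := PL.mapSurjective (QuotientGroup.mk'_surjective _)
  have hPQc : (PQ : Subgroup (L ⧸ D.subgroupOf L)) = (PL : Subgroup L).map π :=
    Sylow.coe_mapSurjective _ _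
  have hNC : normalizer ((PQ : Subgroup (L ⧸ D.subgroupOf L)) : Set (L ⧸ D.subgroupOf L)) ≤
      centralizer ((PQ : Subgroup (L ⧸ D.subgroupOf L)) : Set (L ⧸ D.subgroupOf L)) := by
    intro q hq
    obtain ⟨l, rfl⟩ := QuotientGroup.mk'_surjective (D.subgroupOf L) q
    have hlN : (l : G) ∈ normalizer ((P : Subgroup G) : Set G) := by
      refine mem_normalizer_iff_map_conj_eq.2 (eq_of_le_of_card_ge ?_
        (card_map_of_injective (MulAut.conj (l : G)).injective).ge)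
      rintro _ ⟨x, hx, rfl⟩
      have hxL : (⟨x, hPL hx⟩ : L) ∈ (PL : Subgroup L) := by
        rw [hPLc, mem_subgroupOf]; exact hx
      have h1 := (mem_normalizer_iff.1 hq (π ⟨x, hPL hx⟩)).1 (by
        rw [hPQc]; exact mem_map_of_mem π hxL)
      rw [hPQc] at h1
      obtain ⟨y, hy, hye⟩ := h1
      have hy' : (y : G) ∈ (P : Subgroup G) := by
        rw [SetLike.mem_coe, hPLc, mem_subgroupOf] at hy; exact hy
      have h2 : π (l * ⟨x, hPL hx⟩ * l⁻¹) = π y := by rw [map_mul, map_mul, map_inv]; exact hye.symm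
      rw [hπeq] at h2
      have h3 := (P : Subgroup G).mul_mem (hDP h2) hy'
      simpa using h3
    rw [hNP] at hlN
    refine mem_centralizer_iff.2 fun y hy => ?_
    rw [SetLike.mem_coe, hPQc] at hy
    obtain ⟨p, hp, rfl⟩ := hy
    rw [SetLike.mem_coe, hPLc, mem_subgroupOf] at hp
    exact (hM l hlN p hp).eq.symm
  set K := (MonoidHom.transferSylow PQ hNC).ker with hK
  have hcompl : K.IsComplement' (PQ : Subgroup (L ⧸ D.subgroupOf L)) :=
    MonoidHom.ker_transferSylow_isComplement' PQ hNC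
  have hKodd : Odd (Nat.card K) :=
    Nat.odd_iff.2 (Nat.two_dvd_ne_zero.1 (not_dvd_card_of_isComplement' hcompl))
  -- lifts of odd order
  have hlift : ∀ q ∈ K, ∃ l : L, π l = q ∧ Odd (orderOf (l : G)) := by
    intro q hq
    have hqodd : Odd (orderOf q) := hKodd.of_dvd_nat (orderOf_dvd_natCard K hq)
    obtain ⟨n, hn⟩ := IsPGroup.iff_card.1 (P.2.to_le hDP)
    obtain ⟨l, hl, hlo⟩ := CfsgLib.GroupBasics.exists_lift_orderOf_eq q (by
      rw [Nat.card_congr (subgroupOfEquivOfLe hDL).toEquiv, hn]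
      exact Nat.Coprime.pow_left n hqodd.coprime_two_left)
    exact ⟨l, hl, by rw [orderOf_coe, hlo]; exact hqodd⟩
  have hPQmem : ∀ p : L, (p : G) ∈ (P : Subgroup G) → π p ∈ (PQ : Subgroup (L ⧸ D.subgroupOf L)) :=
    fun p hp => by rw [hPQc]; exact mem_map_of_mem π (by rw [hPLc, mem_subgroupOf]; exact hp)
  obtain ⟨l₀, hl₀K, hl₀M⟩ : ∃ l : L, π l ∈ K ∧ (l : G) ∉ M := by
    by_contra hcon
    push Not at hcon
    apply hDN
    intro x hx
    obtain ⟨⟨⟨q, hq⟩, ⟨r, hr⟩⟩, hqr, -⟩ := hcompl.existsUnique (π ⟨x, hx⟩)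
    simp only at hqr
    rw [SetLike.mem_coe, hPQc] at hr
    obtain ⟨p, hp, rfl⟩ := hr
    rw [SetLike.mem_coe, hPLc, mem_subgroupOf] at hp
    obtain ⟨l, rfl⟩ := QuotientGroup.mk'_surjective (D.subgroupOf L) q
    have h1 : π ⟨x, hx⟩ = π (l * p) := by rw [map_mul]; exact hqr.symm
    rw [hπeq] at h1
    have h1' : x * ((l : G) * p)⁻¹ ∈ M := hPM (hDP h1)
    have h2 := M.mul_mem h1' (M.mul_mem (hcon l hq) (hPM hp))
    rwa [inv_mul_cancel_right] at h2
  -- commuting with an element of `P \ D`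
  have hstep : ∀ b : L, (b : G) ∈ (P : Subgroup G) → (b : G) ∉ D → ∀ l : L,
      Commute (π b) (π l) → (l : G) ∈ M := by
    intro b hb hbD l hbl
    set D₁ := D ⊔ zpowers (b : G)
    refine hmax D₁ le_sup_left (sup_le hDP (zpowers_le.2 hb)) b
      (mem_sup_right (mem_zpowers _)) hbD ?_
    refine mem_normalizer_iff_map_conj_eq.2 (eq_of_le_of_card_ge ?_
      (card_map_of_injective (MulAut.conj (l : G)).injective).ge)
    rw [Subgroup.map_sup, MonoidHom.map_zpowers]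
    refine sup_le ?_ (zpowers_le.2 ?_)
    · rintro _ ⟨d, hd, rfl⟩
      exact mem_sup_left ((mem_normalizer_iff.1 l.2 d).1 hd)
    · show (l : G) * b * (l : G)⁻¹ ∈ D₁
      have h1 : π (l * b * l⁻¹) = π b := by
        rw [map_mul, map_mul, map_inv, ← hbl.eq, mul_inv_cancel_right]
      rw [hπeq] at h1
      have h2 := D₁.mul_mem (mem_sup_left h1 : _ ∈ D₁) (mem_sup_right (mem_zpowers (b : G)))
      simpa using h2
  -- squares lie in `D`
  have hsq : ∀ x ∈ (P : Subgroup G), x * x ∈ D := by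
    intro x hx
    by_contra hxD
    have hy : x * x ∈ (P : Subgroup G) := mul_mem hx hx
    set y : L := ⟨x * x, hPL hy⟩ with hydef
    have hyT : (y : G) ∈ chainKernel D := by
      refine ⟨y.2, fun d hd => ?_, fun w hw => ?_⟩
      · have h1 := hC.comm_mem_center hy (hDP hd)
        exact ⟨hZD h1, (centralizer_le hDP) h1.2⟩
      · have hn := hC.comm_mem_center hx (hDP hw.1)
        refine ⟨⁅x, w⁆, ⟨hZD hn, (centralizer_le hDP) hn.2⟩, ?_⟩
        have hnx : x * ⁅x, w⁆ = ⁅x, w⁆ * x := hn.2 x hx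
        show x * x * w * (x * x)⁻¹ * w⁻¹ = ⁅x, w⁆ * ⁅x, w⁆
        calc x * x * w * (x * x)⁻¹ * w⁻¹ = x * ⁅x, w⁆ * x⁻¹ * ⁅x, w⁆ := by
              rw [commutatorElement_def]; group
          _ = ⁅x, w⁆ * ⁅x, w⁆ := by rw [hnx, mul_inv_cancel_right]
    apply hl₀M
    refine hstep y hy hxD l₀ ?_
    set q := π l₀
    set j := π y * q * (π y)⁻¹ * q⁻¹ with hj
    have hjK : j ∈ K := K.mul_mem (Normal.conj_mem inferInstance q hl₀K _) (K.inv_mem hl₀K)
    obtain ⟨o, ho, hoodd⟩ := hlift j hjK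
    have hoT : (o : G) ∈ chainKernel D := by
      have h1 : π o = π (y * l₀ * y⁻¹ * l₀⁻¹) := by
        rw [ho, map_mul, map_mul, map_mul, map_inv, map_inv]
      rw [hπeq] at h1
      have hdT : ∀ d ∈ D, d ∈ chainKernel D := fun d hd => by
        refine ⟨hDL hd, fun e he => ?_, fun w hw => ⟨1, Subgroup.one_mem _, ?_⟩⟩
        · have h1 := hC.comm_mem_center (hDP hd) (hDP he)
          exact ⟨hZD h1, (centralizer_le hDP) h1.2⟩
        · rw [hw.2 d hd]; group
      have h2 : (o : G) = (o : G) * ((y * l₀ * y⁻¹ * l₀⁻¹ : L) : G)⁻¹ *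
          ((y : G) * ((l₀ : G) * (y : G)⁻¹ * (l₀ : G)⁻¹)) := by
        push_cast
        group
      rw [h2]
      exact (chainKernel D).mul_mem (hdT _ h1) ((chainKernel D).mul_mem hyT
        (chainKernel_conj (chainKernel_inv hyT) l₀.2))
    have hoM : (o : G) ∈ M :=
      hCD (mem_centralizer_of_odd (P.2.to_le hDP) hoT hoodd)
    have hjy : Commute j (π y) := ho ▸ hM o hoM y hy
    have hn : ∀ n : ℕ, (π y) ^ n * q * ((π y) ^ n)⁻¹ = j ^ n * q := by
      intro n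
      induction n with
      | zero => simp
      | succ n ih =>
        calc (π y) ^ (n + 1) * q * ((π y) ^ (n + 1))⁻¹
            = π y * ((π y) ^ n * q * ((π y) ^ n)⁻¹) * (π y)⁻¹ := by rw [pow_succ']; group
          _ = π y * j ^ n * q * (π y)⁻¹ := by rw [ih]; group
          _ = j ^ n * π y * q * (π y)⁻¹ := by rw [(hjy.pow_left n).eq]
          _ = j ^ n * (j * q) := by rw [hj]; group
          _ = j ^ (n + 1) * q := by rw [pow_succ]; group
    obtain ⟨i, hi⟩ := P.2 ⟨x * x, hy⟩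
    have hyi : (π y) ^ 2 ^ i = 1 := by
      rw [← map_pow, hπ1]
      show (x * x) ^ 2 ^ i ∈ D
      rw [show (x * x) ^ 2 ^ i = 1 from congrArg Subtype.val hi]
      exact D.one_mem
    have h3 := hn (2 ^ i)
    rw [hyi] at h3
    simp only [one_mul, inv_one, mul_one] at h3
    have hjodd : Odd (orderOf j) := hKodd.of_dvd_nat (orderOf_dvd_natCard K hjK)
    obtain ⟨m, hm⟩ := exists_pow_eq_self_of_coprime (x := j) (n := 2 ^ i)
      (Nat.Coprime.pow_left i hjodd.coprime_two_left)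
    rw [(mul_eq_right.1 h3.symm), one_pow] at hm
    show π y * q = q * π y
    rw [← mul_inv_eq_iff_eq_mul, ← mul_inv_eq_one, ← hj, ← hm]
  have hπsq : ∀ p : L, (p : G) ∈ (P : Subgroup G) → π p * π p = 1 := fun p hp => by
    rw [← map_mul, hπ1]; exact hsq p hp
  -- index two
  have hidx : ∀ a ∈ (P : Subgroup G), ∀ b ∈ (P : Subgroup G), a ∉ D → b ∉ D → a * b ∈ D := by
    intro a ha b hb haD hbD
    by_contra habD
    set a' : L := ⟨a, hPL ha⟩
    set b' : L := ⟨b, hPL hb⟩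
    apply hl₀M
    refine hstep a' ha haD l₀ (commute_of_three hKodd (hπsq a' ha) (hπsq b' hb) ?_ ?_ _ hl₀K)
    · rw [← map_mul, ← map_mul, hπeq]
      show a * b * (b * a)⁻¹ ∈ D
      rw [show a * b * (b * a)⁻¹ = ⁅a, b⁆ by rw [commutatorElement_def]; group]
      exact hZD (hC.comm_mem_center ha hb)
    · intro e he q hq hcomm
      obtain ⟨l, rfl⟩ := QuotientGroup.mk'_surjective (D.subgroupOf L) q
      have hlM : (l : G) ∈ M := by
        rcases he with rfl | rfl | rfl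
        · exact hstep a' ha haD l hcomm
        · exact hstep b' hb hbD l hcomm
        · exact hstep (a' * b') (mul_mem ha hb) habD l (by rw [map_mul]; exact hcomm)
      exact ⟨(hM l hlM a' ha).symm, (hM l hlM b' hb).symm⟩
  obtain ⟨t, ht, htD⟩ : ∃ t ∈ (P : Subgroup G), t ∉ D := by
    by_contra hcon
    push Not at hcon
    refine hDN ?_
    rw [hL, le_antisymm hDP hcon, hNP]
  set t' : L := ⟨t, hPL ht⟩ with ht'
  have hti : (π t')⁻¹ = π t' := inv_eq_of_mul_eq_one_right (hπsq t' ht)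
  set q := π l₀ with hq
  set y := q⁻¹ * (π t' * q * (π t')⁻¹) with hy
  have hyK : y ∈ K := K.mul_mem (K.inv_mem hl₀K) (Normal.conj_mem inferInstance q hl₀K _)
  have hinv : π t' * y * (π t')⁻¹ = y⁻¹ := by
    rw [hy, hti]
    calc π t' * (q⁻¹ * (π t' * q * π t')) * π t'
        = π t' * q⁻¹ * π t' * q * (π t' * π t') := by group
      _ = (π t')⁻¹ * q⁻¹ * (π t')⁻¹ * q := by rw [hπsq t' ht, mul_one, hti]
      _ = (q⁻¹ * (π t' * q * π t'))⁻¹ := by group
  obtain ⟨k, hk, hkodd⟩ := hlift y hyK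
  refine ⟨D, k, hDP, hZD, hidx, k.2, hkodd, fun hkM => ?_, t, ht, htD, ?_⟩
  · have h1 : Commute y (π t') := hk ▸ hM k hkM t' ht
    rw [← h1.eq, mul_inv_cancel_right] at hinv
    have hyodd : Odd (orderOf y) := hKodd.of_dvd_nat (orderOf_dvd_natCard K hyK)
    obtain ⟨m, hm⟩ := exists_sq_pow_eq hyodd
    have hy1 : y = 1 := by
      rw [← hm, pow_two]
      nth_rw 2 [hinv]
      rw [mul_inv_cancel, one_pow]
    exact hl₀M (hstep t' ht htD l₀ (mul_inv_eq_iff_eq_mul.1 (inv_mul_eq_one.1 hy1).symm))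
  · have h1 : π (t' * k * t'⁻¹ * k) = 1 := by
      rw [map_mul, map_mul, map_mul, map_inv, hk, hinv, inv_mul_cancel]
    exact (hπ1 _).1 h1

end CfsgLib.SolvCrit.Hyperplanes
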