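import Cfsg.Agent.SolvCrit.NilpotentMaximal
import Cfsg.Agent.SolvCrit.TurnExists
import Cfsg.Agent.Coprime.ActionHom
import Cfsg.Agent.Ward.Basic

/-!
# Nilpotent maximal invariant subgroups under coprime action

A finite group `G` acted on coprimely by `A` with a nilpotent maximal `A`-invariant subgroup whose
Sylow `2`-subgroups have class at most two is solvable. The only use of the odd order theorem is the
hypothesis that `A` or `G` is solvable.
-/

set_option linter.style.haveILetI false
set_option autoImplicit false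

namespace CfsgLib.SolvCrit

open Subgroup CfsgLib.Transfer

open scoped commutatorElement Pointwise

universe u v

section

variable {G : Type u} {A : Type v} [Group G] [Finite G] [Group A] (φ : A →* MulAut G)

/-- Invariance under the action. -/
def IsInvariant (X : Subgroup G) : Prop := ∀ a : A, ∀ x ∈ X, φ a x ∈ X

variable {φ}

theorem IsInvariant.map_eq {X : Subgroup G} (h : IsInvariant φ X) (a : A) :
    X.map (φ a : MulAut G).toMonoidHom = X :=
  eq_of_le_of_card_ge (by rintro _ ⟨x, hx, rfl⟩; exact h a x hx)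
    (card_map_of_injective (φ a : MulAut G).injective).ge

theorem IsInvariant.symm_mem {X : Subgroup G} (h : IsInvariant φ X) (a : A) {x : G} (hx : x ∈ X) :
    (φ a).symm x ∈ X := by
  have h1 : (φ a).symm = φ a⁻¹ := by rw [map_inv]; rfl
  rw [h1]
  exact h a⁻¹ x hx

theorem IsInvariant.inf {X Y : Subgroup G} (hX : IsInvariant φ X) (hY : IsInvariant φ Y) :
    IsInvariant φ (X ⊓ Y) := fun a x hx => ⟨hX a x hx.1, hY a x hx.2⟩

theorem IsInvariant.centralizer {X : Subgroup G} (hX : IsInvariant φ X) :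
    IsInvariant φ (Subgroup.centralizer (X : Set G)) := fun a x hx y hy => by
  have h := congrArg (φ a) (hx _ (hX.symm_mem a hy))
  simpa using h

theorem IsInvariant.normalizer {X : Subgroup G} (hX : IsInvariant φ X) :
    IsInvariant φ (Subgroup.normalizer (X : Set G)) := fun a g hg => by
  refine mem_normalizer_iff_map_conj_eq.2 (eq_of_le_of_card_ge ?_
    (card_map_of_injective (MulAut.conj (φ a g)).injective).ge)
  rintro _ ⟨x, hx, rfl⟩
  show φ a g * x * (φ a g)⁻¹ ∈ X
  have h := hX a _ ((mem_normalizer_iff.1 hg ((φ a).symm x)).1 (hX.symm_mem a hx))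
  simpa using h

theorem IsInvariant.sup {X Y : Subgroup G} (hX : IsInvariant φ X) (hY : IsInvariant φ Y) :
    IsInvariant φ (X ⊔ Y) := fun a x hx => by
  have h : (X ⊔ Y).map (φ a : MulAut G).toMonoidHom = X ⊔ Y := by
    rw [Subgroup.map_sup, hX.map_eq a, hY.map_eq a]
  rw [← h]
  exact ⟨x, hx, rfl⟩

theorem isInvariant_of_characteristic {X : Subgroup G} [hX : X.Characteristic] :
    IsInvariant φ X := fun a x hx => by
  have h := characteristic_iff_map_eq.1 hX (φ a)
  rw [← h]
  exact ⟨x, hx, rfl⟩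

end

open Hyperplanes in
/-- Images of turns under automorphisms fixing `P` and `M`. -/
theorem turn_map {G : Type u} [Group G] [Finite G] {P M D : Subgroup G} {k : G} (σ : MulAut G)
    (hP : P.map σ.toMonoidHom = P) (hM : M.map σ.toMonoidHom = M) (h : Turn P M D k) :
    Turn P M (D.map σ.toMonoidHom) (σ k) := by
  have hmem : ∀ {X : Subgroup G} {x : G}, x ∈ X → σ x ∈ X.map σ.toMonoidHom :=
    fun hx => ⟨_, hx, rfl⟩
  have hmem' : ∀ {X : Subgroup G} {x : G}, σ x ∈ X.map σ.toMonoidHom → x ∈ X := fun hx => by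
    obtain ⟨y, hy, e⟩ := hx
    exact σ.injective e ▸ hy
  have hPs : ∀ {x : G}, σ x ∈ P ↔ x ∈ P := fun {x} => by
    conv_lhs => rw [← hP]
    exact ⟨hmem', hmem⟩
  refine ⟨hP ▸ map_mono h.le, fun z hz => ?_, fun a ha b hb ha' hb' => ?_, ?_, ?_, ?_, ?_⟩
  · obtain ⟨y, rfl⟩ := σ.surjective z
    refine hmem (h.center_le ⟨hPs.1 hz.1, fun x hx => σ.injective ?_⟩)
    rw [map_mul, map_mul]
    exact hz.2 _ (hPs.2 hx)
  · obtain ⟨a, rfl⟩ := σ.surjective a
    obtain ⟨b, rfl⟩ := σ.surjective b
    rw [← map_mul]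
    exact hmem (h.index_two a (hPs.1 ha) b (hPs.1 hb) (fun h1 => ha' (hmem h1))
      (fun h1 => hb' (hmem h1)))
  · refine mem_normalizer_iff_map_conj_eq.2 (eq_of_le_of_card_ge ?_
      (card_map_of_injective (MulAut.conj (σ k)).injective).ge)
    rintro _ ⟨_, ⟨d, hd, rfl⟩, rfl⟩
    show σ k * σ d * (σ k)⁻¹ ∈ D.map σ.toMonoidHom
    rw [← map_inv, ← map_mul, ← map_mul]
    exact hmem (h.conj_mem hd)
  · exact (orderOf_injective σ.toMonoidHom σ.injective k).symm ▸ h.odd_order
  · intro hk
    rw [← hM] at hk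
    exact h.notMem (hmem' hk)
  · obtain ⟨t, ht, htD, htk⟩ := h.inverted
    refine ⟨σ t, hPs.2 ht, fun h1 => htD (hmem' h1), ?_⟩
    rw [← map_inv, ← map_mul, ← map_mul, ← map_mul]
    exact hmem htk

open Hyperplanes in
theorem linked_map {G : Type u} [Group G] [Finite G] {P M D E : Subgroup G} (σ : MulAut G)
    (hP : P.map σ.toMonoidHom = P) (hM : M.map σ.toMonoidHom = M) (h : Linked P M D E) :
    Linked P M (D.map σ.toMonoidHom) (E.map σ.toMonoidHom) := by
  obtain ⟨k, hk, y, ⟨d, hd, rfl⟩, hyE⟩ := h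
  refine ⟨σ k, turn_map σ hP hM hk, σ (k * d * k⁻¹ * d⁻¹), ⟨σ d, ⟨d, hd, rfl⟩, by simp⟩, ?_⟩
  rintro ⟨e, he, he'⟩
  exact hyE (σ.injective he' ▸ he)

open Hyperplanes in
/-- Under a coprime action on a nilpotent maximal invariant subgroup, the centre of the Sylow
`2`-subgroup is weakly closed. -/
theorem isWeaklyClosed_center {G : Type u} {A : Type v} [Group G] [Finite G] [Group A] [Finite A]
    {φ : A →* MulAut G} (hAodd : Odd (Nat.card A)) {M : Subgroup G} [Group.IsNilpotent M]
    (hMinv : IsInvariant φ M) (P : Sylow 2 G) (hPinv : IsInvariant φ (P : Subgroup G))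
    (hPM : (P : Subgroup G) ≤ M) (hMP : M ≤ normalizer ((P : Subgroup G) : Set G))
    (hP1 : (P : Subgroup G) ≠ ⊥)
    (hnorm : ∀ X : Subgroup G, IsInvariant φ X → X ≤ M → X ≠ ⊥ →
      M ≤ normalizer (X : Set G) → normalizer (X : Set G) = M)
    (hcl : ∀ a ∈ (P : Subgroup G), ∀ b ∈ (P : Subgroup G),
      ⁅a, b⁆ ∈ centralizer ((P : Subgroup G) : Set G)) :
    normalizer (((P : Subgroup G) ⊓ centralizer ((P : Subgroup G) : Set G) : Subgroup G) : Set G)
        = M ∧
      Cfsg.IsWeaklyClosed ((P : Subgroup G) ⊓ centralizer ((P : Subgroup G) : Set G))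
        (P : Subgroup G) := by
  set Z := (P : Subgroup G) ⊓ centralizer ((P : Subgroup G) : Set G) with hZ
  have hZinv : IsInvariant φ Z := hPinv.inf hPinv.centralizer
  -- subgroups between `Z` and `P` are normalized by `M`
  have hMnorm : ∀ X : Subgroup G, Z ≤ X → X ≤ (P : Subgroup G) → M ≤ normalizer (X : Set G) := by
    intro X hZX hXP m hm
    obtain ⟨w, hw, e⟩ := exists_conj_eq P hPM hm
    refine mem_normalizer_iff_map_conj_eq.2 (eq_of_le_of_card_ge ?_
      (card_map_of_injective (MulAut.conj m).injective).ge)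
    rintro _ ⟨d, hd, rfl⟩
    show m * d * m⁻¹ ∈ X
    rw [e d (hXP hd), show w * d * w⁻¹ = ⁅w, d⁆ * d by simp [commutatorElement_def, mul_assoc]]
    refine X.mul_mem (hZX ⟨?_, hcl w hw d (hXP hd)⟩) hd
    rw [commutatorElement_def]
    exact (P : Subgroup G).mul_mem ((P : Subgroup G).mul_mem ((P : Subgroup G).mul_mem hw (hXP hd))
      ((P : Subgroup G).inv_mem hw)) ((P : Subgroup G).inv_mem (hXP hd))
  have hZ1 : Z ≠ ⊥ := by
    haveI : Nontrivial (P : Subgroup G) := (nontrivial_iff_ne_bot _).2 hP1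
    haveI := P.2.isNilpotent
    obtain ⟨z, hz, hz1⟩ := (center (P : Subgroup G)).nontrivial_iff_exists_ne_one.1
      ((nontrivial_iff_ne_bot _).2 (Group.IsNilpotent.center_ne_bot (P : Subgroup G)))
    intro h0
    have hz' : (z : G) ∈ Z := ⟨z.2, fun c hc => congrArg Subtype.val (mem_center_iff.1 hz ⟨c, hc⟩)⟩
    rw [h0, mem_bot] at hz'
    exact hz1 (Subtype.ext hz')
  have hNP : normalizer ((P : Subgroup G) : Set G) = M := hnorm _ hPinv hPM hP1 hMP
  have hNZ : normalizer (Z : Set G) = M :=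
    hnorm Z hZinv (inf_le_left.trans hPM) hZ1 (hMnorm Z le_rfl inf_le_left)
  have hC : Ctx (P : Subgroup G) M :=
    ⟨P.2, hcl, (centralizer_le_normalizer _).trans hNZ.le⟩
  refine ⟨hNZ, inf_le_left, fun g hg => ?_⟩
  by_contra hne
  have hgM : g ∉ M := fun h => hne (mem_normalizer_iff_map_conj_eq.1 (hNZ.ge h))
  obtain ⟨D, k, hT⟩ := exists_turn P hPM hNP hC hg hgM
  -- the orbit of `D`
  set Df : A → Subgroup G := fun a => D.map (φ a : MulAut G).toMonoidHom with hDf
  have hTa : ∀ a, Turn (P : Subgroup G) M (Df a) (φ a k) := fun a =>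
    turn_map _ (hPinv.map_eq a) (hMinv.map_eq a) hT
  have hcomp : ∀ a b, (Df b).map (φ a : MulAut G).toMonoidHom = Df (a * b) := fun a b => by
    rw [hDf]
    simp only [Subgroup.map_map]
    congr 1
    ext x
    simp
  have hfree : ∀ a b, ¬ Linked (P : Subgroup G) M (Df a) (Df b) := by
    intro a b hab
    set c := b * a⁻¹ with hc
    have hca : c * a = b := by rw [hc, inv_mul_cancel_right]
    have h1 := linked_map (φ c) (hPinv.map_eq c) (hMinv.map_eq c) hab
    rw [hcomp, hcomp, hca] at h1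
    have h2 : Linked (P : Subgroup G) M (Df b) (Df a) := by
      obtain ⟨y, hy, hy'⟩ := linked_symm hC (hTa b) hab
      exact ⟨_, hTa b, y, hy, hy'⟩
    have h3 := eq_of_linked hC (hTa _) (hTa _) h1 h2
    -- `c²` fixes `Df a`, so `c` does
    rw [← hca, ← mul_assoc] at h3
    obtain ⟨n, hn⟩ := exists_sq_pow_eq (x := c)
      (hAodd.of_dvd_nat (orderOf_dvd_natCard c))
    have h4 : ∀ m : ℕ, Df ((c ^ 2) ^ m * a) = Df a := by
      intro m
      induction m with
      | zero => simp
      | succ m ih => rw [pow_succ', mul_assoc, ← hcomp, ih, hcomp, pow_two, h3]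
    have h5 := h4 n
    rw [hn, hca] at h5
    obtain ⟨k', hk', y, hy, hyE⟩ := hab
    exact hyE (h5 ▸ (hk'.mem_centre hC hy).1)
  set I := ⨅ a, Df a with hI
  have hID : I ≤ D := by
    refine (iInf_le Df 1).trans ?_
    rintro _ ⟨x, hx, rfl⟩
    simpa using hx
  have hZI : Z ≤ I := le_iInf fun a => (hTa a).center_le
  have hIinv : IsInvariant φ I := by
    intro a x hx
    rw [hI, mem_iInf] at hx ⊢
    intro b
    have h := hcomp a (a⁻¹ * b)
    rw [mul_inv_cancel_left] at h
    rw [← h]
    exact ⟨x, hx _, rfl⟩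
  have hkI : k ∈ normalizer (I : Set G) := by
    refine mem_normalizer_iff_map_conj_eq.2 (eq_of_le_of_card_ge ?_
      (card_map_of_injective (MulAut.conj k).injective).ge)
    rintro _ ⟨x, hx, rfl⟩
    show k * x * k⁻¹ ∈ I
    have hD1 : Df 1 = D := by
      rw [hDf]
      ext y
      simp
    have hy : k * x * k⁻¹ * x⁻¹ ∈ I := by
      rw [hI, mem_iInf]
      intro a
      by_contra h
      exact hfree 1 a ⟨k, hD1.symm ▸ hT, _, ⟨x, hD1.symm ▸ hID hx, rfl⟩, h⟩
    simpa using I.mul_mem hy hx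
  have hNI : normalizer (I : Set G) = M :=
    hnorm I hIinv ((hID.trans hT.le).trans hPM) (fun h => hZ1 (le_bot_iff.1 (h ▸ hZI)))
      (hMnorm I hZI (hID.trans hT.le))
  exact hT.notMem (hNI ▸ hkI)

/-- The main theorem; `hsolv` is the coprime odd order consequence. -/
theorem isSolvable_of_nilpotent_invariant
    (hT : ∀ (H : Type u) [Group H] [Finite H], ThompsonCriterion H)
    (A : Type v) [Group A] [Finite A]
    (hsolv : ∀ (H : Type u) [Group H] [Finite H], (Nat.card A).Coprime (Nat.card H) →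
      Group.IsSolvable A ∨ Group.IsSolvable H) :
    ∀ (n : ℕ) (G : Type u) [Group G] [Finite G], Nat.card G = n → ∀ (φ : A →* MulAut G),
      (Nat.card A).Coprime (Nat.card G) → ∀ M : Subgroup G, M ≠ ⊤ → IsInvariant φ M →
      (∀ H : Subgroup G, M ≤ H → H ≠ ⊤ → IsInvariant φ H → H = M) → Group.IsNilpotent M →
      (∀ a ∈ M, ∀ b ∈ M, ∀ c ∈ M, (∃ i : ℕ, a ^ 2 ^ i = 1) → (∃ i : ℕ, b ^ 2 ^ i = 1) →
        (∃ i : ℕ, c ^ 2 ^ i = 1) → ⁅a, b⁆ * c = c * ⁅a, b⁆) →
      Group.IsSolvable G := by
  intro n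
  induction n using Nat.strong_induction_on with
  | _ n ih =>
  intro G _ _ hn φ hAG M hMtop hMinv hmax hnil hcl
  haveI := hnil
  haveI hMs : Group.IsSolvable M := inferInstance
  by_cases hN : ∃ N : Subgroup G, N.Normal ∧ IsInvariant φ N ∧ N ≤ M ∧ N ≠ ⊥
  · obtain ⟨N, hNn, hNinv, hNM, hN1⟩ := hN
    haveI := hNn
    obtain ⟨φ', hφ'⟩ := CfsgLib.Ward.exists_quotient_action φ N hNinv
    have hlt : Nat.card (G ⧸ N) < n := by
      rw [← hn, card_eq_card_quotient_mul_card_subgroup N]
      exact lt_mul_of_one_lt_right Nat.card_pos ((one_lt_card_iff_ne_bot N).2 hN1)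
    have hker : (QuotientGroup.mk' N).ker ≤ M := by rwa [QuotientGroup.ker_mk']
    have hsurj := QuotientGroup.mk'_surjective N
    have hinv' : IsInvariant φ' (M.map (QuotientGroup.mk' N)) := by
      rintro a _ ⟨x, hx, rfl⟩
      exact ⟨φ a x, hMinv a x hx, (hφ' a x).symm⟩
    refine isSolvable_of_normal_of_quotient N
      (Group.isSolvable_of_isSolvable_injective (inclusion_injective hNM)) ?_
    refine ih _ hlt _ rfl φ'
      (hAG.coprime_dvd_right (card_quotient_dvd_card N)) _ ?_ hinv' ?_ ?_ ?_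
    · intro h
      apply hMtop
      rw [← comap_map_eq_self hker, h, comap_top]
    · intro H hMH hH hHinv
      have h1 : H.comap (QuotientGroup.mk' N) = M := by
        refine hmax _ ?_ (fun h => hH ?_) ?_
        · rw [← comap_map_eq_self hker]
          exact comap_mono hMH
        · rw [← map_comap_eq_self_of_surjective hsurj H, h, map_top_of_surjective _ hsurj]
        · intro a x hx
          show (QuotientGroup.mk' N) (φ a x) ∈ H
          have := hHinv a _ hx
          rwa [QuotientGroup.mk'_apply, hφ'] at this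
      rw [← h1, map_comap_eq_self_of_surjective hsurj]
    · exact Group.nilpotent_of_surjective _ ((QuotientGroup.mk' N).subgroupMap_surjective M)
    · -- lift two-elements
      have hlift : ∀ q ∈ M.map (QuotientGroup.mk' N), (∃ i : ℕ, q ^ 2 ^ i = 1) →
          ∃ x ∈ M, (∃ i : ℕ, x ^ 2 ^ i = 1) ∧ QuotientGroup.mk' N x = q := by
        rintro _ ⟨x, hx, rfl⟩ ⟨i, hi⟩
        set w := (Nat.card G).factorization 2
        set o := Nat.card G / 2 ^ w
        have hwo : 2 ^ w * o = Nat.card G := Nat.ordProj_mul_ordCompl_eq_self _ 2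
        have ho : ¬ 2 ∣ o := Nat.not_dvd_ordCompl Nat.prime_two Nat.card_pos.ne'
        obtain ⟨e, he⟩ := exists_pow_eq_self_of_coprime (x := QuotientGroup.mk' N x) (n := o)
          (Nat.Coprime.coprime_dvd_right (orderOf_dvd_of_pow_eq_one hi)
            (Nat.Coprime.pow_right i
              ((Nat.prime_two.coprime_iff_not_dvd.2 ho).symm)))
        refine ⟨(x ^ o) ^ e, M.pow_mem (M.pow_mem hx o) e, ⟨w, ?_⟩, by rw [map_pow, map_pow, he]⟩
        rw [← pow_mul, ← pow_mul,
          show o * (e * 2 ^ w) = Nat.card G * e by rw [← hwo]; ring, pow_mul, pow_card_eq_one',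
          one_pow]
      intro a ha b hb c hc ha2 hb2 hc2
      obtain ⟨x, hx, hx2, rfl⟩ := hlift a ha ha2
      obtain ⟨y, hy, hy2, rfl⟩ := hlift b hb hb2
      obtain ⟨z, hz, hz2, rfl⟩ := hlift c hc hc2
      rw [← map_commutatorElement, ← map_mul, ← map_mul, hcl x hx y hy z hz hx2 hy2 hz2]
  push Not at hN
  rcases eq_or_ne M ⊥ with rfl | hM1
  · -- no proper nontrivial invariant subgroup
    have hne : Nat.card G ≠ 1 := fun h => by
      haveI := (Nat.card_eq_one_iff_unique.1 h).1
      exact hMtop (Subsingleton.elim _ _)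
    obtain ⟨r, hr, hrd⟩ := Nat.exists_prime_and_dvd hne
    haveI := Fact.mk hr
    obtain ⟨R, hR⟩ := CfsgLib.Coprime.exists_invariant_sylow_hom φ hAG (hsolv G hAG) r
    have hRtop : (R : Subgroup G) = ⊤ := by
      by_contra h
      exact R.ne_bot_of_dvd_card hrd (hmax _ bot_le h hR)
    have hGr : IsPGroup r G := fun g => by
      obtain ⟨i, hi⟩ := R.2 ⟨g, hRtop ▸ mem_top g⟩
      exact ⟨i, congrArg Subtype.val hi⟩
    haveI := hGr.isNilpotent
    infer_instance
  have hnorm : ∀ X : Subgroup G, IsInvariant φ X → X ≤ M → X ≠ ⊥ →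
      M ≤ normalizer (X : Set G) → normalizer (X : Set G) = M := by
    intro X hXinv hXM hX hMX
    refine hmax _ hMX (fun h => hX ?_) hXinv.normalizer
    exact hN X (normalizer_eq_top_iff.1 h) hXinv hXM
  have hkey : ∀ r : ℕ, r.Prime → r ∣ Nat.card M →
      Cfsg.HasNormalPComplement r G ∧ ¬ r ∣ M.index := by
    intro r hr hrM
    haveI := Fact.mk hr
    let R : Sylow r M := default
    haveI : (R : Subgroup M).Normal :=
      R.normal_of_normalizerCondition (Group.normalizerCondition_of_isNilpotent (G := M))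
    set R' := (R : Subgroup M).map M.subtype with hR'
    have hR1 : R' ≠ ⊥ := by
      rw [hR', Ne, map_eq_bot_iff_of_injective _ M.subtype_injective]
      exact R.ne_bot_of_dvd_card hrM
    have hMN : M ≤ normalizer (R' : Set G) := by
      intro m hm
      refine mem_normalizer_iff_map_conj_eq.2 (eq_of_le_of_card_ge ?_
        (card_map_of_injective (MulAut.conj m).injective).ge)
      rintro _ ⟨_, ⟨a, ha, rfl⟩, rfl⟩
      exact ⟨⟨m, hm⟩ * a * ⟨m, hm⟩⁻¹, Normal.conj_mem inferInstance a ha _, by simp⟩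
    have hRinv : IsInvariant φ R' := by
      intro a x hx
      obtain ⟨y, hy, rfl⟩ := hx
      let z : M := ⟨φ a y, hMinv a y y.2⟩
      obtain ⟨i, hi⟩ := R.2 ⟨y, hy⟩
      have hi' : ((y : M) : G) ^ r ^ i = 1 := by
        have h1 : y ^ r ^ i = 1 := congrArg Subtype.val hi
        exact congrArg Subtype.val h1
      have hz : IsPGroup r (zpowers z) := by
        intro w
        obtain ⟨j, hj⟩ := mem_zpowers_iff.1 w.2
        refine ⟨i, Subtype.ext ?_⟩
        show ((w : M)) ^ r ^ i = 1
        rw [← hj, ← zpow_natCast, zpow_comm, zpow_natCast,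
          show z ^ r ^ i = 1 from Subtype.ext (by
            show (φ a y) ^ r ^ i = 1
            rw [← map_pow, hi', map_one]), one_zpow]
      have hle : zpowers z ≤ (R : Subgroup M) :=
        mem_sylow_of_isPGroup (M := ⊤) R (by rw [normalizer_eq_top]) hz le_top
      exact ⟨z, hle (mem_zpowers z), rfl⟩
    obtain ⟨P, hP⟩ := (R.2.map M.subtype).exists_le_sylow
    have hNR : normalizer (R' : Set G) = M := hnorm R' hRinv (map_subtype_le _) hR1 hMN
    have hPR : R' = (P : Subgroup G) := by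
      by_contra hne
      have hlt := lt_inf_normalizer P.2 (lt_of_le_of_ne hP hne)
      rw [hNR] at hlt
      have h2 : (R : Subgroup M) < ((P : Subgroup G) ⊓ M).subgroupOf M := by
        apply lt_of_le_of_ne
        · intro x hx; exact hlt.le ⟨x, hx, rfl⟩
        · intro he
          apply hlt.ne
          show (R : Subgroup M).map M.subtype = (P : Subgroup G) ⊓ M
          rw [he, subgroupOf_map_subtype, inf_eq_left.2 inf_le_right]
      exact h2.ne' (R.3 ((P.2.to_le inf_le_left).comap_subtype) h2.le)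
    have hPM : (P : Subgroup G) ≤ M := hPR ▸ map_subtype_le _
    have hMNP : M ≤ normalizer ((P : Subgroup G) : Set G) := hPR ▸ hMN
    have hPinv : IsInvariant φ (P : Subgroup G) := hPR ▸ hRinv
    have hP1 : (P : Subgroup G) ≠ ⊥ := hPR ▸ hR1
    refine ⟨?_, fun hd => P.not_dvd_index (hd.trans (index_dvd_of_le hPM))⟩
    by_cases h2 : r = 2
    · subst h2
      have hAodd : Odd (Nat.card A) := by
        rw [← Nat.not_even_iff_odd, even_iff_two_dvd]
        intro h
        exact absurd (hAG ▸ Nat.dvd_gcd h (hrM.trans (card_subgroup_dvd_card M)))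
          (by norm_num)
      have htwo : ∀ a ∈ (P : Subgroup G), ∃ i : ℕ, a ^ 2 ^ i = 1 := fun a ha => by
        obtain ⟨i, hi⟩ := P.2 ⟨a, ha⟩
        exact ⟨i, congrArg Subtype.val hi⟩
      obtain ⟨hNZ, hweak⟩ := isWeaklyClosed_center hAodd hMinv P hPinv hPM hMNP hP1 hnorm
        (fun a ha b hb c hc => (hcl a (hPM ha) b (hPM hb) c (hPM hc) (htwo a ha) (htwo b hb)
          (htwo c hc)).symm)
      refine hasNormalPComplement_of_controlsFusion_nilpotent P hPM ?_
      rw [← hNZ]
      exact controlsFusion_normalizer_of_weaklyClosed P hweak inf_le_right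
    · refine hT G r inferInstance h2 P ?_
      have hZne := centerThompson_ne_bot (p := r) P.2 hP1
      have hZinv : IsInvariant φ (Cfsg.centerThompsonOf r (P : Subgroup G)) := fun a x hx => by
        have h := map_centerThompson (φ a : MulAut G).toMonoidHom (φ a).injective r
          (P : Subgroup G)
        rw [hPinv.map_eq a] at h
        rw [← h]
        exact ⟨x, hx, rfl⟩
      rw [hnorm _ hZinv ((centerThompson_le r _).trans hPM) hZne
        (hMNP.trans (normalizer_le_normalizer_centerThompson r _))]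
      exact hasNormalPComplement_of_isNilpotent
  set K := ⨅ r : (Nat.card M).primeFactors, Cfsg.pResidual (r : ℕ) G with hK
  haveI hKn : K.Normal := normal_iInf_normal fun r => inferInstance
  have hKinv : IsInvariant φ K := by
    intro a x hx
    rw [hK, mem_iInf] at hx ⊢
    exact fun r => isInvariant_of_characteristic (φ := φ) a x (hx r)
  have hcop : (Nat.card M).Coprime (Nat.card K) := by
    rw [Nat.coprime_iff_gcd_eq_one]
    by_contra hg
    obtain ⟨r, hr, hrd⟩ := Nat.exists_prime_and_dvd hg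
    haveI := Fact.mk hr
    have hrM := hrd.trans (Nat.gcd_dvd_left _ _)
    refine hasNormalPComplement_iff.1 (hkey r hr hrM).1
      ((hrd.trans (Nat.gcd_dvd_right _ _)).trans (card_dvd_of_le ?_))
    exact iInf_le (fun r : (Nat.card M).primeFactors => Cfsg.pResidual (r : ℕ) G)
      ⟨r, Nat.mem_primeFactors.2 ⟨hr, hrM, Nat.card_pos.ne'⟩⟩
  have hKM : ¬ K ≤ M := by
    intro hle
    have hK1 : K = ⊥ := hN K hKn hKinv hle
    apply hMtop
    rw [← index_eq_one]
    by_contra hi
    obtain ⟨q, hq, hqi⟩ := Nat.exists_prime_and_dvd hi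
    haveI := Fact.mk hq
    obtain ⟨x, hx⟩ := exists_prime_orderOf_dvd_card' (G := G) q (hqi.trans M.index_dvd_card)
    have hxK : x ∈ K := by
      rw [hK, mem_iInf]
      intro r
      have hr := Nat.prime_of_mem_primeFactors r.2
      apply mem_pResidual_of_coprime
      rw [hx]
      refine (Nat.coprime_primes hq hr).2 fun h => ?_
      exact (hkey r hr (Nat.dvd_of_mem_primeFactors r.2)).2 (h ▸ hqi)
    rw [hK1, mem_bot] at hxK
    rw [hxK, orderOf_one] at hx
    exact hq.ne_one hx.symm
  have hKtop : K ⊔ M = ⊤ := by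
    by_contra h
    exact hKM ((hmax _ le_sup_right h (hKinv.sup hMinv)) ▸ le_sup_left)
  have hMK : M ≤ normalizer (K : Set G) := by rw [normalizer_eq_top]; exact le_top
  have hdisj : K ⊓ M = ⊥ := inf_comm M K ▸ CfsgLib.Coprime.inf_eq_bot_of_coprime hcop
  have hCK : K ⊓ centralizer (M : Set G) = ⊥ := by
    rw [← le_bot_iff, ← hdisj]
    refine le_inf inf_le_left (inf_le_right.trans ?_)
    exact (centralizer_le_normalizer _).trans (hnorm M hMinv le_rfl hM1 le_normalizer).le
  obtain ⟨r, hr, hrK⟩ : ∃ r, r.Prime ∧ r ∣ Nat.card K :=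
    Nat.exists_prime_and_dvd fun h => hKM ((card_eq_one.1 h).trans_le bot_le)
  haveI := Fact.mk hr
  obtain ⟨R, hR⟩ := CfsgLib.Coprime.exists_invariant_sylow hMK hcop (Or.inl hMs) r
  set R' := (R : Subgroup K).map K.subtype with hR'
  -- uniqueness makes `R'` invariant
  have hRinv : IsInvariant φ R' := by
    intro a x hx
    set S := R'.map (φ a : MulAut G).toMonoidHom with hS
    have hSK : S ≤ K := by
      rintro _ ⟨y, hy, rfl⟩
      exact hKinv a y (map_subtype_le _ hy)
    have hSc : Nat.card (S.subgroupOf K) = r ^ (Nat.card K).factorization r := by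
      rw [Nat.card_congr (subgroupOfEquivOfLe hSK).toEquiv, hS,
        card_map_of_injective (φ a : MulAut G).injective, hR',
        card_map_of_injective K.subtype_injective, R.card_eq_multiplicity]
    obtain ⟨g, hg⟩ := MulAction.exists_smul_eq K R (Sylow.ofCard _ hSc)
    have hgS : MulAut.conj (g : G) • R' = S := by
      have h1 := congrArg (fun Q : Sylow r K => (Q : Subgroup K).map K.subtype) hg
      simp only [Sylow.coe_ofCard, subgroupOf_map_subtype, inf_eq_left.2 hSK,
        Sylow.coe_subgroup_smul] at h1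
      rw [CfsgLib.Coprime.map_subtype_conj_smul] at h1
      exact h1
    have hSM : M ≤ normalizer (S : Set G) := by
      intro m hm
      refine mem_normalizer_iff_map_conj_eq.2 (eq_of_le_of_card_ge ?_
        (card_map_of_injective (MulAut.conj m).injective).ge)
      rintro _ ⟨_, ⟨y, hy, rfl⟩, rfl⟩
      refine ⟨(φ a).symm m * y * ((φ a).symm m)⁻¹,
        (mem_normalizer_iff.1 (hR (hMinv.symm_mem a hm)) y).1 hy, ?_⟩
      simp
    obtain ⟨c, hc, hcS⟩ :=
      CfsgLib.Coprime.exists_conj_eq_of_invariant hMK hcop (Or.inl hMs) hR hSM g.2 hgS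
    rw [hCK, mem_bot] at hc
    rw [hc, map_one, one_smul] at hcS
    rw [hcS]
    exact ⟨x, hx, rfl⟩
  have hRM : ¬ R' ≤ M := by
    intro hle
    have h1 : R' ≤ K ⊓ M := le_inf (map_subtype_le _) hle
    rw [hdisj, le_bot_iff, map_eq_bot_iff_of_injective _ K.subtype_injective] at h1
    exact R.ne_bot_of_dvd_card hrK h1
  have hd : R' ⊓ M = ⊥ := le_bot_iff.1 (hdisj ▸ inf_le_inf_right M (map_subtype_le _))
  have htop : R' ⊔ M = ⊤ := by
    by_contra h
    exact hRM ((hmax _ le_sup_right h (hRinv.sup hMinv)) ▸ le_sup_left)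
  have h1 := CfsgLib.Coprime.card_sup_eq hR hd
  have h2 := CfsgLib.Coprime.card_sup_eq hMK hdisj
  rw [htop, card_top] at h1
  rw [hKtop, card_top, h1] at h2
  have hRK : R' = K := eq_of_le_of_card_ge (map_subtype_le _)
    (Nat.eq_of_mul_eq_mul_right Nat.card_pos h2).ge
  have hKr : IsPGroup r K := by
    rw [← hRK]
    exact R.2.map _
  haveI := hKr.isNilpotent
  refine isSolvable_of_normal_of_quotient K inferInstance ?_
  haveI := hMs
  refine Group.isSolvable_of_surjective (f := (QuotientGroup.mk' K).comp M.subtype) ?_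
  intro x
  obtain ⟨g, rfl⟩ := QuotientGroup.mk'_surjective K x
  obtain ⟨k, hk, m, hm, rfl⟩ := CfsgLib.Coprime.exists_mul_of_mem_sup hMK (hKtop ▸ mem_top g)
  refine ⟨⟨m, hm⟩, ?_⟩
  show QuotientGroup.mk' K m = QuotientGroup.mk' K (k * m)
  rw [map_mul, show QuotientGroup.mk' K k = 1 from (QuotientGroup.eq_one_iff k).2 hk, one_mul]

/-- The form with the odd order theorem as a hypothesis and the class condition on Sylow subgroups. -/
theorem isSolvable_of_nilpotent_invariant_of_odd
    (hT : ∀ (H : Type u) [Group H] [Finite H], ThompsonCriterion H)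
    (hG : ∀ (H : Type u) [Group H] [Finite H], Odd (Nat.card H) → Group.IsSolvable H)
    (hA : ∀ (H : Type v) [Group H] [Finite H], Odd (Nat.card H) → Group.IsSolvable H)
    {G : Type u} {A : Type v} [Group G] [Finite G] [Group A] [Finite A] (φ : A →* MulAut G)
    (hcop : (Nat.card A).Coprime (Nat.card G)) (M : Subgroup G) (hMtop : M ≠ ⊤)
    (hMinv : ∀ a : A, ∀ m : G, m ∈ M → φ a m ∈ M)
    (hMmax : ∀ H : Subgroup G, M ≤ H → H ≠ ⊤ → (∀ a : A, ∀ h : G, h ∈ H → φ a h ∈ H) → H = M)
    (hnil : Group.IsNilpotent M)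
    (h2 : ∀ S : Sylow 2 ↥M, Group.nilpotencyClass ↥(S : Subgroup ↥M) ≤ 2) :
    Group.IsSolvable G := by
  refine isSolvable_of_nilpotent_invariant hT A (fun H _ _ h => ?_) _ G rfl φ hcop M hMtop hMinv
    hMmax hnil ?_
  · by_cases hev : Even (Nat.card A)
    · right
      refine hG H (Nat.not_even_iff_odd.1 fun hH => ?_)
      have := Nat.dvd_gcd (even_iff_two_dvd.1 hev) (even_iff_two_dvd.1 hH)
      rw [h] at this
      norm_num at this
    · exact Or.inl (hA A (Nat.not_even_iff_odd.1 hev))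
  · haveI := Fact.mk Nat.prime_two
    haveI := hnil
    let S : Sylow 2 M := default
    haveI : (S : Subgroup M).Normal :=
      S.normal_of_normalizerCondition (Group.normalizerCondition_of_isNilpotent (G := M))
    haveI := S.2.isNilpotent
    have hmem : ∀ a : M, (∃ i : ℕ, (a : G) ^ 2 ^ i = 1) → a ∈ (S : Subgroup M) := by
      rintro a ⟨i, hi⟩
      refine mem_sylow_of_isPGroup (M := ⊤) S (by rw [normalizer_eq_top]) ?_ le_top (mem_zpowers a)
      intro w
      obtain ⟨j, hj⟩ := mem_zpowers_iff.1 w.2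
      refine ⟨i, Subtype.ext ?_⟩
      show (w : M) ^ 2 ^ i = 1
      rw [← hj, ← zpow_natCast, zpow_comm, zpow_natCast,
        show a ^ 2 ^ i = 1 from Subtype.ext hi, one_zpow]
    intro a ha b hb c hc ha2 hb2 hc2
    exact congrArg (fun x : (S : Subgroup M) => ((x : M) : G))
      (commutatorElement_comm_of_class_two (h2 S) (⟨⟨a, ha⟩, hmem _ ha2⟩ : (S : Subgroup M))
        ⟨⟨b, hb⟩, hmem _ hb2⟩ ⟨⟨c, hc⟩, hmem _ hc2⟩)

end CfsgLib.SolvCrit
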