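import Cfsg.Agent.SolvCrit.AbelianMaximal
import Cfsg.Agent.SolvCrit.ZJBasic
import Cfsg.Agent.Transfer.Tate

/-!
# Finite groups with a nilpotent maximal subgroup

Thompson's theorem (nilpotent maximal subgroup of odd order) and its extension by Deskins and
Janko (class at most two), with the Glauberman--Thompson normal `p`-complement criterion as a
hypothesis.

* `controlsFusion_of_normalizer_eq`: the even prime.
* `isSolvable_of_nilpotent_coatom`.
-/

set_option linter.style.haveILetI false

namespace CfsgLib.SolvCrit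

open Subgroup CfsgLib.Transfer

open scoped commutatorElement

universe u

/-- The Glauberman--Thompson criterion, as a property of a group. -/
def ThompsonCriterion (G : Type u) [Group G] : Prop :=
  ∀ p : ℕ, Fact p.Prime → p ≠ 2 → ∀ P : Sylow p G,
    Cfsg.HasNormalPComplement p ↥(normalizer (Cfsg.centerThompsonOf p (P : Subgroup G) : Set G)) →
    Cfsg.HasNormalPComplement p G

/-- If `M` normalizes a Sylow subgroup `P ≤ M`, all `p`-elements of `M` lie in `P`. -/
theorem mem_sylow_of_isPGroup {G : Type u} [Group G] {p : ℕ} {M : Subgroup G} (P : Sylow p G)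
    (hMN : M ≤ normalizer ((P : Subgroup G) : Set G)) {Q : Subgroup G} (hQ : IsPGroup p Q)
    (hQM : Q ≤ M) : Q ≤ (P : Subgroup G) := by
  have h1 : IsPGroup p (Q ⊔ (P : Subgroup G) : Subgroup G) :=
    hQ.to_sup_of_normal_right' P.2 (hQM.trans hMN)
  exact le_sup_left.trans (P.3 h1 le_sup_right).le

/-- A group of class at most two has central commutators. -/
theorem commutatorElement_comm_of_class_two {M : Type u} [Group M] [Group.IsNilpotent M]
    (hcl : Group.nilpotencyClass M ≤ 2) (a b c : M) : ⁅a, b⁆ * c = c * ⁅a, b⁆ := by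
  rw [← commutatorElement_eq_one_iff_mul_comm]
  have h : (⊤ : Subgroup M).lowerCentralSeries 2 = ⊥ :=
    _root_.lowerCentralSeries_eq_bot_iff_nilpotencyClass_le.2 hcl
  rw [← mem_bot, ← h, Subgroup.lowerCentralSeries_succ]
  refine commutator_mem_commutator ?_ (mem_top _)
  rw [Subgroup.lowerCentralSeries_succ, Subgroup.lowerCentralSeries_zero]
  exact commutator_mem_commutator (mem_top _) (mem_top _)

/-- A maximal subgroup of class two without nontrivial normal subgroups of the group controls the
fusion in its Sylow `p`-subgroup. -/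
theorem controlsFusion_of_class_two {G : Type u} [Group G] [Finite G] {M : Subgroup G}
    (hM : IsCoatom M) [Group.IsNilpotent M] (hcl : Group.nilpotencyClass M ≤ 2)
    (hcore : ∀ N : Subgroup G, N.Normal → N ≤ M → N = ⊥) {p : ℕ} [Fact p.Prime] (P : Sylow p G)
    (hPM : (P : Subgroup G) ≤ M) (hMN : M ≤ normalizer ((P : Subgroup G) : Set G))
    (hP1 : (P : Subgroup G) ≠ ⊥) :
    ControlsFusion M (P : Subgroup G) := by
  have hnorm : ∀ X : Subgroup G, X ≤ M → X ≠ ⊥ → M ≤ normalizer (X : Set G) →
      normalizer (X : Set G) = M := fun X hXM hX hMX => by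
    rcases hMX.eq_or_lt with h | h
    · exact h.symm
    · exact absurd (hcore X (normalizer_eq_top_iff.1 (hM.2 _ h)) hXM) hX
  have hNP : normalizer ((P : Subgroup G) : Set G) = M := hnorm _ hPM hP1 hMN
  set Z := (P : Subgroup G) ⊓ centralizer ((P : Subgroup G) : Set G) with hZ
  have hcent : ∀ a ∈ M, ∀ b ∈ M, ∀ c ∈ M, ⁅a, b⁆ * c = c * ⁅a, b⁆ := fun a ha b hb c hc =>
    congrArg Subtype.val
      (commutatorElement_comm_of_class_two hcl (⟨a, ha⟩ : M) ⟨b, hb⟩ ⟨c, hc⟩)
  have hcomZ : ∀ m ∈ M, ∀ d ∈ (P : Subgroup G), ⁅m, d⁆ ∈ Z := by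
    intro m hm d hd
    refine ⟨?_, fun c hc => (hcent m hm d (hPM hd) c (hPM hc)).symm⟩
    rw [commutatorElement_def]
    exact mul_mem (s := (P : Subgroup G)) ((mem_normalizer_iff.1 (hMN hm) d).1 hd)
      ((P : Subgroup G).inv_mem hd)
  have hMZ : M ≤ normalizer (Z : Set G) := by
    intro m hm
    refine mem_normalizer_iff_map_conj_eq.2 (eq_of_le_of_card_ge ?_
      (card_map_of_injective (MulAut.conj m).injective).ge)
    rintro _ ⟨z, hz, rfl⟩
    show m * z * m⁻¹ ∈ Z
    rw [show m * z * m⁻¹ = ⁅m, z⁆ * z by simp [commutatorElement_def, mul_assoc]]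
    exact mul_mem (hcomZ m hm z hz.1) hz
  have hZ1 : Z ≠ ⊥ := by
    haveI : Nontrivial (P : Subgroup G) := (nontrivial_iff_ne_bot _).2 hP1
    haveI := P.2.isNilpotent
    obtain ⟨z, hz, hz1⟩ := (center (P : Subgroup G)).nontrivial_iff_exists_ne_one.1
      ((nontrivial_iff_ne_bot _).2 (Group.IsNilpotent.center_ne_bot (P : Subgroup G)))
    intro h0
    have hz' : (z : G) ∈ Z := ⟨z.2, fun c hc => congrArg Subtype.val (mem_center_iff.1 hz ⟨c, hc⟩)⟩
    rw [h0, mem_bot] at hz'
    exact hz1 (Subtype.ext hz')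
  have hNZ : normalizer (Z : Set G) = M := hnorm Z (inf_le_left.trans hPM) hZ1 hMZ
  have hCZ : centralizer (Z : Set G) ≤ M := by
    rw [← hNZ]
    exact centralizer_le_normalizer _
  -- `Z` is weakly closed in `P`
  have hweak : Cfsg.IsWeaklyClosed Z (P : Subgroup G) := by
    refine ⟨inf_le_left, fun g hg => ?_⟩
    -- `Z` lies in `gPg⁻¹`
    set Pg := (P : Subgroup G).map (MulAut.conj g).toMonoidHom with hPg
    set Zg := Z.map (MulAut.conj g).toMonoidHom with hZg
    have hback : Z.map (MulAut.conj g⁻¹).toMonoidHom ≤ (P : Subgroup G) := by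
      refine mem_sylow_of_isPGroup P hMN ((P.2.to_le inf_le_left).map _) ?_
      rintro _ ⟨z, hz, rfl⟩
      refine hCZ fun y hy => ?_
      have h := hz.2 _ (hg ⟨y, hy, rfl⟩)
      simp only [MulEquiv.coe_toMonoidHom, MulAut.conj_apply, inv_inv] at h ⊢
      calc y * (g⁻¹ * z * g) = g⁻¹ * (g * y * g⁻¹ * z) * g := by group
        _ = g⁻¹ * (z * (g * y * g⁻¹)) * g := by rw [h]
        _ = g⁻¹ * z * g * y := by group
    set D := (P : Subgroup G) ⊓ Pg with hD
    have hZD : Z ≤ D := by
      refine le_inf inf_le_left fun z hz => mem_map_conj_iff.2 ?_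
      simpa [mul_assoc] using hback ⟨z, hz, rfl⟩
    have hZgD : Zg ≤ D := le_inf hg (map_mono inf_le_left)
    have hMD : M ≤ normalizer (D : Set G) := by
      intro m hm
      refine mem_normalizer_iff_map_conj_eq.2 (eq_of_le_of_card_ge ?_
        (card_map_of_injective (MulAut.conj m).injective).ge)
      rintro _ ⟨d, hd, rfl⟩
      show m * d * m⁻¹ ∈ D
      rw [show m * d * m⁻¹ = ⁅m, d⁆ * d by simp [commutatorElement_def, mul_assoc]]
      exact mul_mem (hZD (hcomZ m hm d hd.1)) hd
    have hPgD : Pg ≤ normalizer (D : Set G) := by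
      rintro _ ⟨a, ha, rfl⟩
      refine mem_normalizer_iff_map_conj_eq.2 (eq_of_le_of_card_ge ?_
        (card_map_of_injective (MulAut.conj _).injective).ge)
      rintro _ ⟨d, hd, rfl⟩
      obtain ⟨b, hb, rfl⟩ := hd.2
      show g * a * g⁻¹ * (g * b * g⁻¹) * (g * a * g⁻¹)⁻¹ ∈ D
      rw [show g * a * g⁻¹ * (g * b * g⁻¹) * (g * a * g⁻¹)⁻¹ =
          g * ⁅a, b⁆ * g⁻¹ * (g * b * g⁻¹) by simp [commutatorElement_def, mul_assoc]]
      exact mul_mem (hZgD ⟨_, hcomZ a (hPM ha) b hb, rfl⟩) hd
    have hND : normalizer (D : Set G) = M := hnorm D (inf_le_left.trans hPM)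
      (fun h0 => hZ1 (le_bot_iff.1 (h0 ▸ hZD))) hMD
    have hle : Pg ≤ (P : Subgroup G) :=
      mem_sylow_of_isPGroup P hMN (P.2.map _) (hND ▸ hPgD)
    have hgM : g ∈ M := by
      rw [← hNP]
      exact mem_normalizer_iff_map_conj_eq.2 (eq_of_le_of_card_ge hle
        (card_map_of_injective (MulAut.conj g).injective).ge)
    exact mem_normalizer_iff_map_conj_eq.1 (hMZ hgM)
  rw [← hNZ]
  exact controlsFusion_normalizer_of_weaklyClosed P hweak inf_le_right

/-- A nilpotent subgroup containing the Sylow subgroup `P` and controlling its fusion gives a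
normal `p`-complement. -/
theorem hasNormalPComplement_of_controlsFusion_nilpotent {G : Type u} [Group G] [Finite G]
    {M : Subgroup G} [Group.IsNilpotent M] {p : ℕ} [Fact p.Prime] (P : Sylow p G)
    (hPM : (P : Subgroup G) ≤ M) (h : ControlsFusion M (P : Subgroup G)) :
    Cfsg.HasNormalPComplement p G := by
  refine hasNormalPComplement_of_controlsFusion_self P fun x hx g hgx => ?_
  obtain ⟨n, hn, e⟩ := h x hx g hgx
  set R : Sylow p M := P.subtype hPM with hR
  have hRc : (R : Subgroup M) = (P : Subgroup G).subgroupOf M := P.coe_subtype hPM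
  haveI : (R : Subgroup M).Normal :=
    R.normal_of_normalizerCondition (Group.normalizerCondition_of_isNilpotent (G := M))
  have hc := isComplement'_of_isPGroup_quotient R
    (hasNormalPComplement_iff.1 hasNormalPComplement_of_isNilpotent) isPGroup_quotient_pResidual
  obtain ⟨⟨⟨k, hk⟩, ⟨r, hr⟩⟩, hkr, -⟩ := hc.existsUnique (⟨n, hn⟩ : M)
  simp only at hkr
  have hr' : (r : G) ∈ (P : Subgroup G) := by
    rw [SetLike.mem_coe, hRc, mem_subgroupOf] at hr
    exact hr
  refine ⟨r, hr', ?_⟩
  have hn' : n = (k : G) * r := (congrArg Subtype.val hkr).symm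
  have hy : (r : G) * x * (r : G)⁻¹ ∈ (P : Subgroup G) :=
    mul_mem (mul_mem hr' hx) (inv_mem hr')
  have hcomm : (k : G) * (r * x * (r : G)⁻¹) = r * x * (r : G)⁻¹ * k :=
    congrArg Subtype.val (commute_of_normal_of_disjoint _ _ inferInstance inferInstance
      hc.disjoint k (⟨r * x * (r : G)⁻¹, hPM hy⟩ : M) hk
      (by rw [hRc, mem_subgroupOf]; exact hy)).eq
  rw [← e, hn']
  calc (r : G) * x * (r : G)⁻¹ = r * x * (r : G)⁻¹ * k * (k : G)⁻¹ := by group
    _ = (k : G) * (r * x * (r : G)⁻¹) * (k : G)⁻¹ := by rw [hcomm]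
    _ = (k : G) * r * x * ((k : G) * r)⁻¹ := by group

/-- A finite group with a nilpotent maximal subgroup of odd order or of class at most two is
solvable, given the Glauberman--Thompson criterion. -/
theorem isSolvable_of_nilpotent_coatom
    (hT : ∀ (H : Type u) [Group H] [Finite H], ThompsonCriterion H) :
    ∀ (n : ℕ) (G : Type u) [Group G] [Finite G], Nat.card G = n → ∀ M : Subgroup G, IsCoatom M →
      Group.IsNilpotent M → (Odd (Nat.card M) ∨ Group.nilpotencyClass M ≤ 2) →
      Group.IsSolvable G := by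
  intro n
  induction n using Nat.strong_induction_on with
  | _ n ih =>
  intro G _ _ hn M hM hnil hor
  haveI := hnil
  haveI hMs : Group.IsSolvable M := inferInstance
  by_cases hN : ∃ N : Subgroup G, N.Normal ∧ N ≤ M ∧ N ≠ ⊥
  · obtain ⟨N, hNn, hNM, hN1⟩ := hN
    haveI := hNn
    have hlt : Nat.card (G ⧸ N) < n := by
      rw [← hn, card_eq_card_quotient_mul_card_subgroup N]
      exact lt_mul_of_one_lt_right Nat.card_pos ((one_lt_card_iff_ne_bot N).2 hN1)
    have hsurj := (QuotientGroup.mk' N).subgroupMap_surjective M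
    refine isSolvable_of_normal_of_quotient N
      (Group.isSolvable_of_isSolvable_injective (inclusion_injective hNM)) ?_
    refine ih _ hlt _ rfl _ (isCoatom_map_mk' hM hNM) (Group.nilpotent_of_surjective _ hsurj) ?_
    exact hor.imp (fun h => h.of_dvd_nat (card_map_dvd _ _))
      (fun h => (Group.nilpotencyClass_le_of_surjective _ hsurj).trans h)
  push Not at hN
  rcases eq_or_ne M ⊥ with rfl | hM1
  · haveI : (⊥ : Subgroup G).Normal := normal_bot
    exact isSolvable_of_normal_of_quotient ⊥ inferInstance (isSolvable_quotient_of_coatom hM)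
  have hkey : ∀ r : ℕ, r.Prime → r ∣ Nat.card M →
      Cfsg.HasNormalPComplement r G ∧ ¬ r ∣ M.index := by
    intro r hr hrM
    haveI := Fact.mk hr
    let R : Sylow r M := default
    haveI : (R : Subgroup M).Normal :=
      R.normal_of_normalizerCondition (Group.normalizerCondition_of_isNilpotent (G := M))
    set R' := (R : Subgroup M).map M.subtype with hR'
    have hR1 : R' ≠ ⊥ := by
      rw [hR', Ne, map_eq_bot_iff_of_injective _ M.subtype_injective]
      exact R.ne_bot_of_dvd_card hrM
    have hMN : M ≤ normalizer (R' : Set G) := by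
      intro m hm
      refine mem_normalizer_iff_map_conj_eq.2 (eq_of_le_of_card_ge ?_
        (card_map_of_injective (MulAut.conj m).injective).ge)
      rintro _ ⟨_, ⟨a, ha, rfl⟩, rfl⟩
      exact ⟨⟨m, hm⟩ * a * ⟨m, hm⟩⁻¹, Normal.conj_mem inferInstance a ha _, by simp⟩
    have hnorm : ∀ X : Subgroup G, X ≤ M → X ≠ ⊥ → M ≤ normalizer (X : Set G) →
        normalizer (X : Set G) = M := fun X hXM hX hMX => by
      rcases hMX.eq_or_lt with h | h
      · exact h.symm
      · exact absurd (hN X (normalizer_eq_top_iff.1 (hM.2 _ h)) hXM) hX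
    have hNR : normalizer (R' : Set G) = M := hnorm R' (map_subtype_le _) hR1 hMN
    obtain ⟨P, hP⟩ := (R.2.map M.subtype).exists_le_sylow
    have hPR : R' = (P : Subgroup G) := by
      by_contra hne
      have hlt := lt_inf_normalizer P.2 (lt_of_le_of_ne hP hne)
      rw [hNR] at hlt
      have h2 : (R : Subgroup M) < ((P : Subgroup G) ⊓ M).subgroupOf M := by
        apply lt_of_le_of_ne
        · intro x hx; exact hlt.le ⟨x, hx, rfl⟩
        · intro he
          apply hlt.ne
          show (R : Subgroup M).map M.subtype = (P : Subgroup G) ⊓ M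
          rw [he, subgroupOf_map_subtype, inf_eq_left.2 inf_le_right]
      exact h2.ne' (R.3 ((P.2.to_le inf_le_left).comap_subtype) h2.le)
    have hPM : (P : Subgroup G) ≤ M := hPR ▸ map_subtype_le _
    have hMNP : M ≤ normalizer ((P : Subgroup G) : Set G) := hPR ▸ hMN
    refine ⟨?_, fun hd => P.not_dvd_index (hd.trans (index_dvd_of_le hPM))⟩
    by_cases h2 : r = 2
    · subst h2
      have hcl : Group.nilpotencyClass M ≤ 2 := hor.resolve_left fun ho =>
        (Nat.not_even_iff_odd.2 ho) (even_iff_two_dvd.2 hrM)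
      exact hasNormalPComplement_of_controlsFusion_nilpotent P hPM
        (controlsFusion_of_class_two hM hcl hN P hPM hMNP (hPR ▸ hR1))
    · refine hT G r inferInstance h2 P ?_
      have hZne := centerThompson_ne_bot (p := r) P.2 (hPR ▸ hR1)
      rw [hnorm _ ((centerThompson_le r _).trans hPM) hZne
        (hMNP.trans (normalizer_le_normalizer_centerThompson r _))]
      exact hasNormalPComplement_of_isNilpotent
  set K := ⨅ r : (Nat.card M).primeFactors, Cfsg.pResidual (r : ℕ) G with hK
  haveI hKn : K.Normal := normal_iInf_normal fun r => inferInstance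
  have hcop : (Nat.card M).Coprime (Nat.card K) := by
    rw [Nat.coprime_iff_gcd_eq_one]
    by_contra hg
    obtain ⟨r, hr, hrd⟩ := Nat.exists_prime_and_dvd hg
    haveI := Fact.mk hr
    have hrM := hrd.trans (Nat.gcd_dvd_left _ _)
    refine hasNormalPComplement_iff.1 (hkey r hr hrM).1
      ((hrd.trans (Nat.gcd_dvd_right _ _)).trans (card_dvd_of_le ?_))
    exact iInf_le (fun r : (Nat.card M).primeFactors => Cfsg.pResidual (r : ℕ) G)
      ⟨r, Nat.mem_primeFactors.2 ⟨hr, hrM, Nat.card_pos.ne'⟩⟩
  have hKM : ¬ K ≤ M := by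
    intro hle
    have hK1 : K = ⊥ := hN K hKn hle
    apply hM.1
    rw [← index_eq_one]
    by_contra hi
    obtain ⟨q, hq, hqi⟩ := Nat.exists_prime_and_dvd hi
    haveI := Fact.mk hq
    obtain ⟨x, hx⟩ := exists_prime_orderOf_dvd_card' (G := G) q (hqi.trans M.index_dvd_card)
    have hxK : x ∈ K := by
      rw [hK, mem_iInf]
      intro r
      have hr := Nat.prime_of_mem_primeFactors r.2
      apply mem_pResidual_of_coprime
      rw [hx]
      refine (Nat.coprime_primes hq hr).2 fun h => ?_
      exact (hkey r hr (Nat.dvd_of_mem_primeFactors r.2)).2 (h ▸ hqi)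
    rw [hK1, mem_bot] at hxK
    rw [hxK, orderOf_one] at hx
    exact hq.ne_one hx.symm
  exact isSolvable_of_coprime_supplement hM hMs
    (hM.2 _ (lt_of_le_of_ne le_sup_right fun h => hKM (h.symm ▸ le_sup_left))) hcop

end CfsgLib.SolvCrit
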