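import Mathlib

/-!
Kulakoff's congruences: the number of subgroups of a given order `p^a < |K|` in a `p`-group `K`
is `≡ 1` modulo `p`, and `≡ 1` or `1 + p` modulo `p²`.
-/

set_option autoImplicit false
set_option linter.unusedSectionVars false
set_option linter.style.haveILetI false

namespace CfsgLib.SolvCrit.Kulakoff

open Subgroup

variable {G : Type*} [Group G] [Finite G] {p : ℕ} [hp : Fact p.Prime]

attribute [local instance] Fintype.ofFinite
open scoped Classical

/-- The index-`p` subgroups of `K`. -/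
noncomputable def maxs (p : ℕ) (K : Subgroup G) : Finset (Subgroup G) := by
  classical
  exact Finset.univ.filter fun M => M ≤ K ∧ Nat.card M * p = Nat.card K

/-- The subgroups of `K` of order `p^a`. -/
noncomputable def subs (p a : ℕ) (K : Subgroup G) : Finset (Subgroup G) := by
  classical
  exact Finset.univ.filter fun H => H ≤ K ∧ Nat.card H = p ^ a

theorem mem_maxs {K M : Subgroup G} :
    M ∈ maxs p K ↔ M ≤ K ∧ Nat.card M * p = Nat.card K := by
  classical
  simp [maxs]

theorem mem_subs {a : ℕ} {K H : Subgroup G} :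
    H ∈ subs p a K ↔ H ≤ K ∧ Nat.card H = p ^ a := by
  classical
  simp [subs]

theorem normal_max {K M : Subgroup G} (hK : IsPGroup p K) (hM : M ∈ maxs p K) :
    (M.subgroupOf K).Normal := by
  obtain ⟨hle, hc⟩ := mem_maxs.1 hM
  have hidx : (M.subgroupOf K).index = p := by
    have h := (M.subgroupOf K).card_mul_index
    rw [Nat.card_congr (subgroupOfEquivOfLe hle).toEquiv, ← hc] at h
    exact Nat.eq_of_mul_eq_mul_left Nat.card_pos h
  obtain ⟨n, hn⟩ := IsPGroup.iff_card.1 hK
  refine normal_of_index_eq_minFac_card ?_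
  rw [hidx, hn, Nat.pow_minFac, hp.out.minFac_eq]
  rintro rfl
  rw [pow_zero] at hn
  exact hp.out.ne_one (Nat.dvd_one.1 (hn ▸ hc ▸ Dvd.intro_left _ rfl))

theorem le_normalizer_max {K M : Subgroup G} (hK : IsPGroup p K) (hM : M ∈ maxs p K) :
    K ≤ normalizer (M : Set G) :=
  (normal_subgroupOf_iff_le_normalizer (mem_maxs.1 hM).1).1 (normal_max hK hM)

theorem pow_mem_max {K M : Subgroup G} (hK : IsPGroup p K) (hM : M ∈ maxs p K) {x : G}
    (hx : x ∈ K) : x ^ p ∈ M := by
  obtain ⟨hle, hc⟩ := mem_maxs.1 hM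
  have hidx : (M.subgroupOf K).index = p := by
    have h := (M.subgroupOf K).card_mul_index
    rw [Nat.card_congr (subgroupOfEquivOfLe hle).toEquiv, ← hc] at h
    exact Nat.eq_of_mul_eq_mul_left Nat.card_pos h
  haveI := normal_max hK hM
  have h1 : ((⟨x, hx⟩ : K) : K ⧸ M.subgroupOf K) ^ p = 1 := by
    rw [← hidx, index]
    exact pow_card_eq_one'
  rw [← QuotientGroup.mk_pow, QuotientGroup.eq_one_iff, mem_subgroupOf] at h1
  exact h1

/-- The intersection of two index-`p` subgroups. -/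
theorem card_inf {K M M' : Subgroup G} (hK : IsPGroup p K) (hM : M ∈ maxs p K)
    (hM' : M' ∈ maxs p K) (hne : M ≠ M') : Nat.card ↥(M ⊓ M') * p * p = Nat.card K := by
  obtain ⟨hle, hc⟩ := mem_maxs.1 hM
  obtain ⟨hle', hc'⟩ := mem_maxs.1 hM'
  have hsup : M ⊔ M' = K := by
    refine eq_of_le_of_card_ge (sup_le hle hle') ?_
    have hlt : Nat.card M < Nat.card ↥(M ⊔ M') := by
      refine lt_of_le_of_ne (card_le_of_le le_sup_left) fun h => hne ?_
      have h2 := eq_of_le_of_card_ge le_sup_left h.ge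
      refine (eq_of_le_of_card_ge (h2 ▸ le_sup_right : M' ≤ M) ?_).symm
      exact (Nat.eq_of_mul_eq_mul_right hp.out.pos (hc.trans hc'.symm)).le
    obtain ⟨c, hcd⟩ := card_dvd_of_le (le_sup_left : M ≤ M ⊔ M')
    have h2 := card_dvd_of_le (sup_le hle hle' : M ⊔ M' ≤ K)
    rw [← hc, hcd, Nat.mul_dvd_mul_iff_left Nat.card_pos] at h2
    rcases (Nat.dvd_prime hp.out).1 h2 with h3 | h3
    · rw [hcd, h3, mul_one] at hlt; exact absurd hlt (lt_irrefl _)
    · rw [← hc, hcd, h3]
  have hn : M' ≤ normalizer (M : Set G) := hle'.trans (le_normalizer_max hK hM)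
  have h1 : M.relIndex (M ⊔ M') = M.relIndex M' := by
    haveI : (M.subgroupOf (M ⊔ M')).Normal :=
      (normal_subgroupOf_iff_le_normalizer le_sup_left).2 (sup_le le_normalizer hn)
    haveI : (M.subgroupOf M').Normal := normal_subgroupOf_of_le_normalizer hn
    haveI : (M.subgroupOf (M' ⊔ M)).Normal := by rw [sup_comm]; infer_instance
    rw [sup_comm, relIndex, relIndex, index_eq_card, index_eq_card]
    exact (Nat.card_congr (QuotientGroup.quotientInfEquivProdNormalizerQuotient M' M hn).toEquiv).symm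
  rw [hsup] at h1
  have h2 : M.relIndex K = p := by
    have h := (M.subgroupOf K).card_mul_index
    rw [Nat.card_congr (subgroupOfEquivOfLe hle).toEquiv, ← hc] at h
    exact Nat.eq_of_mul_eq_mul_left Nat.card_pos h
  rw [h2, relIndex] at h1
  have h3 := (M.subgroupOf M').card_mul_index
  rw [← h1, ← hc] at *
  rw [← Nat.eq_of_mul_eq_mul_right hp.out.pos (hc'), ← h3, ← inf_subgroupOf_right,
    Nat.card_congr (subgroupOfEquivOfLe inf_le_right).toEquiv]

/-- Adjoining an element with `p`-th power in `D`. -/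
theorem card_sup_zpowers {D : Subgroup G} {x : G} (hxn : x ∈ normalizer (D : Set G))
    (hxp : x ^ p ∈ D) (hxD : x ∉ D) : Nat.card ↥(D ⊔ zpowers x) = Nat.card D * p := by
  have hn : zpowers x ≤ normalizer (D : Set G) := zpowers_le.2 hxn
  haveI : (D.subgroupOf (D ⊔ zpowers x)).Normal :=
    (normal_subgroupOf_iff_le_normalizer le_sup_left).2 (sup_le le_normalizer hn)
  have hgen : ∀ q : ↥(D ⊔ zpowers x) ⧸ D.subgroupOf (D ⊔ zpowers x),
      q ∈ zpowers ((⟨x, mem_sup_right (mem_zpowers x)⟩ : ↥(D ⊔ zpowers x)) :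
        ↥(D ⊔ zpowers x) ⧸ D.subgroupOf (D ⊔ zpowers x)) := by
    intro q
    induction q using QuotientGroup.induction_on with
    | _ y =>
      obtain ⟨y, hy⟩ := y
      have hy' := hy
      rw [← SetLike.mem_coe, coe_mul_of_right_le_normalizer_left _ _ hn] at hy'
      obtain ⟨d, hd, z, hz, rfl⟩ := hy'
      obtain ⟨i, rfl⟩ := mem_zpowers_iff.1 hz
      refine ⟨i, ?_⟩
      show ((⟨x, _⟩ : ↥(D ⊔ zpowers x)) : ↥(D ⊔ zpowers x) ⧸
        D.subgroupOf (D ⊔ zpowers x)) ^ i = _
      rw [← QuotientGroup.mk_zpow, QuotientGroup.eq, mem_subgroupOf]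
      simp only [coe_mul, InvMemClass.coe_inv, coe_zpow]
      have h := (mem_normalizer_iff.1 (inv_mem (zpow_mem hxn i)) d).1 hd
      simpa [mul_assoc] using h
  have h1 := (D.subgroupOf (D ⊔ zpowers x)).card_mul_index
  rw [Nat.card_congr (subgroupOfEquivOfLe le_sup_left).toEquiv] at h1
  rw [← h1]
  congr 1
  rw [index_eq_card, ← orderOf_eq_card_of_forall_mem_zpowers hgen]
  refine orderOf_eq_prime ?_ ?_
  · rw [← QuotientGroup.mk_pow, QuotientGroup.eq_one_iff, mem_subgroupOf]
    exact hxp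
  · rw [ne_eq, QuotientGroup.eq_one_iff, mem_subgroupOf]
    exact hxD

/-- Exactly `p + 1` index-`p` subgroups contain the intersection of two of them. -/
theorem card_maxs_above {K M M' : Subgroup G} (hK : IsPGroup p K) (hM : M ∈ maxs p K)
    (hM' : M' ∈ maxs p K) (hne : M ≠ M') :
    ((maxs p K).filter fun N => M ⊓ M' ≤ N).card = p + 1 := by
  classical
  set D := M ⊓ M' with hD
  have hDc := card_inf hK hM hM' hne
  have hDK : D ≤ K := inf_le_left.trans (mem_maxs.1 hM).1
  have hDn : K ≤ normalizer (D : Set G) :=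
    (le_inf (le_normalizer_max hK hM) (le_normalizer_max hK hM')).trans
      inf_normalizer_le_normalizer_inf
  have hpow : ∀ x ∈ K, x ^ p ∈ D := fun x hx =>
    mem_inf.2 ⟨pow_mem_max hK hM hx, pow_mem_max hK hM' hx⟩
  set T := (maxs p K).filter fun N => D ≤ N with hT
  set U := ((K : Set G) \ (D : Set G)).toFinset with hU
  -- every element outside `D` lies in exactly one of them
  have hspan : ∀ x ∈ K, x ∉ D → D ⊔ zpowers x ∈ T ∧ ∀ N ∈ T, x ∈ N → N = D ⊔ zpowers x := by
    intro x hx hxD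
    have hle : D ⊔ zpowers x ≤ K := sup_le hDK (zpowers_le.2 hx)
    have hlt : D < D ⊔ zpowers x := lt_of_le_of_ne le_sup_left fun h =>
      hxD (h ▸ mem_sup_right (mem_zpowers x))
    have hcard : Nat.card ↥(D ⊔ zpowers x) = Nat.card D * p :=
      card_sup_zpowers (hDn hx) (hpow x hx) hxD
    refine ⟨Finset.mem_filter.2 ⟨mem_maxs.2 ⟨hle, by rw [hcard, hDc]⟩, le_sup_left⟩, ?_⟩
    intro N hN hxN
    obtain ⟨hN1, hN2⟩ := Finset.mem_filter.1 hN
    refine (eq_of_le_of_card_ge (sup_le hN2 (zpowers_le.2 hxN)) ?_).symm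
    rw [hcard]
    have := (mem_maxs.1 hN1).2
    rw [← hDc] at this
    exact (Nat.eq_of_mul_eq_mul_right hp.out.pos this).le
  have hsum : U.card = ∑ N ∈ T, (U.filter fun x => D ⊔ zpowers x = N).card :=
    Finset.card_eq_sum_card_fiberwise fun x hx => by
      simp only [hU, Set.coe_toFinset, Set.mem_sdiff, SetLike.mem_coe] at hx
      exact (hspan x hx.1 hx.2).1
  have hfib : ∀ N ∈ T, (U.filter fun x => D ⊔ zpowers x = N).card = Nat.card D * (p - 1) := by
    intro N hN
    obtain ⟨hN1, hN2⟩ := Finset.mem_filter.1 hN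
    have hset : (U.filter fun x => D ⊔ zpowers x = N) = ((N : Set G) \ (D : Set G)).toFinset := by
      ext x
      simp only [Finset.mem_filter, hU, Set.mem_toFinset, Set.mem_sdiff, SetLike.mem_coe]
      refine ⟨fun h => ⟨h.2 ▸ mem_sup_right (mem_zpowers x), h.1.2⟩, fun h => ?_⟩
      exact ⟨⟨(mem_maxs.1 hN1).1 h.1, h.2⟩,
        ((hspan x ((mem_maxs.1 hN1).1 h.1) h.2).2 N hN h.1).symm⟩
    rw [hset, ← Set.ncard_eq_toFinset_card', Set.ncard_sdiff (by exact hN2)]
    rw [← Nat.card_coe_set_eq, ← Nat.card_coe_set_eq]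
    show Nat.card N - Nat.card D = _
    have := (mem_maxs.1 hN1).2
    rw [← hDc] at this
    rw [Nat.eq_of_mul_eq_mul_right hp.out.pos this, Nat.mul_sub, mul_one]
  rw [Finset.sum_congr rfl hfib, Finset.sum_const, smul_eq_mul] at hsum
  have hUc : U.card = Nat.card D * (p - 1) * (p + 1) := by
    rw [hU, ← Set.ncard_eq_toFinset_card', Set.ncard_sdiff (by exact hDK),
      ← Nat.card_coe_set_eq, ← Nat.card_coe_set_eq]
    show Nat.card K - Nat.card D = _
    rw [← hDc]
    obtain ⟨q, hq⟩ : ∃ q, p = q + 1 := ⟨p - 1, by have := hp.out.pos; omega⟩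
    subst hq
    rw [show q + 1 - 1 = q by omega]
    apply Nat.sub_eq_of_eq_add
    ring
  rw [hUc, mul_comm T.card] at hsum
  have hpos : 0 < Nat.card D * (p - 1) := by
    have := hp.out.two_le
    exact Nat.mul_pos Nat.card_pos (by omega)
  exact (Nat.eq_of_mul_eq_mul_left hpos hsum).symm

/-- The intersections of two distinct index-`p` subgroups containing `H`. -/
noncomputable def meets (p : ℕ) (K H : Subgroup G) : Finset (Subgroup G) := by
  classical
  exact (((maxs p K).filter fun M => H ≤ M).offDiag).image fun x => x.1 ⊓ x.2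

/-- For proper `H`: `#(maximal over H) ≡ 1 + p · #meets` modulo `p²`, and `≡ 1` modulo `p`. -/
theorem card_maxs_congr {K H : Subgroup G} (hK : IsPGroup p K) (hH : H < K)
 :
    (((maxs p K).filter fun M => H ≤ M).card : ZMod p) = 1 ∧
      (((maxs p K).filter fun M => H ≤ M).card : ZMod (p ^ 2)) =
        1 + p * (meets p K H).card := by
  classical
  set T := (maxs p K).filter fun M => H ≤ M with hT
  obtain ⟨n, hn⟩ := IsPGroup.iff_card.1 hK
  have hne : T.Nonempty := by
    obtain ⟨h, hh⟩ := IsPGroup.iff_card.1 (hK.to_le hH.le)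
    have hlt : h < n := by
      by_contra hle
      exact hH.ne (eq_of_le_of_card_ge hH.le
        (by rw [hn, hh]; exact Nat.pow_le_pow_right hp.out.pos (not_lt.1 hle)))
    obtain ⟨M, hMK, hHM⟩ := Sylow.exists_subgroup_card_pow_prime_le (G := K) p (n := h) (m := n - 1)
      (by rw [hn]; exact pow_dvd_pow p (by omega)) (H.subgroupOf K)
      (by rw [Nat.card_congr (subgroupOfEquivOfLe hH.le).toEquiv, hh]) (by omega)
    refine ⟨M.map K.subtype, Finset.mem_filter.2 ⟨mem_maxs.2 ⟨map_subtype_le _, ?_⟩, ?_⟩⟩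
    · rw [card_map_of_injective K.subtype_injective, hMK, hn, ← pow_succ]
      congr 1; omega
    · intro x hx
      exact ⟨⟨x, hH.le hx⟩, hHM hx, rfl⟩
  set I := meets p K H with hI
  -- each meet lies in exactly `p + 1` members
  have hmeet : ∀ D ∈ I, (T.filter fun N => D ≤ N).card = p + 1 := by
    intro D hD
    obtain ⟨⟨M, M'⟩, hx, rfl⟩ := Finset.mem_image.1 hD
    obtain ⟨hM, hM', hne'⟩ := Finset.mem_offDiag.1 hx
    rw [← card_maxs_above hK (Finset.mem_filter.1 hM).1 (Finset.mem_filter.1 hM').1 hne', hT,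
      Finset.filter_filter]
    congr 1
    refine Finset.filter_congr fun N _ => ⟨fun h => h.2, fun h => ⟨le_trans ?_ h, h⟩⟩
    exact le_inf (Finset.mem_filter.1 hM).2 (Finset.mem_filter.1 hM').2
  have hfib : ∀ D ∈ I, (T.offDiag.filter fun x => x.1 ⊓ x.2 = D).card = (p + 1) * p := by
    intro D hD
    have hset : (T.offDiag.filter fun x => x.1 ⊓ x.2 = D) = (T.filter fun N => D ≤ N).offDiag := by
      ext ⟨N, N'⟩
      simp only [Finset.mem_filter, Finset.mem_offDiag]
      constructor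
      · rintro ⟨⟨hN, hN', hne'⟩, h⟩
        exact ⟨⟨hN, h ▸ inf_le_left⟩, ⟨hN', h ▸ inf_le_right⟩, hne'⟩
      · rintro ⟨⟨hN, hND⟩, ⟨hN', hND'⟩, hne'⟩
        refine ⟨⟨hN, hN', hne'⟩, ?_⟩
        obtain ⟨⟨M, M'⟩, hx, rfl⟩ := Finset.mem_image.1 hD
        obtain ⟨hM, hM', hMM'⟩ := Finset.mem_offDiag.1 hx
        refine (eq_of_le_of_card_ge (le_inf hND hND') ?_).symm
        have h1 := card_inf hK (Finset.mem_filter.1 hM).1 (Finset.mem_filter.1 hM').1 hMM'
        have h2 := card_inf hK (Finset.mem_filter.1 hN).1 (Finset.mem_filter.1 hN').1 hne'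
        exact (Nat.eq_of_mul_eq_mul_right hp.out.pos
          (Nat.eq_of_mul_eq_mul_right hp.out.pos (h2.trans h1.symm))).le
    rw [hset, Finset.offDiag_card, hmeet D hD]
    apply Nat.sub_eq_of_eq_add
    ring
  have hpairs : T.offDiag.card = I.card * ((p + 1) * p) := by
    rw [Finset.card_eq_sum_card_fiberwise
      (f := fun x : Subgroup G × Subgroup G => x.1 ⊓ x.2) (t := I)
      (fun x hx => Finset.mem_image.2 ⟨x, hx, rfl⟩), Finset.sum_congr rfl hfib,
      Finset.sum_const, smul_eq_mul]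
  -- group the members by their meet with a fixed one
  obtain ⟨M0, hM0⟩ := hne
  obtain ⟨j, hj⟩ : ∃ j, T.card = 1 + p * j := by
    refine ⟨((T.erase M0).image fun M => M ⊓ M0).card, ?_⟩
    rw [← Finset.card_erase_add_one hM0, Finset.card_eq_sum_card_fiberwise
      (f := fun M => M ⊓ M0) (s := T.erase M0) (t := (T.erase M0).image fun M => M ⊓ M0)
      (fun x hx => Finset.mem_image_of_mem _ hx)]
    rw [Finset.sum_congr rfl (g := fun _ => p), Finset.sum_const, smul_eq_mul, mul_comm, add_comm]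
    intro D hD
    obtain ⟨M, hM, rfl⟩ := Finset.mem_image.1 hD
    obtain ⟨hMne, hMT⟩ := Finset.mem_erase.1 hM
    have hDI : M ⊓ M0 ∈ I :=
      Finset.mem_image.2 ⟨(M, M0), Finset.mem_offDiag.2 ⟨hMT, hM0, hMne⟩, rfl⟩
    have hset : ((T.erase M0).filter fun N => N ⊓ M0 = M ⊓ M0) =
        (T.filter fun N => M ⊓ M0 ≤ N).erase M0 := by
      ext N
      simp only [Finset.mem_filter, Finset.mem_erase]
      constructor
      · rintro ⟨⟨hne', hN⟩, h⟩
        exact ⟨hne', hN, h ▸ inf_le_left⟩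
      · rintro ⟨hne', hN, h⟩
        refine ⟨⟨hne', hN⟩, (eq_of_le_of_card_ge (le_inf h inf_le_right) ?_).symm⟩
        have h1 := card_inf hK (Finset.mem_filter.1 hMT).1 (Finset.mem_filter.1 hM0).1 hMne
        have h2 := card_inf hK (Finset.mem_filter.1 hN).1 (Finset.mem_filter.1 hM0).1 hne'
        exact (Nat.eq_of_mul_eq_mul_right hp.out.pos
          (Nat.eq_of_mul_eq_mul_right hp.out.pos (h2.trans h1.symm))).le
    rw [hset, Finset.card_erase_of_mem (Finset.mem_filter.2 ⟨hM0, inf_le_right⟩), hmeet _ hDI,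
      Nat.add_sub_cancel]
  refine ⟨by rw [hj]; push_cast; rw [ZMod.natCast_self, zero_mul, add_zero], ?_⟩
  have h0 : (1 + p * j) * j = I.card * (p + 1) := by
    have h := hpairs
    rw [Finset.offDiag_card, hj] at h
    have h' : (1 + p * j) * (1 + p * j) - (1 + p * j) = ((1 + p * j) * j) * p := by
      apply Nat.sub_eq_of_eq_add
      ring
    rw [h', ← mul_assoc] at h
    exact Nat.eq_of_mul_eq_mul_right hp.out.pos h
  have hpp : (p : ZMod (p ^ 2)) * p = 0 := by
    rw [← Nat.cast_mul, ← sq, ZMod.natCast_self]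
  have e := congrArg (Nat.cast : ℕ → ZMod (p ^ 2)) h0
  push_cast at e
  rw [hj]
  push_cast
  have hz : (p : ZMod (p ^ 2)) * j = p * I.card := by
    calc (p : ZMod (p ^ 2)) * j = p * ((1 + p * j) * j) - (p * p) * (j * j) := by ring
      _ = p * (I.card * (p + 1)) - (p * p) * (j * j) := by rw [e]
      _ = p * I.card + (p * p) * (I.card - j * j) := by ring
      _ = p * I.card := by rw [hpp, zero_mul, add_zero]
  rw [hz]

theorem subs_filter_le {a : ℕ} {K M : Subgroup G} (hMK : M ≤ K)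
 :
    (subs p a K).filter (fun H => H ≤ M) = subs p a M := by
  classical
  ext H
  simp only [Finset.mem_filter, mem_subs]
  exact ⟨fun h => ⟨h.2, h.1.2⟩, fun h => ⟨⟨h.1.trans hMK, h.2⟩, h.1⟩⟩

theorem subs_proper {a : ℕ} {K H : Subgroup G} (hK : p ^ (a + 1) ∣ Nat.card K)
    (hH : H ∈ subs p a K) : H < K := by
  refine lt_of_le_of_ne (mem_subs.1 hH).1 fun h => ?_
  rw [← h, (mem_subs.1 hH).2] at hK
  exact absurd ((Nat.pow_dvd_pow_iff_le_right hp.out.one_lt).1 hK) (by omega)

theorem subs_self {a : ℕ} {K : Subgroup G} (hK : Nat.card K = p ^ a) : subs p a K = {K} := by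
  ext H
  simp only [mem_subs, Finset.mem_singleton]
  refine ⟨fun h => eq_of_le_of_card_ge h.1 (by rw [hK, h.2]), ?_⟩
  rintro rfl
  exact ⟨le_rfl, hK⟩

theorem le_of_dvd_card {a : ℕ} {K : Subgroup G} {n : ℕ} (hn : Nat.card K = p ^ n)
    (h : p ^ (a + 1) ∣ Nat.card K) : a < n := by
  rw [hn, Nat.pow_dvd_pow_iff_le_right hp.out.one_lt] at h
  omega

/-- Double counting. -/
theorem card_subs_eq {a : ℕ} {K : Subgroup G} (hK : IsPGroup p K)
    (hd : p ^ (a + 1) ∣ Nat.card K) :
    ((subs p a K).card : ZMod p) = ∑ M ∈ maxs p K, ((subs p a M).card : ZMod p) ∧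
      ((subs p a K).card : ZMod (p ^ 2)) + p * ∑ D ∈ meets p K ⊥, ((subs p a D).card : ZMod (p ^ 2))
        = ∑ M ∈ maxs p K, ((subs p a M).card : ZMod (p ^ 2)) := by
  classical
  have hswap : ∀ (R : Type) [CommRing R] (s : Finset (Subgroup G)), (∀ M ∈ s, M ≤ K) →
      ∑ H ∈ subs p a K, (((s.filter fun M => H ≤ M).card : ℕ) : R) =
        ∑ M ∈ s, ((subs p a M).card : R) := by
    intro R _ s hs
    simp only [Finset.card_filter, Nat.cast_sum]
    rw [Finset.sum_comm]
    refine Finset.sum_congr rfl fun M hM => ?_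
    rw [← Nat.cast_sum, ← Finset.card_filter, subs_filter_le (hs M hM)]
  have hmax : ∀ M ∈ maxs p K, M ≤ K := fun M hM => (mem_maxs.1 hM).1
  have hmeetle : ∀ D ∈ meets p K ⊥, D ≤ K := by
    intro D hD
    obtain ⟨x, hx, rfl⟩ := Finset.mem_image.1 hD
    exact inf_le_left.trans (hmax _ (Finset.mem_filter.1 (Finset.mem_offDiag.1 hx).1).1)
  constructor
  · rw [← hswap (ZMod p) (maxs p K) hmax]
    rw [Finset.sum_congr rfl fun H hH => (card_maxs_congr hK (subs_proper hd hH)).1,
      Finset.sum_const, nsmul_one]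
  · rw [← hswap (ZMod (p ^ 2)) (maxs p K) hmax]
    rw [Finset.sum_congr rfl fun H hH => (card_maxs_congr hK (subs_proper hd hH)).2,
      Finset.sum_add_distrib, Finset.sum_const, nsmul_one, ← Finset.mul_sum,
      ← hswap (ZMod (p ^ 2)) (meets p K ⊥) hmeetle]
    congr 2
    refine Finset.sum_congr rfl fun H hH => ?_
    congr 2
    ext D
    simp only [meets, Finset.mem_filter, Finset.mem_image, Finset.mem_offDiag]
    constructor
    · rintro ⟨⟨x, ⟨hx1, hx2, hne⟩, rfl⟩, hle⟩
      exact ⟨x, ⟨⟨hx1.1, hle.trans inf_le_left⟩, ⟨hx2.1, hle.trans inf_le_right⟩, hne⟩, rfl⟩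
    · rintro ⟨x, ⟨hx1, hx2, hne⟩, rfl⟩
      exact ⟨⟨x, ⟨⟨hx1.1, bot_le⟩, ⟨hx2.1, bot_le⟩, hne⟩, rfl⟩, le_inf hx1.2 hx2.2⟩

/-- The number of subgroups of order `p^a` is `≡ 1` modulo `p`. -/
theorem card_subs_mod_p {a : ℕ} {K : Subgroup G} (hK : IsPGroup p K) (hd : p ^ a ∣ Nat.card K) :
    ((subs p a K).card : ZMod p) = 1 := by
  classical
  suffices ∀ (n : ℕ) (K : Subgroup G), Nat.card K = p ^ n → a ≤ n →
      ((subs p a K).card : ZMod p) = 1 by
    obtain ⟨n, hn⟩ := IsPGroup.iff_card.1 hK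
    exact this n K hn (by rwa [hn, Nat.pow_dvd_pow_iff_le_right hp.out.one_lt] at hd)
  intro n
  induction n using Nat.strong_induction_on with
  | _ n IH =>
    intro K hn han
    rcases eq_or_lt_of_le han with rfl | hlt
    · rw [subs_self hn, Finset.card_singleton, Nat.cast_one]
    have hKp : IsPGroup p K := IsPGroup.of_card hn
    rw [(card_subs_eq hKp (hn ▸ pow_dvd_pow p hlt)).1]
    have hbot : (⊥ : Subgroup G) < K := bot_lt_iff_ne_bot.2 fun h => by
      rw [h, card_bot, eq_comm, Nat.pow_eq_one] at hn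
      rcases hn with h | h
      · exact hp.out.ne_one h
      · omega
    have h1 := (card_maxs_congr hKp hbot).1
    rw [Finset.filter_true_of_mem fun M _ => bot_le] at h1
    rw [Finset.sum_congr rfl (g := fun _ => (1 : ZMod p)), Finset.sum_const, nsmul_one, h1]
    intro M hM
    obtain ⟨-, hc⟩ := mem_maxs.1 hM
    refine IH (n - 1) (by omega) M ?_ (by omega)
    refine Nat.eq_of_mul_eq_mul_right hp.out.pos (hc.trans ?_)
    rw [hn, ← pow_succ]; congr 1; omega

theorem mul_pow_central {M : Type*} [Group M] (a b c : M) (hc : ∀ z, Commute c z)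
    (h : b * a = a * b * c) : ∀ n, (a * b) ^ n = a ^ n * b ^ n * c ^ n.choose 2 := by
  have hb : ∀ n, b ^ n * a = a * b ^ n * c ^ n := by
    intro n
    induction n with
    | zero => simp
    | succ n ih =>
      calc b ^ (n + 1) * a = b ^ n * (b * a) := by rw [pow_succ, mul_assoc]
        _ = (b ^ n * a) * b * c := by rw [h]; simp [mul_assoc]
        _ = a * b ^ n * (c ^ n * b) * c := by rw [ih]; simp [mul_assoc]
        _ = a * b ^ n * (b * c ^ n) * c := by rw [((hc b).pow_left n).eq]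
        _ = a * b ^ (n + 1) * c ^ (n + 1) := by
          rw [pow_succ b, pow_succ c]; simp [mul_assoc]
  intro n
  induction n with
  | zero => simp
  | succ n ih =>
    calc (a * b) ^ (n + 1) = a ^ n * b ^ n * (c ^ n.choose 2 * a) * b := by
          rw [pow_succ, ih]; simp [mul_assoc]
      _ = a ^ n * (b ^ n * a) * c ^ n.choose 2 * b := by
          rw [((hc a).pow_left _).eq]; simp [mul_assoc]
      _ = a ^ n * a * b ^ n * ((c ^ n * c ^ n.choose 2) * b) := by rw [hb]; simp [mul_assoc]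
      _ = a ^ n * a * b ^ n * (b * (c ^ n * c ^ n.choose 2)) := by
          rw [← pow_add, ((hc b).pow_left _).eq]
      _ = a ^ (n + 1) * b ^ (n + 1) * c ^ (n + 1).choose 2 := by
          rw [← pow_add, Nat.choose_succ_succ' n 1, Nat.choose_one_right, pow_succ a, pow_succ b]
          simp [mul_assoc]

/-- Multiplying by `p` only depends on the residue modulo `p`. -/
theorem mul_p_congr {u v : ℕ} (h : (u : ZMod p) = v) :
    (p : ZMod (p ^ 2)) * u = p * v := by
  rw [← Nat.cast_mul, ← Nat.cast_mul, ZMod.natCast_eq_natCast_iff']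
  have h' : u % p = v % p := (ZMod.natCast_eq_natCast_iff' u v p).1 h
  rw [sq, Nat.mul_mod_mul_left, Nat.mul_mod_mul_left, h']

theorem exists_max_ge {K H : Subgroup G} (hK : IsPGroup p K) (hH : H < K) :
    ∃ M ∈ maxs p K, H ≤ M := by
  have h := (card_maxs_congr hK hH).1
  have hne : ((maxs p K).filter fun M => H ≤ M).card ≠ 0 := fun h0 => by
    rw [h0, Nat.cast_zero] at h
    exact zero_ne_one h
  obtain ⟨M, hM⟩ := Finset.card_pos.1 (Nat.pos_of_ne_zero hne)
  exact ⟨M, (Finset.mem_filter.1 hM).1, (Finset.mem_filter.1 hM).2⟩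

theorem not_mem_eq_cyclic {K M : Subgroup G} (hK : IsPGroup p K) (hM : M ∈ maxs p K)
    (honly : ∀ M' ∈ maxs p K, M' = M) : IsCyclic K := by
  obtain ⟨hle, hc⟩ := mem_maxs.1 hM
  have hlt : M < K := lt_of_le_of_ne hle fun h => by
    have hpos : 0 < Nat.card K := Nat.card_pos
    rw [h] at hc
    exact hp.out.ne_one (Nat.eq_of_mul_eq_mul_left hpos (hc.trans (mul_one _).symm))
  obtain ⟨y, hyK, hyM⟩ := SetLike.exists_of_lt hlt
  have hy : zpowers y = K := by
    by_contra hne
    obtain ⟨M', hM', hle'⟩ := exists_max_ge hK (lt_of_le_of_ne (zpowers_le.2 hyK) hne)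
    exact hyM (honly M' hM' ▸ hle' (mem_zpowers y))
  exact (MulEquiv.subgroupCongr hy).isCyclic.1 inferInstance

theorem exists_ne_max {K M : Subgroup G} (hK : IsPGroup p K) (hM : M ∈ maxs p K)
    (hnc : ¬ IsCyclic K) : ∃ M' ∈ maxs p K, M' ≠ M := by
  by_contra h
  push Not at h
  exact hnc (not_mem_eq_cyclic hK hM h)

theorem commutator_mem_max {K M : Subgroup G} (hK : IsPGroup p K) (hM : M ∈ maxs p K) {x y : G}
    (hx : x ∈ K) (hy : y ∈ K) : x * y * x⁻¹ * y⁻¹ ∈ M := by
  obtain ⟨hle, hc⟩ := mem_maxs.1 hM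
  haveI := normal_max hK hM
  have hidx : Nat.card (K ⧸ M.subgroupOf K) = p := by
    have h := (M.subgroupOf K).card_mul_index
    rw [Nat.card_congr (subgroupOfEquivOfLe hle).toEquiv, ← hc] at h
    exact Nat.eq_of_mul_eq_mul_left Nat.card_pos h
  haveI : IsCyclic (K ⧸ M.subgroupOf K) := isCyclic_of_prime_card hidx
  have h := (IsCyclic.commGroup).mul_comm ((⟨x, hx⟩ : K) : K ⧸ M.subgroupOf K) (⟨y, hy⟩ : K)
  rw [← QuotientGroup.mk_mul, ← QuotientGroup.mk_mul, QuotientGroup.eq, mem_subgroupOf] at h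
  simp only [coe_mul, InvMemClass.coe_inv] at h
  have h1 := (mem_normalizer_iff.1 (le_normalizer_max hK hM (mul_mem hy hx)) _).1 h
  have h2 : y * x * ((x * y)⁻¹ * (y * x)) * (y * x)⁻¹ = (x * y * x⁻¹ * y⁻¹)⁻¹ := by group
  rw [h2] at h1
  exact inv_mem_iff.1 h1

/-- A non-cyclic `p`-group has `≡ 1 + p` maximal subgroups modulo `p²`. -/
theorem card_maxs_mod_sq {K : Subgroup G} (hK : IsPGroup p K) (hnc : ¬ IsCyclic K) :
    ((maxs p K).card : ZMod (p ^ 2)) = 1 + p := by
  have hbot : (⊥ : Subgroup G) < K := bot_lt_iff_ne_bot.2 fun h => hnc (h ▸ inferInstance)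
  obtain ⟨M0, hM0, -⟩ := exists_max_ge hK hbot
  obtain ⟨M1, hM1, hne⟩ := exists_ne_max hK hM0 hnc
  set F := ⨅ M ∈ maxs p K, M with hF
  have hFle : ∀ M ∈ maxs p K, F ≤ M := fun M hM => iInf₂_le M hM
  have hmemF : ∀ {g : G}, g ∈ F ↔ ∀ M ∈ maxs p K, g ∈ M := by
    intro g
    simp only [hF, Subgroup.mem_iInf]
  have hFM0 : F < M0 := lt_of_le_of_ne (hFle M0 hM0) fun h => hne <| by
    refine (eq_of_le_of_card_ge (h ▸ hFle M1 hM1) ?_).symm
    exact (Nat.eq_of_mul_eq_mul_right hp.out.pos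
      ((mem_maxs.1 hM1).2.trans (mem_maxs.1 hM0).2.symm)).le
  have hM0p : IsPGroup p M0 := hK.to_le (mem_maxs.1 hM0).1
  set J := (maxs p M0).filter fun D => F ≤ D with hJ
  have hsum : ((maxs p K).erase M0).card = J.card * p := by
    rw [Finset.card_eq_sum_card_fiberwise (f := fun M => M ⊓ M0) (t := J)]
    · rw [Finset.sum_congr rfl (g := fun _ => p), Finset.sum_const, smul_eq_mul]
      intro D hD
      obtain ⟨hDmax, hFD⟩ := Finset.mem_filter.1 hD
      obtain ⟨hDle, hDc⟩ := mem_maxs.1 hDmax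
      have hDK := hDle.trans (mem_maxs.1 hM0).1
      -- a second maximal subgroup over `D`
      have hlt : M0 < K := lt_of_le_of_ne (mem_maxs.1 hM0).1 fun h => by
        have hc := (mem_maxs.1 hM0).2
        rw [h] at hc
        exact hp.out.ne_one (Nat.eq_of_mul_eq_mul_left Nat.card_pos (hc.trans (mul_one _).symm))
      obtain ⟨x, hxK, hxM⟩ := SetLike.exists_of_lt hlt
      have hDn : zpowers x ≤ normalizer (D : Set G) := by
        rw [zpowers_le, mem_normalizer_iff]
        have key : ∀ z ∈ K, ∀ d ∈ D, z * d * z⁻¹ ∈ D := by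
          intro z hz d hd
          have h1 : z * d * z⁻¹ * d⁻¹ ∈ F :=
            hmemF.2 fun M hM => commutator_mem_max hK hM hz (hDK hd)
          have h2 := mul_mem (hFD h1) hd
          simpa [mul_assoc] using h2
        refine fun d => ⟨key x hxK d, fun h => ?_⟩
        have := key x⁻¹ (inv_mem hxK) _ h
        simpa [mul_assoc] using this
      have hle' : D ⊔ zpowers x ≤ K := sup_le hDK (zpowers_le.2 hxK)
      have hMlt : D ⊔ zpowers x < K := by
        refine lt_of_le_of_ne hle' fun h => ?_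
        have hxp : x ^ p ∈ D := hFD (hmemF.2 fun M hM => pow_mem_max hK hM hxK)
        have hcard := (card_sup_zpowers (hDn (mem_zpowers x)) hxp (fun h => hxM (hDle h))).le
        rw [h, hDc, ← (mem_maxs.1 hM0).2] at hcard
        have h2 := hp.out.two_le
        have h3 : 0 < Nat.card M0 := Nat.card_pos
        nlinarith
      obtain ⟨M, hM, hle⟩ := exists_max_ge hK hMlt
      have hMne : M ≠ M0 := fun h => hxM (h ▸ hle (mem_sup_right (mem_zpowers x)))
      have hDeq : D = M ⊓ M0 := by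
        refine eq_of_le_of_card_ge (le_inf (le_sup_left.trans hle) hDle) ?_
        have h1 := card_inf hK hM hM0 hMne
        rw [← (mem_maxs.1 hM0).2, ← hDc] at h1
        exact (Nat.eq_of_mul_eq_mul_right hp.out.pos
          (Nat.eq_of_mul_eq_mul_right hp.out.pos h1)).le
      have hset : (((maxs p K).erase M0).filter fun N => N ⊓ M0 = D) =
          ((maxs p K).filter fun N => M ⊓ M0 ≤ N).erase M0 := by
        ext N
        simp only [Finset.mem_filter, Finset.mem_erase]
        constructor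
        · rintro ⟨⟨hne', hN⟩, h⟩
          exact ⟨hne', hN, hDeq ▸ h ▸ inf_le_left⟩
        · rintro ⟨hne', hN, h⟩
          refine ⟨⟨hne', hN⟩, ?_⟩
          rw [hDeq]
          refine (eq_of_le_of_card_ge (le_inf h inf_le_right) ?_).symm
          have h1 := card_inf hK hM hM0 hMne
          have h2 := card_inf hK hN hM0 hne'
          exact (Nat.eq_of_mul_eq_mul_right hp.out.pos
            (Nat.eq_of_mul_eq_mul_right hp.out.pos (h2.trans h1.symm))).le
      rw [hset, Finset.card_erase_of_mem (Finset.mem_filter.2 ⟨hM0, inf_le_right⟩),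
        card_maxs_above hK hM hM0 hMne, Nat.add_sub_cancel]
    · intro M hM
      obtain ⟨hMne, hMm⟩ := Finset.mem_erase.1 hM
      refine Finset.mem_filter.2 ⟨mem_maxs.2 ⟨inf_le_right, ?_⟩, le_inf (hFle M hMm) (hFle M0 hM0)⟩
      have h1 := card_inf hK hMm hM0 hMne
      rw [← (mem_maxs.1 hM0).2] at h1
      exact Nat.eq_of_mul_eq_mul_right hp.out.pos h1
  have hJ1 := (card_maxs_congr hM0p hFM0).1
  rw [← Finset.card_erase_add_one hM0, hsum]
  push_cast
  rw [mul_comm, mul_p_congr (v := 1) (by rw [hJ1, Nat.cast_one]), Nat.cast_one, mul_one, add_comm]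

theorem dvd_sub_one_of_pow (hp2 : p ≠ 2) {k : ℕ} {r : ℤ} (h1 : (p : ℤ) ∣ r - 1)
    (h : (p : ℤ) ^ (k + 1) ∣ r ^ p - 1) : (p : ℤ) ^ k ∣ r - 1 := by
  have hr : ¬ (p : ℤ) ∣ r := fun hd => by
    have h2 := dvd_sub hd h1
    rw [sub_sub_cancel] at h2
    exact hp.out.ne_one (by exact_mod_cast Int.eq_one_of_dvd_one (by positivity) h2)
  have he := Int.emultiplicity_pow_sub_pow hp.out (hp.out.odd_of_ne_two hp2) (y := 1) h1 hr p
  rw [one_pow, Nat.Prime.emultiplicity_self hp.out] at he
  rw [pow_dvd_iff_le_emultiplicity, he] at h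
  rw [pow_dvd_iff_le_emultiplicity]
  push_cast at h
  exact (ENat.add_le_add_iff_right (by simp)).1 h

/-- In a non-cyclic group of order `p^n`, `n ≥ 3`, `p` odd, the number of cyclic maximal
subgroups is a multiple of `p`. -/
theorem card_cyclic_maxs (hp2 : p ≠ 2) {K : Subgroup G} {n : ℕ} (hn : Nat.card K = p ^ n)
    (hn3 : 3 ≤ n) (hnc : ¬ IsCyclic K) :
    (((maxs p K).filter fun M : Subgroup G => IsCyclic M).card : ZMod p) = 0 := by
  have hK : IsPGroup p K := IsPGroup.of_card hn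
  rcases Finset.eq_empty_or_nonempty ((maxs p K).filter fun M : Subgroup G => IsCyclic M) with h0 | ⟨M1, hM1'⟩
  · rw [h0, Finset.card_empty, Nat.cast_zero]
  obtain ⟨hM1, hcyc⟩ := Finset.mem_filter.1 hM1'
  obtain ⟨x, rfl⟩ := (Subgroup.isCyclic_iff_exists_zpowers_eq_top M1).1 hcyc
  obtain ⟨hxle, hxc⟩ := mem_maxs.1 hM1
  have hxK : x ∈ K := hxle (mem_zpowers x)
  have hord : orderOf x = p ^ (n - 1) := by
    rw [← Nat.card_zpowers]
    refine Nat.eq_of_mul_eq_mul_right hp.out.pos (hxc.trans ?_)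
    rw [hn, ← pow_succ]; congr 1; omega
  set D := zpowers (x ^ p) with hD
  have hDc : Nat.card D = p ^ (n - 2) := by
    rw [hD, Nat.card_zpowers, orderOf_pow' _ hp.out.ne_zero, hord,
      Nat.gcd_eq_right (dvd_pow_self p (by omega : n - 1 ≠ 0))]
    refine Nat.div_eq_of_eq_mul_left hp.out.pos ?_
    rw [← pow_succ]; congr 1; omega
  have hDle : ∀ M ∈ maxs p K, D ≤ M := fun M hM => zpowers_le.2 (pow_mem_max hK hM hxK)
  obtain ⟨M', hM', hne⟩ := exists_ne_max hK hM1 hnc
  have hDeq : zpowers x ⊓ M' = D := by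
    refine (eq_of_le_of_card_ge (le_inf (hDle _ hM1) (hDle _ hM')) ?_).symm
    have h1 := card_inf hK hM1 hM' hne.symm
    rw [hn] at h1
    rw [hDc]
    refine (Nat.eq_of_mul_eq_mul_right hp.out.pos (Nat.eq_of_mul_eq_mul_right hp.out.pos
      (h1.trans ?_))).le
    rw [← pow_succ, ← pow_succ]; congr 1; omega
  have hall : (maxs p K).card = p + 1 := by
    rw [← card_maxs_above hK hM1 hM' hne.symm, Finset.filter_true_of_mem]
    intro M hM
    rw [hDeq]
    exact hDle M hM
  -- an element outside `⟨x⟩`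
  obtain ⟨y, hyK, hyx⟩ : ∃ y ∈ K, y ∉ zpowers x := by
    by_contra hall'
    push Not at hall'
    have heq : K = zpowers x := le_antisymm hall' hxle
    exact hnc (heq ▸ inferInstance)
  obtain ⟨r, hr⟩ := mem_zpowers_iff.1
    ((mem_normalizer_iff.1 (le_normalizer_max hK hM1 hyK) x).1 (mem_zpowers x))
  have hpow_conj : ∀ i : ℤ, y * x ^ i * y⁻¹ = x ^ (r * i) := fun i => by
    rw [zpow_mul, hr, ← MulAut.conj_apply, map_zpow, MulAut.conj_apply]
  have hiter : ∀ j : ℕ, y ^ j * x * (y ^ j)⁻¹ = x ^ (r ^ j) := by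
    intro j
    induction j with
    | zero => simp
    | succ j ih =>
      calc y ^ (j + 1) * x * (y ^ (j + 1))⁻¹ = y * (y ^ j * x * (y ^ j)⁻¹) * y⁻¹ := by
            rw [pow_succ']; group
        _ = x ^ (r ^ (j + 1)) := by rw [ih, hpow_conj, pow_succ']
  have hdvd : ∀ i : ℤ, x ^ i = 1 ↔ (p : ℤ) ^ (n - 1) ∣ i := fun i => by
    rw [← orderOf_dvd_iff_zpow_eq_one, hord, Nat.cast_pow]
  have hr1 : (p : ℤ) ∣ r - 1 := by
    have h1 : x ^ (r - 1) ∈ M' := by
      have h := commutator_mem_max hK hM' hyK hxK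
      rw [← hr] at h
      rwa [zpow_sub, zpow_one]
    have h2 : x ^ (r - 1) ∈ D := hDeq ▸ mem_inf.2 ⟨zpow_mem (mem_zpowers x) _, h1⟩
    obtain ⟨i, hi⟩ := mem_zpowers_iff.1 h2
    rw [← zpow_natCast, ← zpow_mul] at hi
    have h3 : x ^ (r - 1 - (p : ℤ) * i) = 1 := by rw [zpow_sub, hi, mul_inv_cancel]
    rw [hdvd] at h3
    have h4 := dvd_add ((dvd_pow_self (p : ℤ) (by omega : n - 1 ≠ 0)).trans h3) (dvd_mul_right (p : ℤ) i)
    rwa [sub_add_cancel] at h4
  have hrp : (p : ℤ) ^ (n - 2 + 1) ∣ r ^ p - 1 := by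
    rw [show n - 2 + 1 = n - 1 by omega, ← hdvd, zpow_sub, zpow_one, ← hiter p]
    have hyp : y ^ p ∈ zpowers x := pow_mem_max hK hM1 hyK
    obtain ⟨i, hi⟩ := mem_zpowers_iff.1 hyp
    rw [← hi]
    group
  have hr2 := dvd_sub_one_of_pow hp2 hr1 hrp
  set e : G := x ^ (r - 1) with he
  have hxp : y * (x ^ p) = x ^ p * y := by
    rw [← zpow_natCast]
    have h := hpow_conj p
    have h2 : x ^ (r * p) = x ^ (p : ℤ) := by
      rw [← mul_inv_eq_one, ← zpow_neg, ← zpow_add, hdvd,
        show r * p + -(p : ℤ) = (r - 1) * p by ring, show n - 1 = n - 2 + 1 by omega, pow_succ]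
      exact mul_dvd_mul hr2 dvd_rfl
    rw [h2] at h
    exact mul_inv_eq_iff_eq_mul.1 h
  -- powers of `x` divisible by `p^(n-2)` are central in `K`
  have hcentral : ∀ i : ℤ, (p : ℤ) ^ (n - 2) ∣ i → y * x ^ i = x ^ i * y ∧ (x ^ i) ^ p = 1 := by
    intro i hi
    refine ⟨?_, ?_⟩
    · obtain ⟨c, rfl⟩ := (dvd_pow_self (p : ℤ) (by omega : n - 2 ≠ 0)).trans hi
      rw [zpow_mul, zpow_natCast]
      exact (Commute.zpow_right (show Commute y (x ^ p) from hxp) c).eq
    · rw [← zpow_natCast, ← zpow_mul, hdvd, show n - 1 = n - 2 + 1 by omega, pow_succ]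
      exact mul_dvd_mul hi dvd_rfl
  -- `(x^i y)^p = x^(ip) y^p`
  have hmulpow : ∀ i : ℤ, (x ^ i * y) ^ p = x ^ (i * p) * y ^ p := by
    intro i
    let S := zpowers x ⊔ zpowers y
    have hdi : (p : ℤ) ^ (n - 2) ∣ (r - 1) * i := hr2.trans (dvd_mul_right _ _)
    obtain ⟨hcy, hcp⟩ := hcentral _ hdi
    let c : S := ⟨x ^ ((r - 1) * i), mem_sup_left (zpow_mem (mem_zpowers x) _)⟩
    let a : S := ⟨x ^ i, mem_sup_left (zpow_mem (mem_zpowers x) _)⟩
    let b : S := ⟨y, mem_sup_right (mem_zpowers y)⟩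
    have hc : ∀ z : S, Commute c z := by
      rintro ⟨z, hz⟩
      have hle : S ≤ centralizer {x ^ ((r - 1) * i)} := by
        refine sup_le (zpowers_le.2 ?_) (zpowers_le.2 ?_) <;> rw [mem_centralizer_singleton_iff]
        · exact ((Commute.refl x).zpow_right _).eq
        · exact hcy
      exact Subtype.ext (mem_centralizer_singleton_iff.1 (hle hz)).symm
    have hba : b * a = a * b * c := by
      apply Subtype.ext
      show y * x ^ i = x ^ i * y * x ^ ((r - 1) * i)
      rw [mul_assoc, hcy, ← mul_assoc, ← zpow_add, show i + (r - 1) * i = r * i by ring,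
        ← hpow_conj, inv_mul_cancel_right]
    have h := congrArg Subtype.val (mul_pow_central a b c hc hba p)
    obtain ⟨d, hd⟩ := hp.out.dvd_choose_self (k := 2) two_ne_zero
      (lt_of_le_of_ne hp.out.two_le (Ne.symm hp2))
    simp only [SubgroupClass.coe_pow, coe_mul, hd, pow_mul, a, b, c, hcp, one_pow, mul_one] at h
    rw [h, zpow_mul, zpow_natCast]
  -- an element of order `p` outside
  obtain ⟨k, hk⟩ := mem_zpowers_iff.1
    (show y ^ p ∈ D from hDeq ▸ mem_inf.2 ⟨pow_mem_max hK hM1 hyK, pow_mem_max hK hM' hyK⟩)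
  rw [← zpow_natCast x p, ← zpow_mul] at hk
  set z := x ^ (-k) * y with hz
  have hzp : z ^ p = 1 := by
    rw [hz, hmulpow, ← hk, ← zpow_add, show -k * (p : ℤ) + (p : ℤ) * k = 0 by ring, zpow_zero]
  have hzx : z ∉ zpowers x := fun h => hyx (by
    have := mul_mem (zpow_mem (mem_zpowers x) k) h
    rwa [hz, ← mul_assoc, ← zpow_add, add_neg_cancel, zpow_zero, one_mul] at this)
  have hzK : z ∈ K := mul_mem (zpow_mem hxK _) hyK
  have hzD : z ∉ D := fun h => hzx (hDle _ hM1 h)
  have hzn : z ∈ normalizer (D : Set G) := by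
    rw [← hDeq]
    exact inf_normalizer_le_normalizer_inf
      (mem_inf.2 ⟨le_normalizer_max hK hM1 hzK, le_normalizer_max hK hM' hzK⟩)
  have hzD' : z ^ p ∈ D := by rw [hzp]; exact one_mem D
  set N0 := D ⊔ zpowers z with hN0
  have hN0c : Nat.card N0 = Nat.card D * p := card_sup_zpowers hzn hzD' hzD
  have hN0mem : N0 ∈ maxs p K := by
    refine mem_maxs.2 ⟨sup_le ((hDle _ hM1).trans hxle) (zpowers_le.2 hzK), ?_⟩
    rw [hN0c, hDc, hn, ← pow_succ, ← pow_succ]
    congr 1
    omega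
  have hN0nc : ¬ IsCyclic N0 := by
    intro hcy
    haveI := hcy
    -- two subgroups of order `p`
    set w := (x ^ p) ^ (p ^ (n - 3)) with hw
    have hwz : w ∈ D := pow_mem (mem_zpowers _) _
    have hwo : orderOf w = p := by
      rw [hw, orderOf_pow' _ (pow_ne_zero _ hp.out.ne_zero), ← Nat.card_zpowers, hDc,
        Nat.gcd_eq_right (pow_dvd_pow p (by omega))]
      rw [show n - 2 = (n - 3) + 1 by omega, pow_succ,
        Nat.mul_div_cancel_left _ (pow_pos hp.out.pos _)]
    have hzo : orderOf z = p := orderOf_eq_prime hzp fun h => hzD (h ▸ one_mem D)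
    haveI : Fintype N0 := Fintype.ofFinite _
    let zz : N0 := ⟨z, mem_sup_right (mem_zpowers z)⟩
    let ww : N0 := ⟨w, mem_sup_left hwz⟩
    have hzz : orderOf zz = p := by rw [← orderOf_coe]; exact hzo
    have hww : orderOf ww = p := by rw [← orderOf_coe]; exact hwo
    have heq : zpowers zz = zpowers ww := by
      have hsub : ∀ u : N0, orderOf u = p →
          ((zpowers u : Subgroup N0) : Set N0).toFinset = Finset.univ.filter fun v => v ^ p = 1 := by
        intro u hu
        refine Finset.eq_of_subset_of_card_le ?_ ?_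
        · intro v hv
          rw [Set.mem_toFinset] at hv
          rw [Finset.mem_filter]
          refine ⟨Finset.mem_univ _, orderOf_dvd_iff_pow_eq_one.1 ?_⟩
          exact hu ▸ orderOf_dvd_of_mem_zpowers hv
        · refine (IsCyclic.card_pow_eq_one_le hp.out.pos).trans (le_of_eq ?_)
          rw [← Set.ncard_eq_toFinset_card', ← Nat.card_coe_set_eq]
          exact ((Nat.card_zpowers u).trans hu).symm
      exact SetLike.coe_injective (Set.toFinset_inj.1 ((hsub zz hzz).trans (hsub ww hww).symm))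
    obtain ⟨i, hi⟩ := mem_zpowers_iff.1 (heq ▸ mem_zpowers zz)
    apply hzD
    have hval : w ^ i = z := congrArg Subtype.val hi
    exact hval ▸ zpow_mem hwz i
  -- the others are cyclic
  have hcycall : ∀ M ∈ maxs p K, M ≠ N0 → IsCyclic M := by
    intro M hM hMN0
    by_cases hMx : M = zpowers x
    · exact hMx ▸ inferInstance
    obtain ⟨hMle, hMc⟩ := mem_maxs.1 hM
    have hsup : zpowers x ⊔ M = K := by
      refine eq_of_le_of_card_ge (sup_le hxle hMle) ?_
      obtain ⟨c, hc⟩ := card_dvd_of_le (le_sup_right : M ≤ zpowers x ⊔ M)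
      have h2 := card_dvd_of_le (sup_le hxle hMle : zpowers x ⊔ M ≤ K)
      rw [← hMc, hc, Nat.mul_dvd_mul_iff_left Nat.card_pos] at h2
      rcases (Nat.dvd_prime hp.out).1 h2 with h3 | h3
      · exfalso
        rw [h3, mul_one] at hc
        have h4 := eq_of_le_of_card_ge le_sup_right hc.le
        apply hMx
        refine (eq_of_le_of_card_ge (h4 ▸ le_sup_left : zpowers x ≤ M) ?_).symm
        exact (Nat.eq_of_mul_eq_mul_right hp.out.pos (hMc.trans hxc.symm)).le
      · rw [← hMc, hc, h3]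
    have hzmem : z ∈ zpowers x ⊔ M := by rw [hsup]; exact hzK
    rw [← SetLike.mem_coe, coe_mul_of_left_le_normalizer_right _ _
      (hxle.trans (le_normalizer_max hK hM))] at hzmem
    obtain ⟨u, hu, m, hm, hum⟩ := hzmem
    obtain ⟨i, rfl⟩ := mem_zpowers_iff.1 hu
    have hm' : m = x ^ (-i - k) * y := by
      have h5 : x ^ i * m = z := hum
      have h6 : m = (x ^ i)⁻¹ * z := by rw [← h5, inv_mul_cancel_left]
      rw [h6, hz, ← mul_assoc, ← zpow_neg, ← zpow_add, show -i + -k = -i - k by ring]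
    have hmp : m ^ p = x ^ (-i * (p : ℤ)) := by
      rw [hm', hmulpow, ← hk, ← zpow_add]
      congr 1
      ring
    by_cases hpi : (p : ℤ) ∣ i
    · exfalso
      apply hMN0
      have hzM : z ∈ M := by
        obtain ⟨c, rfl⟩ := hpi
        rw [← hum]
        refine mul_mem ?_ hm
        rw [zpow_mul, zpow_natCast]
        exact zpow_mem (hDle M hM (mem_zpowers _)) c
      refine (eq_of_le_of_card_ge (sup_le (hDle M hM) (zpowers_le.2 hzM)) ?_).symm
      exact (Nat.eq_of_mul_eq_mul_right hp.out.pos (hMc.trans (mem_maxs.1 hN0mem).2.symm)).le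
    · have hne1 : ¬ m ^ p ^ (n - 2) = 1 := by
        rw [show n - 2 = 1 + (n - 3) by omega, pow_add, pow_one, pow_mul, hmp,
          ← zpow_natCast, ← zpow_mul, hdvd, Nat.cast_pow, show n - 1 = (n - 3) + 2 by omega,
          pow_add, mul_comm ((p : ℤ) ^ (n - 3)), pow_two]
        intro hd
        rw [mul_dvd_mul_iff_right (pow_ne_zero _ (by exact_mod_cast hp.out.ne_zero)),
          mul_dvd_mul_iff_right (by exact_mod_cast hp.out.ne_zero), dvd_neg] at hd
        exact hpi hd
      have he1 : m ^ p ^ (n - 2 + 1) = 1 := by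
        rw [pow_succ', pow_mul, hmp, ← zpow_natCast, ← zpow_mul, hdvd, Nat.cast_pow,
          show n - 1 = n - 2 + 1 by omega, pow_succ']
        exact mul_dvd_mul (dvd_mul_left _ _) dvd_rfl
      refine (Subgroup.isCyclic_iff_exists_zpowers_eq_top M).2
        ⟨m, eq_of_le_of_card_ge (zpowers_le.2 hm) ?_⟩
      rw [Nat.card_zpowers, orderOf_eq_prime_pow hne1 he1]
      refine (Nat.eq_of_mul_eq_mul_right hp.out.pos (hMc.trans ?_)).le
      rw [hn, ← pow_succ]
      congr 1
      omega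
  have hset : ((maxs p K).filter fun M : Subgroup G => IsCyclic M) = (maxs p K).erase N0 := by
    ext M
    simp only [Finset.mem_filter, Finset.mem_erase]
    exact ⟨fun h => ⟨fun he => hN0nc (he ▸ h.2), h.1⟩, fun h => ⟨h.2, hcycall M h.2 h.1⟩⟩
  rw [hset, Finset.card_erase_of_mem hN0mem, hall, Nat.add_sub_cancel, ZMod.natCast_self]

theorem card_subs_cyclic {a : ℕ} {K : Subgroup G} (hc : IsCyclic K) (hd : p ^ a ∣ Nat.card K) :
    (subs p a K).card = 1 := by
  have hK : ∀ H ∈ subs p a K, ∀ H' ∈ subs p a K, H = H' := by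
    intro H hH H' hH'
    haveI : Fintype K := Fintype.ofFinite _
    haveI := hc
    have hsub : ∀ L ∈ subs p a K,
        ((L.subgroupOf K : Subgroup K) : Set K).toFinset =
          Finset.univ.filter fun v : K => v ^ (p ^ a) = 1 := by
      intro L hL
      obtain ⟨hle, hLc⟩ := mem_subs.1 hL
      refine Finset.eq_of_subset_of_card_le ?_ ?_
      · intro v hv
        rw [Set.mem_toFinset, SetLike.mem_coe, mem_subgroupOf] at hv
        rw [Finset.mem_filter]
        refine ⟨Finset.mem_univ _, Subtype.ext ?_⟩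
        have h := congrArg Subtype.val (pow_card_eq_one' (x := (⟨(v : G), hv⟩ : L)))
        rw [hLc] at h
        simpa using h
      · refine (IsCyclic.card_pow_eq_one_le (pow_pos hp.out.pos a)).trans (le_of_eq ?_)
        rw [← Set.ncard_eq_toFinset_card', ← Nat.card_coe_set_eq]
        exact ((Nat.card_congr (subgroupOfEquivOfLe hle).toEquiv).trans hLc).symm
    have h := SetLike.coe_injective (Set.toFinset_inj.1 ((hsub H hH).trans (hsub H' hH').symm))
    exact (subgroupOf_inj.1 h |> fun e => by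
      rwa [inf_eq_left.2 (mem_subs.1 hH).1, inf_eq_left.2 (mem_subs.1 hH').1] at e)
  obtain ⟨n, hn⟩ := (Nat.dvd_prime_pow hp.out).1 (dvd_refl (p ^ a))
  obtain ⟨L, hL⟩ := Sylow.exists_subgroup_card_pow_prime (G := K) p hd
  have hmem : L.map K.subtype ∈ subs p a K :=
    mem_subs.2 ⟨map_subtype_le _, by rw [card_map_of_injective K.subtype_injective, hL]⟩
  rw [Finset.card_eq_one]
  exact ⟨_, Finset.eq_singleton_iff_unique_mem.2 ⟨hmem, fun H hH => hK H hH _ hmem⟩⟩

/-- **Kulakoff's theorem.** -/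
theorem card_subs_mod_sq (hp2 : p ≠ 2) : ∀ (n : ℕ) {a : ℕ} (K : Subgroup G), Nat.card K = p ^ n →
    1 ≤ a → a < n → ¬ IsCyclic K → ((subs p a K).card : ZMod (p ^ 2)) = 1 + p := by
  intro n
  induction n using Nat.strong_induction_on with
  | _ n IH =>
    intro a K hn ha han hnc
    have hK : IsPGroup p K := IsPGroup.of_card hn
    have hmaxc : ∀ M ∈ maxs p K, Nat.card M = p ^ (n - 1) := by
      intro M hM
      refine Nat.eq_of_mul_eq_mul_right hp.out.pos ((mem_maxs.1 hM).2.trans ?_)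
      rw [hn, ← pow_succ]; congr 1; omega
    by_cases hlast : a + 1 = n
    · have hset : subs p a K = maxs p K := by
        ext M
        rw [mem_subs, mem_maxs, hn]
        constructor
        · rintro ⟨h1, h2⟩
          exact ⟨h1, by rw [h2, ← pow_succ, hlast]⟩
        · rintro ⟨h1, h2⟩
          refine ⟨h1, Nat.eq_of_mul_eq_mul_right hp.out.pos (h2.trans ?_)⟩
          rw [← pow_succ, hlast]
      rw [hset, card_maxs_mod_sq hK hnc]
    have hbot : (⊥ : Subgroup G) < K := bot_lt_iff_ne_bot.2 fun h => hnc (h ▸ inferInstance)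
    have hT := card_maxs_mod_sq hK hnc
    have hI := (card_maxs_congr hK hbot).2
    rw [Finset.filter_true_of_mem fun M _ => bot_le, hT] at hI
    replace hI : (p : ZMod (p ^ 2)) = p * (meets p K ⊥).card := add_left_cancel hI
    obtain ⟨-, hE⟩ := card_subs_eq (a := a) hK (hn ▸ pow_dvd_pow p han)
    have hmeets : ∀ D ∈ meets p K ⊥,
        (p : ZMod (p ^ 2)) * ((subs p a D).card : ZMod (p ^ 2)) = p := by
      intro D hD
      obtain ⟨⟨M, M'⟩, hx, rfl⟩ := Finset.mem_image.1 hD
      obtain ⟨hM, hM', hne⟩ := Finset.mem_offDiag.1 hx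
      have h := card_inf hK (Finset.mem_filter.1 hM).1 (Finset.mem_filter.1 hM').1 hne
      have hc : Nat.card ↥(M ⊓ M') = p ^ (n - 2) := by
        refine Nat.eq_of_mul_eq_mul_right hp.out.pos (Nat.eq_of_mul_eq_mul_right hp.out.pos
          (h.trans ?_))
        rw [hn, ← pow_succ, ← pow_succ]; congr 1; omega
      have h1 := card_subs_mod_p (a := a) (IsPGroup.of_card hc)
        (hc ▸ pow_dvd_pow p (by omega))
      rw [mul_p_congr (v := 1) (by rw [h1, Nat.cast_one]), Nat.cast_one, mul_one]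
    have hsumD : (p : ZMod (p ^ 2)) * ∑ D ∈ meets p K ⊥, ((subs p a D).card : ZMod (p ^ 2)) = p := by
      rw [Finset.mul_sum, Finset.sum_congr rfl hmeets, Finset.sum_const, nsmul_eq_mul, mul_comm]
      exact hI.symm
    have hcyc : (p : ZMod (p ^ 2)) *
        (((maxs p K).filter fun M : Subgroup G => IsCyclic M).card : ZMod (p ^ 2)) = 0 := by
      rw [mul_p_congr (v := 0) (by rw [card_cyclic_maxs hp2 hn (by omega) hnc, Nat.cast_zero]),
        Nat.cast_zero, mul_zero]
    have hsumM : ∑ M ∈ maxs p K, ((subs p a M).card : ZMod (p ^ 2)) = (1 + p) * (1 + p) := by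
      have hval : ∀ M ∈ maxs p K, ((subs p a M).card : ZMod (p ^ 2)) =
          (1 + (p : ZMod (p ^ 2))) - (if IsCyclic M then (p : ZMod (p ^ 2)) else 0) := by
        intro M hM
        split
        · next hc =>
            rw [card_subs_cyclic hc (by rw [hmaxc M hM]; exact pow_dvd_pow p (by omega)),
              Nat.cast_one, add_sub_cancel_right]
        · next hc =>
            rw [IH (n - 1) (by omega) M (hmaxc M hM) ha (by omega) hc, sub_zero]
      rw [Finset.sum_congr rfl hval, Finset.sum_sub_distrib, Finset.sum_const, nsmul_eq_mul, hT,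
        ← Finset.sum_filter, Finset.sum_const, nsmul_eq_mul, mul_comm (_ : ZMod (p ^ 2)) (p : ZMod (p ^ 2)),
        hcyc, sub_zero]
    rw [hsumD, hsumM] at hE
    have hpp : (p : ZMod (p ^ 2)) * p = 0 := by
      rw [← Nat.cast_mul, ← sq, ZMod.natCast_self]
    linear_combination hE + hpp

end CfsgLib.SolvCrit.Kulakoff
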