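import Mathlib

/-!
# Splitting elements centralise coprime sections

`centralize_of_splitting`: the averaging argument for an element all of whose translates by
`V * Q` have order dividing a prime.
-/

set_option linter.style.haveILetI false

namespace CfsgLib.SolvCrit

open Subgroup

universe u

variable {G : Type u} [Group G] [Finite G]

/-- The averaging lemma: if all elements `v * u * x` (`v ∈ V`, `u ∈ Q`) have order dividing the
prime `p`, then `Q` centralises `V`, when `Q` is `x`-invariant of order coprime to the abelian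
group `V`. -/
theorem centralize_of_splitting {p : ℕ} (hp : p.Prime) {V Q : Subgroup G} {x : G}
    (hV : IsMulCommutative V) (hQV : Q ≤ normalizer (V : Set G))
    (hxV : x ∈ normalizer (V : Set G)) (hxQ : x ∈ normalizer (Q : Set G))
    (hne : ∀ u ∈ Q, u * x ∉ V)
    (hspl : ∀ u ∈ Q, ∀ v ∈ V, (v * (u * x)) ^ p = 1) (hout : x ∉ Q)
    (hcop : (Nat.card Q).Coprime (Nat.card V)) : Q ≤ centralizer (V : Set G) := by
  classical
  haveI := Fintype.ofFinite Q
  letI : CommGroup V := { (inferInstance : Group V) with mul_comm := hV.is_comm.comm }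
  set N := normalizer (V : Set G) with hN
  -- the action on `V`
  let act : N →* MulAut V :=
    { toFun := fun n =>
        { toFun := fun v => ⟨n * v * (n : G)⁻¹, (mem_normalizer_iff.1 n.2 v).1 v.2⟩
          invFun := fun v => ⟨(n : G)⁻¹ * v * n, (mem_normalizer_iff''.1 n.2 v).1 v.2⟩
          left_inv := fun v => by ext; simp [mul_assoc]
          right_inv := fun v => by ext; simp [mul_assoc]
          map_mul' := fun v w => by ext; simp [mul_assoc] }
      map_one' := by ext; simp
      map_mul' := fun a b => by ext; simp [mul_assoc] }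
  have hact : ∀ (n : N) (v : V), ((act n v : V) : G) = n * v * (n : G)⁻¹ := fun _ _ => rfl
  let x' : N := ⟨x, hxV⟩
  let ι : Q → N := fun u => ⟨u, hQV u.2⟩
  -- the product of the conjugates by powers of an element outside is trivial
  have hrel : ∀ (u : Q) (v : V), ∏ i ∈ Finset.range p, act ((ι u * x') ^ i) v = 1 := by
    intro u v
    set w := ι u * x' with hw
    have hwp : w ^ p = 1 := Subtype.ext (by
      simpa [hw, ι, x'] using hspl u u.2 1 (one_mem V))
    have key : ∀ n : ℕ, (((∏ i ∈ Finset.range n, act (w ^ i) v) : V) : G) * (w : G) ^ n =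
        ((v : G) * w) ^ n := by
      intro n
      induction n with
      | zero => simp
      | succ n ih =>
        rw [Finset.prod_range_succ, pow_succ (((v : G) * w)), ← ih, Subgroup.coe_mul, hact,
          SubgroupClass.coe_pow, pow_succ]
        group
    have h := key p
    rw [← SubgroupClass.coe_pow w p, hwp, OneMemClass.coe_one, mul_one] at h
    exact Subtype.ext (h.trans (hspl u u.2 v v.2))
  -- for `0 < i < p`, the elements `(u x)^i x^{-i}` run through `Q`
  have hpow : ∀ (i : ℕ) (u : Q), ((u : G) * x) ^ i * (x ^ i)⁻¹ ∈ Q := by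
    intro i u
    induction i with
    | zero => simp
    | succ i ih =>
      have h2 : x ^ i * (u : G) * (x ^ i)⁻¹ ∈ Q :=
        (mem_normalizer_iff.1 (pow_mem hxQ i) u).1 u.2
      have h3 := mul_mem ih h2
      rw [pow_succ, pow_succ]
      convert h3 using 1
      group
  haveI := Fact.mk hp
  set S : V → V := fun v => ∏ u : Q, act (ι u) v with hS
  have hinj : ∀ i, 0 < i → i < p → Function.Injective
      (fun u : Q => (⟨_, hpow i u⟩ : Q)) := by
    intro i hi hip u u' huu
    have h1 : ((u : G) * x) ^ i = ((u' : G) * x) ^ i := mul_right_cancel (congrArg Subtype.val huu)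
    have hc : Nat.Coprime i p := (hp.coprime_iff_not_dvd.2 (Nat.not_dvd_of_pos_of_lt hi hip)).symm
    have hd : ∀ w : Q, orderOf ((w : G) * x) ∣ p := fun w => orderOf_dvd_of_pow_eq_one
      (by simpa using hspl w w.2 1 (one_mem V))
    obtain ⟨m, hm⟩ := exists_pow_eq_self_of_coprime (hc.coprime_dvd_right (hd u))
    obtain ⟨m', hm'⟩ := exists_pow_eq_self_of_coprime (hc.coprime_dvd_right (hd u'))
    -- both are recovered by the same exponent
    have hm2 : (((u' : G) * x) ^ i) ^ m = (u' : G) * x := by
      rw [← pow_mul]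
      have hmod : orderOf ((u : G) * x) = p ∨ orderOf ((u : G) * x) = 1 :=
        ((Nat.dvd_prime hp).1 (hd u)).symm
      rcases hmod with h | h
      · rcases (Nat.dvd_prime hp).1 (hd u') with h' | h'
        · rw [orderOf_eq_one_iff.1 h', one_pow]
        · have h3 : ((u : G) * x) ^ (i * m) = ((u : G) * x) ^ 1 := by rw [pow_mul, hm, pow_one]
          rw [pow_eq_pow_iff_modEq, h] at h3
          conv_rhs => rw [← pow_one ((u' : G) * x)]
          rwa [pow_eq_pow_iff_modEq, h']
      · exfalso
        exact hne u u.2 ((orderOf_eq_one_iff.1 h) ▸ one_mem V)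
    rw [h1, hm2] at hm
    exact Subtype.ext (mul_right_cancel hm.symm)
  have hsum : ∀ v : V, v ^ Fintype.card Q * S (∏ i ∈ Finset.Ico 1 p, act (x' ^ i) v) = 1 := by
    intro v
    have h1 : ∏ u : Q, ∏ i ∈ Finset.range p, act ((ι u * x') ^ i) v = 1 :=
      Finset.prod_eq_one fun u _ => hrel u v
    rw [Finset.prod_comm, Finset.range_eq_Ico, Finset.prod_eq_prod_Ico_succ_bot hp.pos] at h1
    simp only [pow_zero, map_one, MulAut.one_apply, Finset.prod_const, Finset.card_univ] at h1
    rw [hS]
    simp only [map_prod]
    rw [Finset.prod_comm]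
    convert h1 using 2
    refine Finset.prod_congr rfl fun i hi => ?_
    rw [Finset.mem_Ico] at hi
    rw [← (Equiv.ofBijective _ (Finite.injective_iff_bijective.1
      (hinj i hi.1 hi.2))).prod_comp (fun u : Q => act (ι u) (act (x' ^ i) v))]
    refine Finset.prod_congr rfl fun u _ => ?_
    rw [Equiv.ofBijective_apply, ← MulAut.mul_apply, ← map_mul]
    congr 2
    exact Subtype.ext (by simp [ι, x'])
  have hfix : ∀ (q : Q) (v : V), act (ι q) (S v) = S v := by
    intro q v
    simp only [hS, map_prod]
    rw [← Equiv.prod_comp (Equiv.mulLeft q) (fun u : Q => act (ι u) v)]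
    refine Finset.prod_congr rfl fun u _ => ?_
    rw [← MulAut.mul_apply, ← map_mul]
    rfl
  intro q hq v hv
  have h1 : act (ι ⟨q, hq⟩) ((⟨v, hv⟩ : V) ^ Fintype.card Q) = (⟨v, hv⟩ : V) ^ Fintype.card Q := by
    rw [eq_inv_of_mul_eq_one_left (hsum ⟨v, hv⟩), map_inv, hfix]
  rw [map_pow] at h1
  have hb : Function.Injective fun w : V => w ^ Fintype.card Q := by
    rw [← Nat.card_eq_fintype_card]
    exact (powCoprime (hcop.symm)).injective
  have h2 := congrArg Subtype.val (hb h1)
  rw [hact] at h2
  change q * v * q⁻¹ = v at h2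
  exact (mul_inv_eq_iff_eq_mul.1 h2).symm

end CfsgLib.SolvCrit
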