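import Mathlib
import Cfsg.Agent.Coprime.ActionHom
import Cfsg.Agent.SolvCrit.ZJBasic
import Cfsg.Agent.Transfer.NormalPComplement
import Cfsg.Agent.S0117

/-!
Coprime action in which every proper invariant subgroup is nilpotent: the group is solvable
(given solvability of groups of odd order) and has the Schmidt-type structure.
-/

set_option autoImplicit false
set_option linter.style.haveILetI false

namespace CfsgLib.SolvCrit.InvariantNilpotent

open Subgroup
open Cfsg (pResidual HasNormalPComplement centerThompsonOf)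
open CfsgLib.Transfer

universe u

variable {X : Type u} [Group X]

/-- Every proper `A`-invariant subgroup of `G` is nilpotent. -/
def AllNilpotent (G A : Subgroup X) : Prop :=
  ∀ H : Subgroup X, H ≤ G → H ≠ G → A ≤ normalizer (H : Set X) → Group.IsNilpotent H

theorem isSolvable_or_of_coprime
    (hodd : ∀ (K : Type u) [Group K] [Finite K], Odd (Nat.card K) → Group.IsSolvable K)
    [Finite X] {G A : Subgroup X} (hcop : (Nat.card A).Coprime (Nat.card G)) :
    Group.IsSolvable A ∨ Group.IsSolvable G := by
  rcases Nat.even_or_odd (Nat.card A) with h | h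
  · rcases Nat.even_or_odd (Nat.card G) with h' | h'
    · exact absurd (Nat.eq_one_of_dvd_coprimes hcop h.two_dvd h'.two_dvd) (by norm_num)
    · exact Or.inr (hodd G h')
  · exact Or.inl (hodd A h)

/-- Solvability. -/
theorem isSolvable_of_allNilpotent
    (hodd : ∀ (K : Type u) [Group K] [Finite K], Odd (Nat.card K) → Group.IsSolvable K) :
    ∀ (n : ℕ) (X : Type u) [Group X] [Finite X] (G A : Subgroup X), Nat.card X = n → G.Normal →
      G ⊔ A = ⊤ → (Nat.card A).Coprime (Nat.card G) → AllNilpotent G A →
        Group.IsSolvable G := by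
  intro n
  induction n using Nat.strong_induction_on with
  | _ n IH =>
    intro X _ _ G A hn hGn htop hcop hall
    have hsolv := isSolvable_or_of_coprime hodd hcop
    have hAG : A ≤ normalizer (G : Set X) := le_top.trans (normalizer_eq_top (H := G)).ge
    by_cases hq : ∃ q : ℕ, q.Prime ∧ q ≠ 2 ∧ q ∣ Nat.card G
    swap
    · push Not at hq
      haveI : Fact (Nat.Prime 2) := ⟨Nat.prime_two⟩
      have h2 : IsPGroup 2 G := IsPGroup.of_card (n := (Nat.card G).primeFactorsList.length)
        (Nat.eq_prime_pow_of_unique_prime_dvd Nat.card_pos.ne' fun hd hdG => by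
          by_contra h
          exact hq _ hd h hdG)
      haveI := h2.isNilpotent
      infer_instance
    obtain ⟨q, hqp, hq2, hqG⟩ := hq
    haveI : Fact q.Prime := ⟨hqp⟩
    obtain ⟨P, hP⟩ := Coprime.exists_invariant_sylow hAG hcop hsolv q
    set P' := (P : Subgroup G).map G.subtype with hP'
    set Z := centerThompsonOf q P' with hZ
    have hPne : (P : Subgroup G) ≠ ⊥ := P.ne_bot_of_dvd_card hqG
    have hZne : Z ≠ ⊥ := centerThompson_ne_bot (P.2.map _) (by
      intro h
      apply hPne
      rw [← map_eq_bot_iff_of_injective _ G.subtype_injective]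
      exact h)
    have hZG : Z ≤ G := (centerThompson_le q P').trans (map_subtype_le _)
    have hAZ : A ≤ normalizer (Z : Set X) := hP.trans (normalizer_le_normalizer_centerThompson q P')
    have hZp : IsPGroup q Z := (P.2.map _).to_le (centerThompson_le q P')
    by_cases hN : G ≤ normalizer (Z : Set X)
    · have hZn : Z.Normal := normalizer_eq_top_iff.1 (top_le_iff.1 (htop ▸ sup_le hN hAZ))
      set π := QuotientGroup.mk' Z with hπ
      have hlt : Nat.card (X ⧸ Z) < n := by
        rw [← hn]
        conv_rhs => rw [card_eq_card_quotient_mul_card_subgroup Z]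
        exact lt_mul_of_one_lt_right Nat.card_pos ((one_lt_card_iff_ne_bot Z).2 hZne)
      haveI : Group.IsSolvable (G.map π) := by
        refine IH _ hlt (X ⧸ Z) (G.map π) (A.map π) rfl
          (hGn.map _ (QuotientGroup.mk'_surjective Z)) ?_ ?_ ?_
        · rw [← Subgroup.map_sup, htop, map_top_of_surjective _ (QuotientGroup.mk'_surjective Z)]
        · exact (hcop.coprime_dvd_left (card_map_dvd _ _)).coprime_dvd_right (card_map_dvd _ _)
        · intro H hHG hHne hAH
          have hle : H.comap π ≤ G := by
            have h := comap_mono (f := π) hHG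
            rwa [comap_map_eq_self (by rw [hπ, QuotientGroup.ker_mk']; exact hZG)] at h
          have hne : H.comap π ≠ G := by
            intro h
            apply hHne
            rw [← h, map_comap_eq_self_of_surjective (QuotientGroup.mk'_surjective Z)]
          have hinv : A ≤ normalizer ((H.comap π : Subgroup X) : Set X) := by
            intro a ha
            rw [← comap_normalizer_eq_of_surjective _ (QuotientGroup.mk'_surjective Z)]
            exact hAH (mem_map_of_mem π ha)
          haveI := hall _ hle hne hinv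
          exact Group.nilpotent_of_surjective (π.subgroupComap H)
            (π.subgroupComap_surjective_of_surjective H (QuotientGroup.mk'_surjective Z))
      haveI : Group.IsSolvable Z := by haveI := hZp.isNilpotent; infer_instance
      refine Group.isSolvable_of_ker_le_range (inclusion hZG) (π.subgroupMap G) ?_
      rintro ⟨g, hg⟩ hgk
      have hgZ : g ∈ Z := by
        rw [← QuotientGroup.eq_one_iff]
        exact congrArg Subtype.val hgk
      exact ⟨⟨g, hgZ⟩, rfl⟩
    · -- a normal `q`-complement
      set H0 := G ⊓ normalizer (Z : Set X) with hH0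
      have hH0ne : H0 ≠ G := fun h => hN (inf_eq_left.1 h)
      haveI : Group.IsNilpotent H0 := hall _ inf_le_left hH0ne
        ((le_inf hAG (hAZ.trans le_normalizer)).trans inf_normalizer_le_normalizer_inf)
      have hc0 : HasNormalPComplement q H0 := hasNormalPComplement_of_isNilpotent
      set K0 := normalizer ((centerThompsonOf q (P : Subgroup G) : Subgroup G) : Set G) with hK0
      have hZmap : (centerThompsonOf q (P : Subgroup G)).map G.subtype = Z :=
        map_centerThompson G.subtype G.subtype_injective q _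
      have hK0map : K0.map G.subtype = H0 := by
        have hcm : centerThompsonOf q (P : Subgroup G) = Z.subgroupOf G := by
          rw [← hZmap, subgroupOf, comap_map_eq_self_of_injective G.subtype_injective]
        rw [hK0, hcm, ← subgroupOf_normalizer_eq hZG, subgroupOf_map_subtype, inf_comm]
      have hcK : HasNormalPComplement q K0 := by
        refine hasNormalPComplement_of_injective hc0
          ((MulEquiv.subgroupCongr hK0map).toMonoidHom.comp
            (K0.equivMapOfInjective _ G.subtype_injective).toMonoidHom) ?_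
        exact (MulEquiv.subgroupCongr hK0map).injective.comp
          (K0.equivMapOfInjective _ G.subtype_injective).injective
      have hcG : HasNormalPComplement q G := (Cfsg.Agent.S0117.result hq2 P).2 hcK
      set K := (pResidual q G).map G.subtype with hK
      have hKne : K ≠ G := by
        intro h
        apply hasNormalPComplement_iff.1 hcG
        rw [← card_map_of_injective G.subtype_injective, ← hK, h]
        exact hqG
      have hKA : A ≤ normalizer (K : Set X) := by
        intro a ha
        rw [hK, map_subtype_pResidual]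
        have key : ∀ b ∈ A, (closure {g : X | g ∈ G ∧ Nat.Coprime (orderOf g) q}).map
            (MulAut.conj b).toMonoidHom ≤ closure {g : X | g ∈ G ∧ Nat.Coprime (orderOf g) q} := by
          intro b hb
          rw [MonoidHom.map_closure]
          refine closure_mono ?_
          rintro _ ⟨g, ⟨hgG, hgq⟩, rfl⟩
          refine ⟨(mem_normalizer_iff.1 (hAG hb) g).1 hgG, ?_⟩
          exact (MulEquiv.orderOf_eq (MulAut.conj b) g).symm ▸ hgq
        rw [mem_normalizer_iff]
        refine fun y => ⟨fun hy => key a ha ⟨y, hy, rfl⟩, fun hy => ?_⟩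
        have h := key a⁻¹ (inv_mem ha) ⟨_, hy, rfl⟩
        simpa [mul_assoc] using h
      haveI := hall K (map_subtype_le _) hKne hKA
      haveI : Group.IsNilpotent (pResidual q G) := Group.nilpotent_of_surjective (((pResidual q G).equivMapOfInjective _ G.subtype_injective).symm.toMonoidHom)
        (MulEquiv.surjective _)
      haveI : Group.IsSolvable (G ⧸ pResidual q G) := by
        haveI := (isPGroup_quotient_pResidual (p := q) (G := G)).isNilpotent
        infer_instance
      refine Group.isSolvable_of_ker_le_range (pResidual q G).subtype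
        (QuotientGroup.mk' (pResidual q G)) ?_
      rw [QuotientGroup.ker_mk', range_subtype]

/-- The structure of a solvable non-nilpotent such group. -/
theorem structure_of_allNilpotent [Finite X] {G A : Subgroup X} (hAG : A ≤ normalizer (G : Set X))
    (hcop : (Nat.card A).Coprime (Nat.card G)) (hall : AllNilpotent G A)
    (hsol : Group.IsSolvable G) (hG : ¬ Group.IsNilpotent G) :
    ∃ p q a b : ℕ, p.Prime ∧ q.Prime ∧ p ≠ q ∧ Nat.card G = p ^ a * q ^ b ∧
      ∃ P : Sylow p G, p ∣ Nat.card G ∧ (P : Subgroup G).Normal ∧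
        A ≤ normalizer (((P : Subgroup G).map G.subtype : Subgroup X) : Set X) := by
  haveI := hsol
  haveI : Nontrivial G := by
    by_contra h
    rw [not_nontrivial_iff_subsingleton] at h
    exact hG inferInstance
  obtain ⟨N, hNn, hNp⟩ := Coprime.exists_normal_index_prime G
  set q := N.index with hq
  haveI : Fact q.Prime := ⟨hNp⟩
  set M := (pResidual q G).map G.subtype with hM
  have hMne : M ≠ G := by
    intro h
    have hle : pResidual q G ≤ N := pResidual_le_of_index_eq_pow N (k := 1) (pow_one q).symm
    have h2 : pResidual q G = ⊤ := by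
      apply map_injective G.subtype_injective
      rw [← hM, h, ← MonoidHom.range_eq_map, range_subtype]
    rw [h2, top_le_iff] at hle
    have := hNp.ne_one
    rw [hq, hle, index_top] at this
    exact this rfl
  have hMA : A ≤ normalizer (M : Set X) := by
    intro a ha
    rw [hM, map_subtype_pResidual]
    have key : ∀ b ∈ A, (closure {g : X | g ∈ G ∧ Nat.Coprime (orderOf g) q}).map
        (MulAut.conj b).toMonoidHom ≤ closure {g : X | g ∈ G ∧ Nat.Coprime (orderOf g) q} := by
      intro b hb
      rw [MonoidHom.map_closure]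
      refine closure_mono ?_
      rintro _ ⟨g, ⟨hgG, hgq⟩, rfl⟩
      refine ⟨(mem_normalizer_iff.1 (hAG hb) g).1 hgG, ?_⟩
      exact (MulEquiv.orderOf_eq (MulAut.conj b) g).symm ▸ hgq
    rw [mem_normalizer_iff]
    refine fun y => ⟨fun hy => key a ha ⟨y, hy, rfl⟩, fun hy => ?_⟩
    have h := key a⁻¹ (inv_mem ha) ⟨_, hy, rfl⟩
    simpa [mul_assoc] using h
  haveI := hall M (map_subtype_le _) hMne hMA
  haveI hMnil : Group.IsNilpotent (pResidual q G) := Group.nilpotent_of_surjective (((pResidual q G).equivMapOfInjective _ G.subtype_injective).symm.toMonoidHom)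
    (MulEquiv.surjective _)
  -- Sylow subgroups for the other primes are normal
  have hnormal : ∀ (r : ℕ) [Fact r.Prime], r ≠ q → ∀ R : Sylow r G, (R : Subgroup G).Normal := by
    intro r _ hr R
    have hle : ∀ S : Sylow r G, (S : Subgroup G) ≤ pResidual q G := by
      intro S x hx
      apply mem_pResidual_of_coprime
      obtain ⟨k, hk⟩ := S.2 ⟨x, hx⟩
      have h1 : orderOf x ∣ r ^ k := orderOf_dvd_of_pow_eq_one (congrArg Subtype.val hk)
      exact (Nat.Coprime.pow_left k ((Nat.coprime_primes Fact.out hNp).2 hr)).coprime_dvd_left h1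
    have hsub : ((R.subtype (hle R) : Sylow r (pResidual q G)) : Subgroup (pResidual q G)).Normal :=
      ((Group.isNilpotent_of_finite_tfae (G := ↥(pResidual q G))).out 0 3 rfl rfl).1
        hMnil r inferInstance _
    have hnorm : pResidual q G ≤ normalizer ((R : Subgroup G) : Set G) :=
      (normal_subgroupOf_iff_le_normalizer (hle R)).1 hsub
    refine normalizer_eq_top_iff.1 (eq_top_iff.2 fun g _ => ?_)
    refine Sylow.smul_eq_iff_mem_normalizer.1 ?_
    apply Sylow.ext
    have h3 : ((g • R : Sylow r G) : Subgroup G) ⊓ normalizer ((R : Subgroup G) : Set G) =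
        ((g • R : Sylow r G) : Subgroup G) ⊓ (R : Subgroup G) :=
      (g • R).2.inf_normalizer_sylow R
    rw [inf_eq_left.2 ((hle _).trans hnorm)] at h3
    exact ((g • R).3 R.2 (inf_eq_left.1 h3.symm)).symm
  obtain ⟨Q, hQ⟩ := Coprime.exists_invariant_sylow hAG hcop (Or.inr hsol) q
  by_cases hex : ∃ r : ℕ, r.Prime ∧ r ≠ q ∧ r ∣ Nat.card G ∧ ∀ R : Sylow r G,
      (Q : Subgroup G) ⊔ (R : Subgroup G) = ⊤
  · obtain ⟨r, hrp, hrq, hrG, hR⟩ := hex
    haveI : Fact r.Prime := ⟨hrp⟩
    obtain ⟨R, hRA⟩ := Coprime.exists_invariant_sylow hAG hcop (Or.inr hsol) r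
    obtain ⟨a, ha⟩ := IsPGroup.iff_card.1 R.2
    obtain ⟨b, hb⟩ := IsPGroup.iff_card.1 Q.2
    refine ⟨r, q, a, b, hrp, hNp, hrq, ?_, R, hrG, hnormal r hrq R, hRA⟩
    have hRn := hnormal r hrq R
    have hdisj : (R : Subgroup G) ⊓ (Q : Subgroup G) = ⊥ :=
      inf_eq_bot_of_coprime (by
        rw [ha, hb]
        exact Nat.Coprime.pow _ _ ((Nat.coprime_primes hrp hNp).2 hrq))
    have hc := CfsgLib.Coprime.card_sup_eq (N := (R : Subgroup G)) (H := (Q : Subgroup G))
      (le_top.trans (normalizer_eq_top (H := (R : Subgroup G))).ge) hdisj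
    rw [sup_comm, hR R, card_top, ha, hb] at hc
    exact hc
  -- otherwise the group is nilpotent
  exfalso
  apply hG
  push Not at hex
  refine ((Group.isNilpotent_of_finite_tfae (G := ↥G)).out 0 3 rfl rfl).2 fun r hr R => ?_
  haveI := hr
  by_cases hrq : r = q
  swap
  · exact hnormal r hrq R
  subst hrq
  have hQn : (Q : Subgroup G).Normal := by
    refine normalizer_eq_top_iff.1 (eq_top_of_card_eq _ ?_)
    refine Nat.dvd_antisymm (card_subgroup_dvd_card _) ?_
    refine (Nat.dvd_iff_prime_pow_dvd_dvd _ _).2 fun s k hs hk => ?_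
    haveI : Fact s.Prime := ⟨hs⟩
    obtain ⟨S, hSA⟩ := Coprime.exists_invariant_sylow hAG hcop (Or.inr hsol) s
    have hSd : s ^ k ∣ Nat.card (S : Subgroup G) := S.pow_dvd_card_of_pow_dvd_card hk
    by_cases hsq : s = N.index
    · subst hsq
      refine hSd.trans ?_
      rw [Nat.card_congr (S.equiv Q).toEquiv]
      exact card_dvd_of_le le_normalizer
    rcases Nat.eq_zero_or_pos k with rfl | hkpos
    · simp
    refine hSd.trans (card_dvd_of_le ?_)
    -- `Q` and `S` generate a proper invariant subgroup
    set T := ((Q : Subgroup G).map G.subtype) ⊔ ((S : Subgroup G).map G.subtype) with hT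
    obtain ⟨R', hR'⟩ := hex s hs hsq ((dvd_pow_self s hkpos.ne').trans hk)
    have hSn := hnormal s hsq S
    have hRS : R' = S := by
      haveI := Sylow.unique_of_normal S hSn
      exact Subsingleton.elim _ _
    subst hRS
    have hTne : T ≠ G := by
      intro h
      apply hR'
      apply map_injective G.subtype_injective
      rw [Subgroup.map_sup, ← hT, h, ← MonoidHom.range_eq_map, range_subtype]
    have hTA : A ≤ normalizer (T : Set X) := by
      intro a ha
      rw [mem_normalizer_iff]
      have key : ∀ b ∈ A, T.map (MulAut.conj b).toMonoidHom ≤ T := by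
        intro b hb
        rw [hT, Subgroup.map_sup]
        refine sup_le_sup ?_ ?_
        · rintro _ ⟨x, hx, rfl⟩
          exact (mem_normalizer_iff.1 (hQ hb) x).1 hx
        · rintro _ ⟨x, hx, rfl⟩
          exact (mem_normalizer_iff.1 (hSA hb) x).1 hx
      refine fun y => ⟨fun hy => key a ha ⟨y, hy, rfl⟩, fun hy => ?_⟩
      have h := key a⁻¹ (inv_mem ha) ⟨_, hy, rfl⟩
      simpa [mul_assoc] using h
    haveI := hall T (sup_le (map_subtype_le _) (map_subtype_le _)) hTne hTA
    set T' := (Q : Subgroup G) ⊔ (R' : Subgroup G) with hT'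
    have hT'map : T'.map G.subtype = T := by rw [hT', Subgroup.map_sup]
    haveI hT'nil : Group.IsNilpotent T' := Group.nilpotent_of_surjective (((MulEquiv.subgroupCongr hT'map.symm).trans
        (T'.equivMapOfInjective _ G.subtype_injective).symm).toMonoidHom)
      (MulEquiv.surjective _)
    have hsub : (((Q : Sylow N.index G).subtype (le_sup_left : (Q : Subgroup G) ≤ T')) :
        Subgroup T').Normal :=
      ((Group.isNilpotent_of_finite_tfae (G := ↥T')).out 0 3 rfl rfl).1 hT'nil _ inferInstance _
    exact le_sup_right.trans ((normal_subgroupOf_iff_le_normalizer le_sup_left).1 hsub)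
  haveI := Sylow.unique_of_normal Q hQn
  rw [Subsingleton.elim R Q]
  exact hQn

open SemidirectProduct in
/-- Action form, given solvability of groups of odd order. -/
theorem of_action.{uA, uG} {A : Type uA} {G : Type uG} [Group A] [Group G] [Finite A] [Finite G]
    (φ : A →* MulAut G)
    (hodd : ∀ (K : Type (max uG uA)) [Group K] [Finite K],
      Odd (Nat.card K) → Group.IsSolvable K)
    (hcop : (Nat.card A).Coprime (Nat.card G))
    (hmax : ∀ H : Subgroup G, H ≠ ⊤ → (∀ a : A, ∀ x ∈ H, φ a x ∈ H) →
      (∀ K : Subgroup G, H < K → (∀ a : A, ∀ x ∈ K, φ a x ∈ K) → K = ⊤) → Group.IsNilpotent H)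
    (hG : ¬ Group.IsNilpotent G) :
    Group.IsSolvable G ∧
      (∃ p q a b : ℕ, p.Prime ∧ q.Prime ∧ p ≠ q ∧ Nat.card G = p ^ a * q ^ b) ∧
      ∃ (p : ℕ) (P : Sylow p G), p.Prime ∧ p ∣ Nat.card G ∧ (P : Subgroup G).Normal ∧
        (∀ a : A, ∀ x ∈ (P : Subgroup G), φ a x ∈ (P : Subgroup G)) := by
  haveI := CfsgLib.Coprime.finite_semidirectProduct φ
  set GX := (inl : G →* G ⋊[φ] A).range with hGX
  set AX := (inr : A →* G ⋊[φ] A).range with hAX
  have hGXn : GX.Normal := by rw [hGX, range_inl_eq_ker_rightHom]; infer_instance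
  have htop : GX ⊔ AX = ⊤ := by
    rw [eq_top_iff]
    intro y _
    rw [← inl_left_mul_inr_right y]
    exact mul_mem (mem_sup_left ⟨_, rfl⟩) (mem_sup_right ⟨_, rfl⟩)
  have hcop' : (Nat.card AX).Coprime (Nat.card GX) := by
    rwa [CfsgLib.Coprime.card_range_inr, CfsgLib.Coprime.card_range_inl]
  -- subgroups below a maximal invariant one
  have hall0 : ∀ H : Subgroup G, H ≠ ⊤ → (∀ a : A, ∀ x ∈ H, φ a x ∈ H) →
      Group.IsNilpotent H := by
    intro H hH hHA
    obtain ⟨M, hHM, hM⟩ := (Set.toFinite {M : Subgroup G | M ≠ ⊤ ∧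
      ∀ a : A, ∀ x ∈ M, φ a x ∈ M}).exists_le_maximal (a := H) ⟨hH, hHA⟩
    haveI := hmax M hM.1.1 hM.1.2 fun K hK hKA => by
      by_contra hKt
      exact hK.not_ge (hM.2 ⟨hKt, hKA⟩ hK.le)
    haveI : Group.IsNilpotent (H.subgroupOf M) := inferInstance
    exact Group.nilpotent_of_surjective (subgroupOfEquivOfLe hHM).toMonoidHom
      (MulEquiv.surjective _)
  have hall : AllNilpotent GX AX := by
    intro H hHG hne hAH
    have hHeq : (H.comap inl).map (inl : G →* G ⋊[φ] A) = H := map_comap_eq_self hHG
    haveI := hall0 (H.comap inl) (fun h => hne (by rw [← hHeq, h, ← MonoidHom.range_eq_map]))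
      (fun a x hx => by
        rw [mem_comap, inl_aut]
        have h := (mem_normalizer_iff.1 (hAH ⟨a, rfl⟩) (inl x)).1 (mem_comap.1 hx)
        simpa using h)
    exact Group.nilpotent_of_surjective
      ((equivMapOfInjective (H.comap inl) _ inl_injective).trans
        (MulEquiv.subgroupCongr hHeq)).toMonoidHom (MulEquiv.surjective _)
  set e := MonoidHom.ofInjective (inl_injective : Function.Injective (inl : G →* G ⋊[φ] A)) with he
  have hsolX : Group.IsSolvable GX :=
    isSolvable_of_allNilpotent hodd _ (G ⋊[φ] A) GX AX rfl hGXn htop hcop' hall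
  have hnilX : ¬ Group.IsNilpotent GX := fun h => hG
    (Group.nilpotent_of_surjective e.symm.toMonoidHom (MulEquiv.surjective _))
  obtain ⟨p, q, a, b, hp, hq, hpq, hcard, P, hpd, hPn, hPA⟩ := structure_of_allNilpotent
    (le_top.trans (normalizer_eq_top (H := GX)).ge) hcop' hall hsolX hnilX
  haveI := hsolX
  rw [CfsgLib.Coprime.card_range_inl] at hcard hpd
  refine ⟨Group.isSolvable_of_surjective (f := e.symm.toMonoidHom) (MulEquiv.surjective _),
    ⟨p, q, a, b, hp, hq, hpq, hcard⟩, ?_⟩
  haveI : Fact p.Prime := ⟨hp⟩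
  obtain ⟨Q⟩ : Nonempty (Sylow p G) := inferInstance
  refine ⟨p, P.mapSurjective (f := e.symm.toMonoidHom) (MulEquiv.surjective _), hp, hpd,
    hPn.map _ (MulEquiv.surjective _), ?_⟩
  rintro c _ ⟨y, hy, rfl⟩
  have hy' : (y : G ⋊[φ] A) = inl (e.symm y) := by
    conv_lhs => rw [← e.apply_symm_apply y]
    rfl
  have h := (mem_normalizer_iff.1 (hPA ⟨c, rfl⟩) (y : G ⋊[φ] A)).1 (mem_map_of_mem GX.subtype hy)
  obtain ⟨z, hz, hzy⟩ := h
  refine ⟨z, hz, ?_⟩
  apply inl_injective (φ := φ)
  show inl (e.symm z) = inl (φ c (e.symm y))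
  rw [inl_aut, ← hy', map_inv]
  have hz' : (z : G ⋊[φ] A) = inl (e.symm z) := by
    conv_lhs => rw [← e.apply_symm_apply z]
    rfl
  rw [← hz']
  exact hzy

end CfsgLib.SolvCrit.InvariantNilpotent

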