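import Mathlib
import Cfsg.Prelude.Def_HallClasses

/-!
Pronormal subgroups: conjugation calculus, images, preimages, subgroups.
-/

set_option autoImplicit false

open Subgroup

namespace CfsgLib.SolvCrit.Pronormal

variable {G : Type*} [Group G]

/-- The conjugate `g H g⁻¹`. -/
def cj (g : G) (H : Subgroup G) : Subgroup G := H.map (MulAut.conj g).toMonoidHom

theorem mem_cj {g y : G} {H : Subgroup G} : y ∈ cj g H ↔ g⁻¹ * y * g ∈ H := by
  constructor
  · rintro ⟨h, hh, rfl⟩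
    have : g⁻¹ * (MulAut.conj g) h * g = h := by rw [MulAut.conj_apply]; group
    exact this.symm ▸ hh
  · intro h
    exact ⟨g⁻¹ * y * g, h, by show MulAut.conj g _ = y; rw [MulAut.conj_apply]; group⟩

theorem conj_mem_cj (g : G) {h : G} {H : Subgroup G} (hh : h ∈ H) : g * h * g⁻¹ ∈ cj g H := by
  rw [mem_cj]; simpa [mul_assoc] using hh

theorem cj_mul (a b : G) (H : Subgroup G) : cj (a * b) H = cj a (cj b H) := by
  ext y
  simp only [mem_cj, mul_inv_rev, mul_assoc]

theorem cj_one (H : Subgroup G) : cj 1 H = H := by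
  ext y; simp [mem_cj]

theorem cj_inv_cancel (a : G) (H : Subgroup G) : cj a⁻¹ (cj a H) = H := by
  rw [← cj_mul, inv_mul_cancel, cj_one]

theorem cj_cancel_inv (a : G) (H : Subgroup G) : cj a (cj a⁻¹ H) = H := by
  rw [← cj_mul, mul_inv_cancel, cj_one]

theorem cj_mono (g : G) {H K : Subgroup G} (h : H ≤ K) : cj g H ≤ cj g K := map_mono h

theorem cj_sup (g : G) (H K : Subgroup G) : cj g (H ⊔ K) = cj g H ⊔ cj g K := map_sup _ _ _

theorem cj_inf (g : G) (H K : Subgroup G) : cj g (H ⊓ K) = cj g H ⊓ cj g K := by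
  ext y; simp [mem_cj]

theorem cj_eq_self_iff {g : G} {H : Subgroup G} :
    cj g H = H ↔ g ∈ normalizer (H : Set G) := by
  constructor
  · intro h
    rw [mem_normalizer_iff'']
    intro y
    conv_lhs => rw [← h]
    rw [mem_cj]
  · intro h
    ext y
    rw [mem_cj]
    exact ((mem_normalizer_iff''.1 h) y).symm

theorem cj_of_mem {g : G} {H : Subgroup G} (hg : g ∈ H) : cj g H = H :=
  cj_eq_self_iff.2 (le_normalizer hg)

theorem cj_normal (g : G) (N : Subgroup G) [N.Normal] : cj g N = N :=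
  cj_eq_self_iff.2 (by rw [normalizer_eq_top]; exact mem_top g)

theorem cj_of_le_normalizer {g : G} {H J : Subgroup G} (hJ : J ≤ normalizer (H : Set G))
    (hg : g ∈ J) : cj g H = H :=
  cj_eq_self_iff.2 (hJ hg)

theorem mem_normalizer_cj {c y : G} {H : Subgroup G} (hy : y ∈ normalizer (H : Set G)) :
    c * y * c⁻¹ ∈ normalizer (cj c H : Set G) := by
  rw [← cj_eq_self_iff, ← cj_mul, mul_assoc, inv_mul_cancel, mul_one, cj_mul,
    cj_eq_self_iff.2 hy]

theorem map_cj {G' : Type*} [Group G'] (f : G →* G') (g : G) (H : Subgroup G) :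
    (cj g H).map f = cj (f g) (H.map f) := by
  simp only [cj, map_map]
  congr 1
  ext x
  simp

theorem card_cj (g : G) (H : Subgroup G) : Nat.card (cj g H) = Nat.card H :=
  card_map_of_injective (MulAut.conj g).injective

theorem isPGroup_cj {p : ℕ} (g : G) {H : Subgroup G} (h : IsPGroup p H) : IsPGroup p (cj g H) :=
  h.map _

theorem pronormal_iff {H : Subgroup G} :
    Cfsg.IsPronormal H ↔ ∀ g : G, ∃ x ∈ H ⊔ cj g H, cj g H = cj x H := Iff.rfl

/-- If `g` can be moved by an element of the join, it is enough to treat the moved element. -/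
theorem reduce {H : Subgroup G} {g x : G} (hx : x ∈ H ⊔ cj g H)
    (h : ∃ y ∈ H ⊔ cj (x⁻¹ * g) H, cj (x⁻¹ * g) H = cj y H) :
    ∃ y ∈ H ⊔ cj g H, cj g H = cj y H := by
  obtain ⟨y, hy, hyeq⟩ := h
  have hle : H ⊔ cj (x⁻¹ * g) H ≤ H ⊔ cj g H := by
    refine sup_le le_sup_left ?_
    rw [cj_mul]
    calc cj x⁻¹ (cj g H) ≤ cj x⁻¹ (H ⊔ cj g H) := cj_mono _ le_sup_right
      _ = H ⊔ cj g H := cj_of_mem (inv_mem hx)
  refine ⟨x * y, mul_mem hx (hle hy), ?_⟩
  rw [cj_mul x y, ← hyeq, ← cj_mul, mul_inv_cancel_left]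

theorem pronormal_cj {H : Subgroup G} (c : G) (h : Cfsg.IsPronormal H) :
    Cfsg.IsPronormal (cj c H) := by
  rw [pronormal_iff] at h ⊢
  intro g
  obtain ⟨x, hx, hxe⟩ := h (c⁻¹ * g * c)
  have h1 : cj g (cj c H) = cj c (cj (c⁻¹ * g * c) H) := by
    rw [← cj_mul, ← cj_mul]; congr 1; group
  refine ⟨c * x * c⁻¹, ?_, ?_⟩
  · rw [h1, ← cj_sup]; exact conj_mem_cj c hx
  · rw [h1, hxe, ← cj_mul, ← cj_mul]; congr 1; group

theorem pronormal_map {G' : Type*} [Group G'] {f : G →* G'} (hf : Function.Surjective f)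
    {H : Subgroup G} (h : Cfsg.IsPronormal H) : Cfsg.IsPronormal (H.map f) := by
  rw [pronormal_iff] at h ⊢
  intro g'
  obtain ⟨g, rfl⟩ := hf g'
  obtain ⟨x, hx, hxe⟩ := h g
  refine ⟨f x, ?_, ?_⟩
  · rw [← map_cj, ← Subgroup.map_sup]; exact mem_map_of_mem f hx
  · rw [← map_cj, ← map_cj, hxe]

theorem pronormal_of_map {G' : Type*} [Group G'] {f : G →* G'}
    {H : Subgroup G} (hker : f.ker ≤ H) (h : Cfsg.IsPronormal (H.map f)) :
    Cfsg.IsPronormal H := by
  rw [pronormal_iff] at h ⊢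
  intro g
  obtain ⟨x', hx', hxe⟩ := h (f g)
  rw [← map_cj, ← Subgroup.map_sup] at hx'
  obtain ⟨x, hx, rfl⟩ := hx'
  refine ⟨x, hx, ?_⟩
  have hk : ∀ y : G, f.ker ≤ cj y H := fun y => by
    rw [← cj_normal y f.ker]; exact cj_mono y hker
  rw [← map_cj, ← map_cj] at hxe
  rw [← comap_map_eq_self (hk g), hxe, comap_map_eq_self (hk x)]

theorem pronormal_subgroupOf {H N : Subgroup G} (hHN : H ≤ N) (h : Cfsg.IsPronormal H) :
    Cfsg.IsPronormal (H.subgroupOf N) := by
  rw [pronormal_iff] at h ⊢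
  intro g
  obtain ⟨x, hx, hxe⟩ := h g
  have hmap : (H.subgroupOf N).map N.subtype = H := map_subgroupOf_eq_of_le hHN
  have hcj : ∀ y : N, (cj y (H.subgroupOf N)).map N.subtype = cj (y : G) H := fun y => by
    rw [map_cj, hmap]; rfl
  have hsup : (H.subgroupOf N ⊔ cj g (H.subgroupOf N)).map N.subtype = H ⊔ cj (g : G) H := by
    rw [Subgroup.map_sup, hcj, hmap]
  rw [← hsup] at hx
  obtain ⟨x', hx', rfl⟩ := hx
  refine ⟨x', hx', map_injective N.subtype_injective ?_⟩
  rw [hcj, hcj]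
  exact hxe

/-- Pronormal subgroups: normalisers map onto normalisers in quotients. -/
theorem map_normalizer_eq {N : Subgroup G} [N.Normal] {H : Subgroup G}
    (h : Cfsg.IsPronormal H) :
    (normalizer (H : Set G)).map (QuotientGroup.mk' N) =
      normalizer ((H.map (QuotientGroup.mk' N) : Subgroup (G ⧸ N)) : Set (G ⧸ N)) := by
  refine le_antisymm (le_normalizer_map _) ?_
  intro y hy
  obtain ⟨g, rfl⟩ := QuotientGroup.mk'_surjective N y
  obtain ⟨x, hx, hxe⟩ := (pronormal_iff.1 h) g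
  have hfx : QuotientGroup.mk' N x ∈ H.map (QuotientGroup.mk' N) := by
    have h1 := mem_map_of_mem (QuotientGroup.mk' N) hx
    rwa [Subgroup.map_sup, map_cj, cj_eq_self_iff.2 hy, sup_idem] at h1
  obtain ⟨k, hk, hkx⟩ := hfx
  have hxk : cj g H = cj (x * k⁻¹) H := by rw [cj_mul, cj_of_mem (inv_mem hk), hxe]
  refine ⟨(x * k⁻¹)⁻¹ * g, ?_, ?_⟩
  · exact cj_eq_self_iff.1 (by rw [cj_mul, hxk, cj_inv_cancel])
  · simp only [map_mul, map_inv, hkx]
    group

end CfsgLib.SolvCrit.Pronormal
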