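import Cfsg.Agent.SolvCrit.OrderCheck

/-!
Groups whose order divides `175560 = 2^3 * 3 * 5 * 7 * 11 * 19`: the order of a nonabelian simple
group divisible by 19 is the whole of it; so otherwise the Sylow 19-subgroup is normal.
-/

set_option autoImplicit false
set_option linter.style.haveILetI false
set_option linter.unusedSectionVars false

open scoped Classical

namespace CfsgLib.SolvCrit.Order175560

open Subgroup OrderCheck

variable {G : Type*} [Group G] [Finite G]

/-! ### Subgroups of prime order with exponent one in the group -/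

theorem exists_sylow_eq {r : ℕ} [hr : Fact r.Prime] (hd : r ∣ Nat.card G)
    (h2 : ¬ r ^ 2 ∣ Nat.card G) {H : Subgroup G} (hH : Nat.card H = r) :
    ∃ P : Sylow r G, (P : Subgroup G) = H := by
  have hf : (Nat.card G).factorization r = 1 := by
    apply le_antisymm
    · by_contra h
      exact h2 ((pow_dvd_pow r (show 2 ≤ (Nat.card G).factorization r by omega)).trans
        (Nat.ordProj_dvd _ _))
    · exact hr.out.factorization_pos_of_dvd Nat.card_pos.ne' hd
  exact ⟨Sylow.ofCard H (by rw [hH, hf, pow_one]), rfl⟩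

theorem card_sylow' {r : ℕ} [hr : Fact r.Prime] (hd : r ∣ Nat.card G)
    (h2 : ¬ r ^ 2 ∣ Nat.card G) (P : Sylow r G) : Nat.card (P : Subgroup G) = r := by
  obtain ⟨H, hH⟩ := Sylow.exists_subgroup_card_pow_prime (G := G) r (n := 1) (by rwa [pow_one])
  obtain ⟨Q, rfl⟩ := exists_sylow_eq hd h2 (hH.trans (pow_one r))
  obtain ⟨g, rfl⟩ := MulAction.exists_smul_eq G Q P
  rw [Sylow.coe_subgroup_smul, ← Nat.card_congr (equivSMul (MulAut.conj g) (Q : Subgroup G)).toEquiv,
    hH, pow_one]

omit [Finite G] in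
theorem centralizer_map (φ : G ≃* G) (H : Subgroup G) :
    centralizer ((H.map φ.toMonoidHom : Subgroup G) : Set G) =
      (centralizer (H : Set G)).map φ.toMonoidHom := by
  ext y
  simp only [mem_map, mem_centralizer_iff, SetLike.mem_coe, MulEquiv.coe_toMonoidHom]
  constructor
  · intro h
    refine ⟨φ.symm y, fun z hz => ?_, φ.apply_symm_apply y⟩
    apply φ.injective
    rw [map_mul, map_mul, φ.apply_symm_apply]
    exact h _ ⟨z, hz, rfl⟩
  · rintro ⟨x, hx, rfl⟩ z ⟨w, hw, rfl⟩
    rw [← map_mul, hx w hw, map_mul]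

/-- Two subgroups of order `r` are conjugate. -/
theorem exists_conj {r : ℕ} [hr : Fact r.Prime] (hd : r ∣ Nat.card G)
    (h2 : ¬ r ^ 2 ∣ Nat.card G) {H K : Subgroup G} (hH : Nat.card H = r) (hK : Nat.card K = r) :
    ∃ g : G, H.map (MulAut.conj g).toMonoidHom = K := by
  obtain ⟨P, rfl⟩ := exists_sylow_eq hd h2 hH
  obtain ⟨Q, rfl⟩ := exists_sylow_eq hd h2 hK
  obtain ⟨g, rfl⟩ := MulAction.exists_smul_eq G P Q
  exact ⟨g, rfl⟩

theorem card_centralizer_eq {r : ℕ} [hr : Fact r.Prime] (hd : r ∣ Nat.card G)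
    (h2 : ¬ r ^ 2 ∣ Nat.card G) {H K : Subgroup G} (hH : Nat.card H = r) (hK : Nat.card K = r) :
    Nat.card (centralizer (H : Set G)) = Nat.card (centralizer (K : Set G)) := by
  obtain ⟨g, rfl⟩ := exists_conj hd h2 hH hK
  rw [centralizer_map, card_map_of_injective (MulEquiv.injective _)]

theorem card_normalizer_eq {r : ℕ} [hr : Fact r.Prime] (hd : r ∣ Nat.card G)
    (h2 : ¬ r ^ 2 ∣ Nat.card G) {H K : Subgroup G} (hH : Nat.card H = r) (hK : Nat.card K = r) :
    Nat.card (normalizer (H : Set G)) = Nat.card (normalizer (K : Set G)) := by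
  obtain ⟨g, rfl⟩ := exists_conj hd h2 hH hK
  rw [← map_equiv_normalizer_eq, card_map_of_injective (MulEquiv.injective _)]

omit [Finite G] in
theorem le_centralizer_self {r : ℕ} [hr : Fact r.Prime] {H : Subgroup G} (hH : Nat.card H = r) :
    H ≤ centralizer (H : Set G) := by
  haveI : IsCyclic H := isCyclic_of_prime_card hH
  exact le_centralizer H

omit [Finite G] in
theorem eq_zpowers {r : ℕ} [hr : Fact r.Prime] {H : Subgroup G} (hH : Nat.card H = r) {x : G}
    (hx : x ∈ H) (hx1 : x ≠ 1) : H = zpowers x := by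
  refine le_antisymm (fun y hy => ?_) (zpowers_le.2 hx)
  have h := zpowers_eq_top_of_prime_card (g := (⟨x, hx⟩ : H)) hH
    (fun h => hx1 (congrArg Subtype.val h))
  obtain ⟨k, hk⟩ : (⟨y, hy⟩ : H) ∈ zpowers (⟨x, hx⟩ : H) := h ▸ mem_top _
  exact ⟨k, congrArg Subtype.val hk⟩

/-- A subgroup of order `r` centralized by another one of the same order equals it. -/
theorem eq_of_commute {r : ℕ} [hr : Fact r.Prime] (hd : r ∣ Nat.card G)
    (h2 : ¬ r ^ 2 ∣ Nat.card G) {H K : Subgroup G} (hH : Nat.card H = r) (hK : Nat.card K = r)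
    (hc : K ≤ centralizer (H : Set G)) : K = H := by
  obtain ⟨P, rfl⟩ := exists_sylow_eq hd h2 hH
  have h := IsPGroup.inf_normalizer_sylow (IsPGroup.of_card (n := 1) (by rw [hK, pow_one])) P
  rw [← P.coe_coe] at h
  rw [inf_eq_left.2 (hc.trans (centralizer_le_normalizer _))] at h
  exact eq_of_le_of_card_ge (inf_eq_left.1 h.symm) (by rw [hH, hK])

/-! ### The numerical data -/

variable (G) in
/-- A subgroup of order `r`, if there is one. -/
noncomputable def sub (r : ℕ) : Subgroup G :=
  if h : ∃ H : Subgroup G, Nat.card H = r then h.choose else ⊥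

theorem card_sub {r : ℕ} [hr : Fact r.Prime] (hd : r ∣ Nat.card G) : Nat.card (sub G r) = r := by
  have h : ∃ H : Subgroup G, Nat.card H = r := by
    obtain ⟨H, hH⟩ := Sylow.exists_subgroup_card_pow_prime (G := G) r (n := 1) (by rwa [pow_one])
    exact ⟨H, hH.trans (pow_one r)⟩
  rw [sub, dif_pos h]
  exact h.choose_spec

variable (G) in
/-- The data at the prime `r`. -/
noncomputable def data (r : ℕ) : Data :=
  (Nat.card G / Nat.card (normalizer (sub G r : Set G)),
    Nat.card (normalizer (sub G r : Set G)) / Nat.card (centralizer (sub G r : Set G)),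
    Nat.card (centralizer (sub G r : Set G)) / r)

theorem data_spec {r : ℕ} [hr : Fact r.Prime] (hd : r ∣ Nat.card G)
    (h2 : ¬ r ^ 2 ∣ Nat.card G) {H : Subgroup G} (hH : Nat.card H = r) :
    Nat.card (centralizer (H : Set G)) = r * (data G r).2.2 ∧
    Nat.card (normalizer (H : Set G)) = r * (data G r).2.1 * (data G r).2.2 ∧
    Nat.card G = (data G r).1 * (r * (data G r).2.1 * (data G r).2.2) ∧
    (data G r).1 = Nat.card (Sylow r G) ∧
    (data G r).2.1 ∣ r - 1 := by
  have hS := card_sub (G := G) hd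
  have hc := card_centralizer_eq hd h2 hH hS
  have hn := card_normalizer_eq hd h2 hH hS
  obtain ⟨c, hc'⟩ := hS ▸ card_dvd_of_le (le_centralizer_self hS)
  set C := centralizer (sub G r : Set G) with hC
  set N := normalizer (sub G r : Set G) with hN
  have hCN : C ≤ N := centralizer_le_normalizer _
  obtain ⟨e, he⟩ := card_dvd_of_le hCN
  obtain ⟨n, hnn⟩ := N.card_subgroup_dvd_card
  have hCpos : 0 < Nat.card C := Nat.card_pos
  have hNpos : 0 < Nat.card N := Nat.card_pos
  have hdata : data G r = (n, e, c) := by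
    have h1 : Nat.card G / Nat.card N = n := by rw [hnn, Nat.mul_div_cancel_left _ hNpos]
    have h3 : Nat.card N / Nat.card C = e := by rw [he, Nat.mul_div_cancel_left _ hCpos]
    have h4 : Nat.card C / r = c := by rw [hc', Nat.mul_div_cancel_left _ hr.out.pos]
    simp only [data, ← hC, ← hN, h1, h3, h4]
  have hNeq : Nat.card N = r * e * c := by rw [he, hc']; ring
  rw [hdata]
  refine ⟨hc.trans hc', hn.trans hNeq, by rw [← hNeq, hnn, mul_comm], ?_, ?_⟩
  · obtain ⟨P, hP⟩ := exists_sylow_eq hd h2 hS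
    rw [P.card_eq_index_normalizer, ← P.coe_coe, hP, ← hN]
    refine mul_left_cancel₀ hNpos.ne' ?_
    rw [N.card_mul_index, ← hnn]
  · haveI : IsCyclic (sub G r) := isCyclic_of_prime_card hS
    have hker : (normalizerMonoidHom (sub G r)).ker = C.subgroupOf N :=
      normalizerMonoidHom_ker (sub G r)
    have hidx : (normalizerMonoidHom (sub G r)).ker.index = e := by
      refine mul_left_cancel₀ hCpos.ne' ?_
      rw [← he, ← (normalizerMonoidHom (sub G r)).ker.card_mul_index]
      congr 1
      rw [hker, Nat.card_congr (subgroupOfEquivOfLe hCN).toEquiv]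
    rw [← hidx, index_ker]
    refine dvd_trans (card_subgroup_dvd_card _) ?_
    rw [IsCyclic.card_mulAut, hS, Nat.totient_prime hr.out]

/-- The data of distinct primes: one divides the reduced centralizer order of the other. -/
theorem dvd_c_of_commute {r s : ℕ} [hr : Fact r.Prime] [hs : Fact s.Prime] (hne : r ≠ s)
    (hdr : r ∣ Nat.card G) (h2r : ¬ r ^ 2 ∣ Nat.card G) {x : G} (hxr : r ∣ orderOf x)
    (hxs : s ∣ orderOf x) : s ∣ (data G r).2.2 := by
  have ho : 0 < orderOf x := orderOf_pos x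
  set H : Subgroup G := zpowers (x ^ (orderOf x / r)) with hHdef
  have hH : Nat.card H = r := by
    rw [hHdef, Nat.card_zpowers, orderOf_pow_orderOf_div ho.ne' hxr]
  have h : zpowers x ≤ centralizer (H : Set G) := by
    rw [zpowers_le, mem_centralizer_iff]
    rintro _ ⟨k, rfl⟩
    exact (((Commute.refl x).pow_left _).zpow_left k).eq
  have h' := card_dvd_of_le h
  rw [Nat.card_zpowers, (data_spec hdr h2r hH).1] at h'
  exact (((Nat.coprime_primes hs.out hr.out).2 hne.symm).dvd_mul_left).1 (hxs.trans h')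

theorem dvd_c_symm {r s : ℕ} [hr : Fact r.Prime] [hs : Fact s.Prime] (hne : r ≠ s)
    (hdr : r ∣ Nat.card G) (h2r : ¬ r ^ 2 ∣ Nat.card G)
    (hds : s ∣ Nat.card G) (h2s : ¬ s ^ 2 ∣ Nat.card G)
    (h : s ∣ (data G r).2.2) : r ∣ (data G s).2.2 := by
  have hS := card_sub (G := G) hdr
  obtain ⟨C, hC⟩ : ∃ C, C = centralizer (sub G r : Set G) := ⟨_, rfl⟩
  obtain ⟨y, hy⟩ := exists_prime_orderOf_dvd_card' (G := C) s (by
    rw [hC, (data_spec hdr h2r hS).1]; exact h.mul_left r)
  obtain ⟨x, hx⟩ := exists_prime_orderOf_dvd_card' (G := sub G r) r (dvd_of_eq hS.symm)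
  have hcomm : Commute (x : G) (y : G) := by
    have := y.2
    simp only [hC, mem_centralizer_iff] at this
    exact this x x.2
  have hox : orderOf (x : G) = r := by rw [orderOf_coe, hx]
  have hoy : orderOf (y : G) = s := by rw [orderOf_coe, hy]
  have ho : orderOf ((x : G) * y) = r * s := by
    rw [hcomm.orderOf_mul_eq_mul_orderOf_of_coprime (by
      rw [hox, hoy]; exact (Nat.coprime_primes hr.out hs.out).2 hne), hox, hoy]
  exact dvd_c_of_commute hne.symm hds h2s (x := (x : G) * y) (ho ▸ dvd_mul_left s r)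
    (ho ▸ dvd_mul_right r s)

/-- A forced normal Sylow subgroup in a centralizer. -/
theorem normalizer_dvd {r s : ℕ} [hr : Fact r.Prime] [hs : Fact s.Prime] (hne : r ≠ s)
    (hdr : r ∣ Nat.card G) (h2r : ¬ r ^ 2 ∣ Nat.card G)
    (hds : s ∣ Nat.card G) (h2s : ¬ s ^ 2 ∣ Nat.card G)
    (h : s ∣ (data G r).2.2) (hk : ∀ k, k ∣ (data G r).2.2 / s → k % s = 1 → k = 1) :
    r * (data G r).2.1 * (data G r).2.2 ∣ s * (data G s).2.1 * (data G s).2.2 := by
  have hS := card_sub (G := G) hdr
  obtain ⟨hCcard, hNcard, -⟩ := data_spec hdr h2r hS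
  set C := centralizer (sub G r : Set G) with hC
  have hsC : s ∣ Nat.card C := hCcard ▸ h.mul_left r
  have h2C : ¬ s ^ 2 ∣ Nat.card C := fun h' => h2s (h'.trans C.card_subgroup_dvd_card)
  -- the Sylow subgroup of the centralizer is unique
  have huniq : Subsingleton (Sylow s C) := by
    obtain ⟨T⟩ : Nonempty (Sylow s C) := inferInstance
    have hT := card_sylow' hsC h2C T
    have h1 := T.card_eq_index_normalizer
    rw [← T.coe_coe] at h1
    have h3 : Nat.card (Sylow s C) * Nat.card (normalizer ((T : Subgroup C) : Set C)) =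
        r * (data G r).2.2 := by
      rw [h1, mul_comm, card_mul_index, hCcard]
    have h4 : (sub G r).subgroupOf C ≤ normalizer ((T : Subgroup C) : Set C) := by
      refine le_trans (fun z hz => ?_) (centralizer_le_normalizer _)
      rw [mem_centralizer_iff]
      intro w _
      exact Subtype.ext (mem_centralizer_iff.1 w.2 _ (mem_subgroupOf.1 hz)).symm
    have h5 : r * s ∣ Nat.card (normalizer ((T : Subgroup C) : Set C)) := by
      refine Nat.Coprime.mul_dvd_of_dvd_of_dvd ((Nat.coprime_primes hr.out hs.out).2 hne) ?_ ?_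
      · have := card_dvd_of_le h4
        rwa [Nat.card_congr (subgroupOfEquivOfLe (le_centralizer_self hS)).toEquiv, hS] at this
      · have := card_dvd_of_le (le_normalizer (H := (T : Subgroup C)))
        rwa [hT] at this
    obtain ⟨m, hm⟩ := h5
    obtain ⟨c', hc'⟩ := h
    rw [hm, hc'] at h3
    have h6 : Nat.card (Sylow s C) * m = c' :=
      mul_left_cancel₀ (mul_ne_zero hr.out.pos.ne' hs.out.pos.ne') (by linarith)
    have h7 : Nat.card (Sylow s C) = 1 := by
      refine hk _ ?_ ?_
      · rw [hc', Nat.mul_div_cancel_left _ hs.out.pos]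
        exact ⟨m, h6.symm⟩
      · have := card_sylow_modEq_one s C
        rwa [Nat.ModEq, Nat.mod_eq_of_lt hs.out.one_lt] at this
    exact (Nat.card_eq_one_iff_unique.1 h7).1
  obtain ⟨T⟩ : Nonempty (Sylow s C) := inferInstance
  have hT : Nat.card ((T : Subgroup C).map C.subtype) = s := by
    rw [card_map_of_injective C.subtype_injective, card_sylow' hsC h2C T]
  have huniq' : ∀ K : Subgroup G, K ≤ C → Nat.card K = s → K = (T : Subgroup C).map C.subtype := by
    intro K hK hKc
    obtain ⟨P, hP⟩ := exists_sylow_eq hsC h2C (H := K.subgroupOf C)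
      (by rw [Nat.card_congr (subgroupOfEquivOfLe hK).toEquiv, hKc])
    rw [Subsingleton.elim T P, hP, subgroupOf_map_subtype, inf_eq_left.2 hK]
  have hle : normalizer (sub G r : Set G) ≤
      normalizer (((T : Subgroup C).map C.subtype : Subgroup G) : Set G) := by
    intro g hg
    have hCg : C.map (MulAut.conj g).toMonoidHom = C := by
      rw [hC, ← centralizer_map]
      congr 2
      ext y
      simp only [mem_map, MulEquiv.coe_toMonoidHom, MulAut.conj_apply]
      constructor
      · rintro ⟨z, hz, rfl⟩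
        exact (mem_normalizer_iff.1 hg z).1 hz
      · intro hy
        refine ⟨g⁻¹ * y * g, ?_, by group⟩
        refine (mem_normalizer_iff.1 hg _).2 ?_
        simpa [mul_assoc] using hy
    have hfix : ((T : Subgroup C).map C.subtype).map (MulAut.conj g).toMonoidHom =
        (T : Subgroup C).map C.subtype := by
      refine huniq' _ ?_ ?_
      · exact (map_mono (map_subtype_le _)).trans hCg.le
      · rw [card_map_of_injective (MulEquiv.injective _), hT]
    rw [mem_normalizer_iff]
    intro y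
    conv_rhs => rw [← hfix]
    simp only [mem_map, MulEquiv.coe_toMonoidHom, MulAut.conj_apply]
    constructor
    · exact fun hy => ⟨y, hy, rfl⟩
    · rintro ⟨z, hz, hzy⟩
      rwa [← mul_left_cancel (mul_right_cancel hzy)]
  have := card_dvd_of_le hle
  rwa [hNcard, (data_spec hds h2s hT).2.1] at this

/-! ### Counting elements -/

variable (G) in
/-- The elements of order divisible by `r`. -/
noncomputable def sing (r : ℕ) : Set G := {x | r ∣ orderOf x}

theorem mul_le_card_sing {r : ℕ} [hr : Fact r.Prime] (hd : r ∣ Nat.card G)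
    (h2 : ¬ r ^ 2 ∣ Nat.card G) :
    (data G r).1 * ((r - 1) * (data G r).2.2) ≤ Nat.card (sing G r) := by
  let F : Sylow r G → Type _ := fun Q =>
    {x : centralizer ((Q : Subgroup G) : Set G) // r ∣ orderOf (x : G)}
  have hF : ∀ Q : Sylow r G, (r - 1) * (data G r).2.2 ≤ Nat.card (F Q) := by
    intro Q
    have hQ := card_sylow' hd h2 Q
    have hc := (data_spec hd h2 hQ).1
    set C := centralizer ((Q : Subgroup G) : Set G) with hC
    have hle : Nat.card {x : C // ¬ r ∣ orderOf (x : G)} ≤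
        Nat.card (C ⧸ (Q : Subgroup G).subgroupOf C) := by
      refine Nat.card_le_card_of_injective (fun x => QuotientGroup.mk x.1) ?_
      rintro ⟨a, ha⟩ ⟨b, hb⟩ hab
      have hab' : a⁻¹ * b ∈ (Q : Subgroup G).subgroupOf C := QuotientGroup.eq.1 hab
      rw [mem_subgroupOf, coe_mul, InvMemClass.coe_inv] at hab'
      set z := (a : G)⁻¹ * b with hz
      have haz : Commute (a : G) z := (mem_centralizer_iff.1 a.2 z hab').symm
      have hzb : Commute z (b : G) := mem_centralizer_iff.1 b.2 z hab'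
      have hba : Commute (a : G)⁻¹ (b : G) := by
        have h1 : (b : G) = a * z := by rw [hz]; group
        rw [h1]
        exact ((Commute.refl _).mul_right haz).inv_left
      have hdvd := hba.orderOf_mul_dvd_mul_orderOf
      rw [← hz, orderOf_inv] at hdvd
      rcases hr.out.eq_one_or_self_of_dvd _
          (hQ ▸ Subgroup.orderOf_dvd_natCard _ hab') with h1 | h1
      · apply Subtype.ext; apply Subtype.ext
        exact (inv_mul_eq_one).1 (orderOf_eq_one_iff.1 h1)
      · rw [h1] at hdvd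
        exact absurd (hr.out.dvd_mul.1 hdvd) (not_or.2 ⟨ha, hb⟩)
    have hquot : Nat.card (C ⧸ (Q : Subgroup G).subgroupOf C) = (data G r).2.2 := by
      refine mul_left_cancel₀ hr.out.pos.ne' ?_
      rw [← hc, ← ((Q : Subgroup G).subgroupOf C).card_mul_index, ← index_eq_card,
        Nat.card_congr (subgroupOfEquivOfLe (le_centralizer_self hQ)).toEquiv, hQ]
    have hsum : Nat.card (F Q) + Nat.card {x : C // ¬ r ∣ orderOf (x : G)} = r * (data G r).2.2 := by
      rw [← hc, ← Nat.card_sum]
      exact Nat.card_congr (Equiv.sumCompl _)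
    rw [Nat.sub_mul, one_mul]
    omega
  have hinj : Function.Injective
      (fun p : (Q : Sylow r G) × F Q => (⟨(p.2.1 : G), p.2.2⟩ : sing G r)) := by
    rintro ⟨P, x, hx⟩ ⟨Q, y, hy⟩ h
    have hxy : (x : G) = (y : G) := congrArg Subtype.val h
    have key : ∀ (R : Sylow r G) (u : G), u ∈ centralizer ((R : Subgroup G) : Set G) →
        r ∣ orderOf u → zpowers (u ^ (orderOf u / r)) = (R : Subgroup G) := by
      intro R u hu hru
      refine eq_of_commute hd h2 (card_sylow' hd h2 R) ?_ ?_
      · rw [Nat.card_zpowers, orderOf_pow_orderOf_div (orderOf_pos u).ne' hru]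
      · rw [zpowers_le]
        exact pow_mem hu _
    obtain rfl : P = Q := Sylow.ext (by rw [← key P x x.2 hx, ← key Q y y.2 hy, hxy])
    have : x = y := Subtype.ext hxy
    subst this
    rfl
  refine le_trans ?_ (Nat.card_le_card_of_injective _ hinj)
  haveI : Fintype (Sylow r G) := Fintype.ofFinite _
  rw [Nat.card_sigma, (data_spec hd h2 (card_sub hd)).2.2.2.1, Nat.card_eq_fintype_card]
  calc Fintype.card (Sylow r G) * ((r - 1) * (data G r).2.2)
      = ∑ _Q : Sylow r G, (r - 1) * (data G r).2.2 := by simp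
    _ ≤ ∑ Q : Sylow r G, Nat.card (F Q) := Finset.sum_le_sum fun Q _ => hF Q

/-! ### Consequences of simplicity -/

variable [IsSimpleGroup G]

theorem ne_top_of_nonabelian (hab : ¬ IsMulCommutative G) {r : ℕ} [hr : Fact r.Prime]
    {H : Subgroup G} (hH : Nat.card H = r) : ¬ H.Normal := by
  intro hN
  rcases hN.eq_bot_or_eq_top with h | h
  · rw [h, card_bot] at hH
    exact hr.out.one_lt.ne hH
  · rw [h, card_top] at hH
    haveI : IsCyclic G := isCyclic_of_prime_card hH
    exact hab inferInstance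

theorem data_n_ne_one (hab : ¬ IsMulCommutative G) {r : ℕ} [hr : Fact r.Prime]
    (hd : r ∣ Nat.card G) (h2 : ¬ r ^ 2 ∣ Nat.card G) : (data G r).1 ≠ 1 := by
  intro h
  obtain ⟨-, hN, hG, -⟩ := data_spec hd h2 (card_sub hd)
  rw [h, one_mul, ← hN] at hG
  exact ne_top_of_nonabelian hab (card_sub hd)
    (normalizer_eq_top_iff.1 ((card_eq_iff_eq_top _).1 hG.symm))

theorem data_e_ne_one (hab : ¬ IsMulCommutative G) {r : ℕ} [hr : Fact r.Prime]
    (hd : r ∣ Nat.card G) (h2 : ¬ r ^ 2 ∣ Nat.card G) : (data G r).2.1 ≠ 1 := by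
  intro h
  obtain ⟨P, hP⟩ := exists_sylow_eq hd h2 (card_sub hd)
  obtain ⟨hC, hN, -⟩ := data_spec hd h2 (hP ▸ card_sub hd : Nat.card (P : Subgroup G) = r)
  have hle : normalizer ((P : Subgroup G) : Set G) ≤ centralizer ((P : Subgroup G) : Set G) :=
    (eq_of_le_of_card_ge (centralizer_le_normalizer _) (by rw [hC, hN, h, mul_one])).ge
  have hc := MonoidHom.ker_transferSylow_isComplement' P hle
  have hPn := ne_top_of_nonabelian hab (hP ▸ card_sub hd : Nat.card (P : Subgroup G) = r)
  rcases (MonoidHom.transferSylow P hle).normal_ker.eq_bot_or_eq_top with hk | hk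
  · rw [hk, isComplement'_bot_left] at hc
    exact hPn (hc ▸ inferInstance)
  · rw [hk, isComplement'_top_left] at hc
    exact hPn (hc ▸ inferInstance)

/-- A nonabelian simple group acting nontrivially on `n` points has order dividing `n!/2`. -/
theorem sign_eq_one.{v} (hab : ¬ IsMulCommutative G) {α : Type v} [Fintype α] [DecidableEq α]
    (φ : G →* Equiv.Perm α) (g : G) : Equiv.Perm.sign (φ g) = 1 := by
  set ψ : G →* ℤˣ := Equiv.Perm.sign.comp φ with hψ
  rcases ψ.normal_ker.eq_bot_or_eq_top with h | h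
  · exfalso
    have hinj := (MonoidHom.ker_eq_bot_iff ψ).1 h
    exact hab ⟨⟨fun a b => hinj (by rw [map_mul, map_mul, mul_comm])⟩⟩
  · have : g ∈ ψ.ker := h ▸ mem_top g
    exact MonoidHom.mem_ker.1 this

theorem sylowHom_injective (hab : ¬ IsMulCommutative G) {r : ℕ} [hr : Fact r.Prime]
    (hd : r ∣ Nat.card G) (h2 : ¬ r ^ 2 ∣ Nat.card G) :
    Function.Injective (MulAction.toPermHom G (Sylow r G)) := by
  rcases (MulAction.toPermHom G (Sylow r G)).normal_ker.eq_bot_or_eq_top with h | h
  · exact (MonoidHom.ker_eq_bot_iff _).1 h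
  · exfalso
    obtain ⟨P, hP⟩ := exists_sylow_eq hd h2 (card_sub hd)
    have hg : ∀ g : G, g ∈ normalizer ((P : Subgroup G) : Set G) := fun g => by
      refine Sylow.smul_eq_iff_mem_normalizer.1 ?_
      have h' : MulAction.toPermHom G (Sylow r G) g = 1 := MonoidHom.mem_ker.1 (h ▸ mem_top g)
      exact Equiv.congr_fun h' P
    exact ne_top_of_nonabelian (H := sub G r) hab (card_sub hd)
      (hP ▸ normalizer_eq_top_iff.1 ((eq_top_iff' _).2 hg))

theorem two_mul_card_dvd (hab : ¬ IsMulCommutative G) {r : ℕ} [hr : Fact r.Prime]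
    (hd : r ∣ Nat.card G) (h2 : ¬ r ^ 2 ∣ Nat.card G) :
    2 * Nat.card G ∣ (data G r).1.factorial := by
  have h := data_n_ne_one hab hd h2
  rw [(data_spec hd h2 (card_sub hd)).2.2.2.1] at h ⊢
  haveI : Fintype (Sylow r G) := Fintype.ofFinite _
  haveI : Nontrivial (Sylow r G) := by
    rw [← Finite.one_lt_card_iff_nontrivial]
    have := Nat.card_pos (α := Sylow r G)
    omega
  have hmem : ∀ g, MulAction.toPermHom G (Sylow r G) g ∈ alternatingGroup (Sylow r G) :=
    fun g => Equiv.Perm.mem_alternatingGroup.2 (sign_eq_one hab _ g)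
  have hdv := card_dvd_of_injective ((MulAction.toPermHom G (Sylow r G)).codRestrict _ hmem)
    (fun a b hh => sylowHom_injective hab hd h2 (congrArg Subtype.val hh))
  have hA := (alternatingGroup (Sylow r G)).card_mul_index
  rw [alternatingGroup.index_eq_two, Nat.card_perm] at hA
  rw [← hA, mul_comm]
  exact Nat.mul_dvd_mul_right hdv 2

/-- Twenty Sylow 19-subgroups. -/
theorem twenty (hab : ¬ IsMulCommutative G) [hr : Fact (Nat.Prime 19)]
    (hd : 19 ∣ Nat.card G) (h2 : ¬ 19 ^ 2 ∣ Nat.card G) (hn : (data G 19).1 = 20) :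
    (data G 19).2.2 = 1 ∧ (data G 19).2.1 % 2 = 1 := by
  rw [(data_spec hd h2 (card_sub hd)).2.2.2.1] at hn
  haveI : Fintype (Sylow 19 G) := Fintype.ofFinite _
  rw [Nat.card_eq_fintype_card] at hn
  set φ := MulAction.toPermHom G (Sylow 19 G) with hφdef
  have hφ : Function.Injective φ := sylowHom_injective hab hd h2
  obtain ⟨P⟩ : Nonempty (Sylow 19 G) := inferInstance
  have hP := card_sylow' hd h2 P
  obtain ⟨hC, hN, -⟩ := data_spec hd h2 hP
  obtain ⟨x₀, hx₀⟩ := exists_prime_orderOf_dvd_card' (G := (P : Subgroup G)) 19 (dvd_of_eq hP.symm)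
  obtain ⟨x, hxP, hox⟩ : ∃ x : G, x ∈ (P : Subgroup G) ∧ orderOf x = 19 :=
    ⟨x₀, x₀.2, by rw [orderOf_coe, hx₀]⟩
  have hPx : (P : Subgroup G) = zpowers x := eq_zpowers hP hxP (by rintro rfl; simp at hox)
  set σ := φ x with hσdef
  have hoσ : orderOf σ = 19 := by rw [hσdef, orderOf_injective φ hφ, hox]
  have hσc : σ.IsCycle := Equiv.Perm.isCycle_of_prime_order' (by rw [hoσ]; exact hr.out)
    (by rw [hoσ, hn]; norm_num)
  have hsupp : σ.support.card = 19 := by rw [← hσc.orderOf, hoσ]
  have hfixP : ∀ Q : Sylow 19 G, σ Q = Q ↔ Q = P := by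
    intro Q
    have e : σ Q = x • Q := rfl
    rw [e, Sylow.smul_eq_iff_mem_normalizer, ← Q.coe_coe]
    constructor
    · intro hxQ
      have h := IsPGroup.inf_normalizer_sylow P.2 Q
      rw [← Q.coe_coe] at h
      rw [inf_eq_left.2 (by rw [hPx, zpowers_le]; exact hxQ)] at h
      exact Sylow.ext (eq_of_le_of_card_ge (inf_eq_left.1 h.symm)
        (by rw [hP, card_sylow' hd h2 Q])).symm
    · rintro rfl
      exact le_normalizer hxP
  have hc1 : (data G 19).2.2 = 1 := by
    have hmem : ∀ y : centralizer ((P : Subgroup G) : Set G),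
        φ y ∈ centralizer ({σ} : Set (Equiv.Perm (Sylow 19 G))) := by
      intro y
      rw [mem_centralizer_singleton_iff, hσdef, ← map_mul, ← map_mul,
        mem_centralizer_iff.1 y.2 x hxP]
    have hdv := card_dvd_of_injective
      ((φ.comp (centralizer ((P : Subgroup G) : Set G)).subtype).codRestrict _ hmem)
      (fun a b hh => Subtype.ext (hφ (congrArg Subtype.val hh)))
    rw [Equiv.Perm.nat_card_centralizer, hσc.cycleType, hsupp, hn, hC] at hdv
    simp at hdv
    rcases (Nat.dvd_prime hr.out).1 hdv with h | h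
    · omega
    · omega
  refine ⟨hc1, ?_⟩
  by_contra he
  replace he : (data G 19).2.1 % 2 = 0 := by omega
  haveI : Fact (Nat.Prime 2) := ⟨Nat.prime_two⟩
  rw [hc1, mul_one] at hN hC
  obtain ⟨t₀, ht₀⟩ := exists_prime_orderOf_dvd_card'
    (G := normalizer ((P : Subgroup G) : Set G)) 2 (by rw [hN]; omega)
  obtain ⟨t, htN, hot⟩ :
      ∃ t : G, t ∈ normalizer ((P : Subgroup G) : Set G) ∧ orderOf t = 2 :=
    ⟨t₀, t₀.2, by rw [orderOf_coe, ht₀]⟩
  have htt : t * t = 1 := by rw [← sq, ← hot, pow_orderOf_eq_one]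
  have htC : t ∉ centralizer ((P : Subgroup G) : Set G) := by
    intro h
    have := Subgroup.orderOf_dvd_natCard _ h
    rw [hC, hot] at this
    norm_num at this
  have hxt : t * x * t⁻¹ ∈ (P : Subgroup G) := (mem_normalizer_iff.1 htN x).1 hxP
  haveI : IsCyclic (P : Subgroup G) := isCyclic_of_prime_card hP
  have hcomm : Commute x (t * x * t⁻¹) :=
    ((mem_centralizer_iff.1 (le_centralizer_self hP hxt)) x hxP)
  have hinv : t * x * t⁻¹ = x⁻¹ := by
    have hy : x * (t * x * t⁻¹) = 1 := by
      by_contra hy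
      apply htC
      have hfix : Commute t (x * (t * x * t⁻¹)) := by
        have ht' : t⁻¹ = t := inv_eq_of_mul_eq_one_left htt
        have e1 : t * (x * (t * x * t⁻¹)) * t⁻¹ = (t * x * t⁻¹) * x := by
          calc t * (x * (t * x * t⁻¹)) * t⁻¹
              = (t * x * t⁻¹) * (t * t) * x * (t⁻¹ * t⁻¹) := by group
            _ = (t * x * t⁻¹) * x := by rw [ht', htt]; simp
        rw [← hcomm.eq] at e1
        exact mul_inv_eq_iff_eq_mul.1 e1
      rw [eq_zpowers hP (mul_mem hxP hxt) hy, mem_centralizer_iff]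
      rintro _ ⟨k, rfl⟩
      exact (hfix.zpow_right k).eq.symm
    exact eq_inv_of_mul_eq_one_right hy
  set τ := φ t with hτdef
  have hoτ : orderOf τ = 2 := by rw [hτdef, orderOf_injective φ hφ, hot]
  have hconj : τ * σ * τ⁻¹ = σ⁻¹ := by rw [hτdef, hσdef, ← map_mul, ← map_inv, ← map_mul, hinv, map_inv]
  have hτP : τ P = P := Sylow.smul_eq_iff_mem_normalizer.2 htN
  have hsub : ∀ Q R : Sylow 19 G, Q ≠ P → R ≠ P → τ Q = Q → τ R = R → Q = R := by
    intro Q R hQ hR hτQ hτR
    obtain ⟨i, hi⟩ := hσc.exists_zpow_eq (fun h => hQ ((hfixP Q).1 h))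
      (fun h => hR ((hfixP R).1 h))
    have h1 : τ * σ ^ i = σ ^ (-i) * τ := by
      rw [zpow_neg, ← inv_zpow, ← hconj, conj_zpow]
      group
    have h3 : (σ ^ (-i)) Q = R := by
      have := Equiv.congr_fun h1 Q
      simp only [Equiv.Perm.mul_apply, hi, hτQ, hτR] at this
      exact this.symm
    have h4 : (σ ^ (2 * i)) Q = Q := by
      rw [two_mul, zpow_add, Equiv.Perm.mul_apply, hi, ← h3, ← Equiv.Perm.mul_apply, ← zpow_add,
        add_neg_cancel, zpow_zero, Equiv.Perm.one_apply]
    have h5 : σ ^ (2 * i) = 1 := by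
      ext1 S
      by_cases hS : σ S = S
      · rw [Equiv.Perm.zpow_apply_eq_self_of_apply_eq_self hS, Equiv.Perm.one_apply]
      · obtain ⟨j, rfl⟩ := hσc.exists_zpow_eq (fun h => hQ ((hfixP Q).1 h)) hS
        rw [← Equiv.Perm.mul_apply, ← zpow_add, add_comm, zpow_add, Equiv.Perm.mul_apply, h4,
          Equiv.Perm.one_apply]
    have h6 : σ ^ i = 1 := by
      rw [← orderOf_dvd_iff_zpow_eq_one, hoσ] at h5 ⊢
      omega
    rw [← hi, h6, Equiv.Perm.one_apply]
  have hcard : (Finset.univ \ τ.support).card ≤ 2 := by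
    have hss : ∀ Q ∈ Finset.univ \ τ.support, τ Q = Q := fun Q hQ => by
      simpa using hQ
    have : ((Finset.univ \ τ.support).erase P).card ≤ 1 := by
      rw [Finset.card_le_one]
      intro Q hQ R hR
      rw [Finset.mem_erase] at hQ hR
      exact hsub Q R hQ.1 hR.1 (hss Q hQ.2) (hss R hR.2)
    have := Finset.card_erase_of_mem (s := Finset.univ \ τ.support) (a := P) (by simp [hτP])
    omega
  have hP' : P ∈ Finset.univ \ τ.support := by simp [hτP]
  have hpos : 0 < (Finset.univ \ τ.support).card := Finset.card_pos.2 ⟨P, hP'⟩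
  rw [Finset.card_sdiff_of_subset (Finset.subset_univ _), Finset.card_univ, hn] at hcard hpos
  obtain ⟨k, hk⟩ := Equiv.Perm.cycleType_prime_order (σ := τ) (by rw [hoτ]; exact Nat.prime_two)
  have hsum := Equiv.Perm.sum_cycleType τ
  rw [hk, hoτ, Multiset.sum_replicate, smul_eq_mul] at hsum
  have hk8 : k = 8 := by omega
  have hsign := sign_eq_one hab φ t
  rw [← hτdef, Equiv.Perm.sign_of_cycleType, hk, hoτ, hk8] at hsign
  simp at hsign
  exact absurd hsign (by decide)

/-! ### The simple case -/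

theorem prime_of_mem {r : ℕ} (h : r ∈ [3, 5, 7, 11, 19]) : r.Prime ∧ ¬ r ^ 2 ∣ 175560 := by
  simp only [List.mem_cons, List.not_mem_nil, or_false] at h
  rcases h with rfl | rfl | rfl | rfl | rfl <;> norm_num

theorem mem_cand {n : ℕ} (h : n ∣ 175560) : n ∈ cand :=
  mem_prods _ (by intro p hp; simp only [List.mem_cons, List.not_mem_nil, or_false] at hp
                  rcases hp with rfl | rfl | rfl | rfl | rfl | rfl | rfl | rfl <;> norm_num) n
    (by norm_num; exact h)

theorem data_mem_options (hab : ¬ IsMulCommutative G) {r : ℕ} [hr : Fact r.Prime]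
    (hN : Nat.card G ∣ 175560) (hd : r ∣ Nat.card G) (h2 : ¬ r ^ 2 ∣ Nat.card G) :
    data G r ∈ options (Nat.card G) r := by
  obtain ⟨-, -, hG, hn, he⟩ := data_spec hd h2 (card_sub hd)
  have hn1 := data_n_ne_one hab hd h2
  have he1 := data_e_ne_one hab hd h2
  have hfac := two_mul_card_dvd hab hd h2
  have h20 : r = 19 → (data G r).1 = 20 → (data G r).2.2 = 1 ∧ (data G r).2.1 % 2 = 1 := by
    rintro rfl h
    exact twenty hab hd h2 h
  have hmod : (data G r).1 % r = 1 := by
    have := card_sylow_modEq_one r G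
    rwa [Nat.ModEq, Nat.mod_eq_of_lt hr.out.one_lt, ← hn] at this
  revert hG he hn1 he1 hfac h20 hmod
  rcases data G r with ⟨n, e, c⟩
  intro hG he hn1 he1 hfac h20 hmod
  dsimp only at *
  have hr1 := hr.out.two_le
  have hpos : 0 < Nat.card G := Nat.card_pos
  have hn0 : 0 < n := Nat.pos_of_ne_zero fun h => by simp [h] at hG; omega
  have he0 : 0 < e := Nat.pos_of_ne_zero fun h => by simp [h] at hG; omega
  have hNeq : Nat.card G = r * n * (e * c) := by rw [hG]; ring
  have hdiv : Nat.card G / (r * n) = e * c := by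
    rw [hNeq, Nat.mul_div_cancel_left _ (Nat.mul_pos hr.out.pos hn0)]
  have hc : e * c / e = c := Nat.mul_div_cancel_left _ he0
  have hmemc : n ∈ cand := mem_cand ((Dvd.intro _ hG.symm).trans hN)
  have hler := Nat.le_of_dvd (show 0 < r - 1 by omega) he
  have h4 : Nat.card G % (r * n) = 0 := by rw [hNeq, Nat.mul_mod_right]
  simp only [options, List.mem_flatMap, List.mem_map, List.mem_filter, List.mem_range,
    Bool.and_eq_true, Bool.or_eq_true, decide_eq_true_eq, beq_iff_eq, bne_iff_ne,
    Bool.not_eq_true']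
  refine ⟨n, ⟨hmemc, ⟨⟨⟨hmod, hn1⟩, h4⟩, Or.inr (Nat.mod_eq_zero_of_dvd hfac)⟩⟩, e,
    ⟨by omega, ⟨⟨⟨by omega, Nat.mod_eq_zero_of_dvd he⟩, by rw [hdiv, Nat.mul_mod_right]⟩, ?_⟩⟩,
    by rw [hdiv, hc]⟩
  rw [hdiv, hc]
  by_cases h : r = 19 ∧ n = 20
  · exact Or.inr (h20 h.1 h.2)
  · exact Or.inl (by simpa using fun h1 => fun h2 => h ⟨h1, h2⟩)

theorem map_mem_choices {f : ℕ → Data} {N : ℕ} : ∀ L : List ℕ, (∀ r ∈ L, f r ∈ options N r) →
    (L.map fun r => (r, f r)) ∈ choices N L
  | [], _ => by simp [choices]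
  | r :: L, h => by
    simp only [choices, List.map_cons, List.mem_flatMap, List.mem_map]
    exact ⟨_, h r List.mem_cons_self, _,
      map_mem_choices L fun s hs => h s (List.mem_cons_of_mem _ hs), rfl⟩

/-- There is no nonabelian simple group of order `19 d`, `d` a proper divisor of `9240`. -/
theorem no_simple (hab : ¬ IsMulCommutative G) {d : ℕ} (hd : d ∣ 9240) (hd' : d ≠ 9240)
    (hG : Nat.card G = 19 * d) : False := by
  have hN : Nat.card G ∣ 175560 := by
    rw [hG]; exact (Nat.mul_dvd_mul_left 19 hd).trans (dvd_of_eq (by norm_num))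
  set N := Nat.card G with hNdef
  have hL : ∀ r ∈ primesOf N, r.Prime ∧ r ∣ N ∧ ¬ r ^ 2 ∣ N := by
    intro r hr
    obtain ⟨hr1, hr2⟩ := List.mem_filter.1 hr
    obtain ⟨hp, hp2⟩ := prime_of_mem hr1
    exact ⟨hp, Nat.dvd_of_mod_eq_zero (by simpa using hr2), fun h => hp2 (h.trans hN)⟩
  set l := (primesOf N).map fun r => (r, data G r) with hl
  have hmem : l ∈ choices N (primesOf N) := by
    refine map_mem_choices _ fun r hr => ?_
    obtain ⟨hp, hpN, hp2⟩ := hL r hr
    haveI := Fact.mk hp
    exact data_mem_options hab hN hpN hp2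
  have hall : ∀ a ∈ l, a.1 ∈ primesOf N ∧ a.2 = data G a.1 := by
    intro a ha
    obtain ⟨r, hr, rfl⟩ := List.mem_map.1 ha
    exact ⟨hr, rfl⟩
  have h1 : consistent l = true := by
    simp only [consistent, List.all_eq_true, Bool.or_eq_true, beq_iff_eq]
    intro a ha b hb
    obtain ⟨ha1, ha2⟩ := hall a ha
    obtain ⟨hb1, hb2⟩ := hall b hb
    by_cases hab' : a.1 = b.1
    · exact Or.inl hab'
    obtain ⟨hap, haN, ha3⟩ := hL _ ha1
    obtain ⟨hbp, hbN, hb3⟩ := hL _ hb1
    haveI := Fact.mk hap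
    haveI := Fact.mk hbp
    refine Or.inr (Bool.eq_iff_iff.2 ?_)
    simp only [beq_iff_eq, ← Nat.dvd_iff_mod_eq_zero, ha2, hb2]
    exact ⟨dvd_c_symm hab' haN ha3 hbN hb3, dvd_c_symm (Ne.symm hab') hbN hb3 haN ha3⟩
  have h2 : forced l = true := by
    simp only [forced, List.all_eq_true, Bool.or_eq_true, beq_iff_eq, bne_iff_ne,
      List.any_eq_true, Bool.and_eq_true]
    intro a ha b hb
    obtain ⟨ha1, ha2⟩ := hall a ha
    obtain ⟨hb1, hb2⟩ := hall b hb
    by_cases hab' : a.1 = b.1
    · exact Or.inl (Or.inl hab')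
    by_cases hdv : a.2.2.2 % b.1 = 0
    swap
    · exact Or.inl (Or.inr hdv)
    obtain ⟨hap, haN, ha3⟩ := hL _ ha1
    obtain ⟨hbp, hbN, hb3⟩ := hL _ hb1
    haveI := Fact.mk hap
    haveI := Fact.mk hbp
    refine Or.inr (Classical.or_iff_not_imp_left.2 fun hno => Nat.mod_eq_zero_of_dvd ?_)
    rw [ha2] at hdv hno ⊢
    rw [hb2]
    refine normalizer_dvd hab' haN ha3 hbN hb3 (Nat.dvd_of_mod_eq_zero hdv) fun k hk hk1 => ?_
    by_contra hk'
    refine hno ⟨k, mem_cand (dvd_trans ?_ hN), ⟨hk', Nat.mod_eq_zero_of_dvd hk⟩, hk1⟩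
    exact (hk.trans (Nat.div_dvd_of_dvd (Nat.dvd_of_mod_eq_zero hdv))).trans
      (Dvd.intro_left _ ((data_spec haN ha3 (card_sub haN)).2.2.1.trans (mul_assoc _ _ _).symm).symm)
  have h3 : countOK N l = true := by
    simp only [countOK, List.all_eq_true, decide_eq_true_eq]
    have key : ∀ L : List (ℕ × Data), (∀ a ∈ L, a.1 ∈ primesOf N ∧ a.2 = data G a.1) →
        (L.map Prod.fst).Nodup → ∀ s ∈ indep L,
        (∀ a ∈ s, a ∈ L) ∧ weight s ≤ Nat.card (⋃ a ∈ s, sing G a.1 : Set G) := by
      intro L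
      induction L with
      | nil => intro _ _ s hs; simp_all [indep, weight]
      | cons a L ih =>
        intro hL' hnd s hs
        rw [List.map_cons, List.nodup_cons] at hnd
        have ih' := ih (fun x hx => hL' x (List.mem_cons_of_mem _ hx)) hnd.2
        simp only [indep, List.mem_append, List.mem_map, List.mem_filter] at hs
        rcases hs with hs | ⟨t, ⟨ht, htc⟩, rfl⟩
        · exact ⟨fun x hx => List.mem_cons_of_mem _ ((ih' s hs).1 x hx), (ih' s hs).2⟩
        obtain ⟨htm, htw⟩ := ih' t ht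
        refine ⟨fun x hx => ?_, ?_⟩
        · rcases List.mem_cons.1 hx with rfl | hx
          · exact List.mem_cons_self
          · exact List.mem_cons_of_mem _ (htm x hx)
        obtain ⟨ha1, ha2⟩ := hL' a List.mem_cons_self
        obtain ⟨hap, haN, ha3⟩ := hL _ ha1
        haveI := Fact.mk hap
        have hdisj : Disjoint (sing G a.1) (⋃ b ∈ t, sing G b.1) := by
          rw [Set.disjoint_left]
          intro x hxa hxb
          simp only [Set.mem_iUnion] at hxb
          obtain ⟨b, hb, hxb⟩ := hxb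
          obtain ⟨hb1, hb2⟩ := hL' b (List.mem_cons_of_mem _ (htm b hb))
          obtain ⟨hbp, hbN, hb3⟩ := hL _ hb1
          haveI := Fact.mk hbp
          have hne : a.1 ≠ b.1 := fun h => hnd.1 (h ▸ List.mem_map.2 ⟨b, htm b hb, rfl⟩)
          simp only [List.all_eq_true, Bool.and_eq_true, bne_iff_ne] at htc
          refine (htc b hb).1 (Nat.mod_eq_zero_of_dvd ?_)
          rw [ha2]
          exact dvd_c_of_commute hne haN ha3 hxa hxb
        have hsplit : (⋃ b ∈ a :: t, sing G b.1 : Set G) = sing G a.1 ∪ ⋃ b ∈ t, sing G b.1 := by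
          ext x; simp
        rw [hsplit, Nat.card_coe_set_eq, Set.ncard_union_eq hdisj (Set.toFinite _) (Set.toFinite _),
          ← Nat.card_coe_set_eq, ← Nat.card_coe_set_eq]
        have := mul_le_card_sing (G := G) haN ha3
        rw [← ha2] at this
        simp only [weight, List.map_cons, List.sum_cons] at htw ⊢
        exact add_le_add this htw
    intro s hs
    have hnd : (l.map Prod.fst).Nodup := by
      rw [hl, List.map_map]
      exact ((show ([3, 5, 7, 11, 19] : List ℕ).Nodup by decide).filter _).map fun _ _ h => h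
    obtain ⟨hsm, hsw⟩ := key l hall hnd s hs
    refine lt_of_le_of_lt hsw ?_
    rw [hNdef, Nat.card_coe_set_eq, ← Set.ncard_univ]
    refine Set.ncard_lt_ncard ((Set.subset_univ _).ssubset_of_ne fun h => ?_) (Set.toFinite _)
    have h1 : (1 : G) ∈ (⋃ a ∈ s, sing G a.1 : Set G) := h ▸ Set.mem_univ _
    simp only [Set.mem_iUnion, sing, Set.mem_ofPred_eq, orderOf_one, Nat.dvd_one] at h1
    obtain ⟨a, ha, ha'⟩ := h1
    exact (hL _ (hall a (hsm a ha)).1).1.ne_one ha'
  have hc := check_eq_true
  rw [check, List.all_eq_true] at hc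
  have hdm : d ∈ (prods [2, 2, 2, 3, 5, 7, 11]).filter fun d => d != 9240 := by
    refine List.mem_filter.2 ⟨mem_prods _ ?_ d (by norm_num; exact hd), by simpa using hd'⟩
    intro p hp
    simp only [List.mem_cons, List.not_mem_nil, or_false] at hp
    rcases hp with rfl | rfl | rfl | rfl | rfl | rfl | rfl <;> norm_num
  have hc' := hc d hdm
  rw [List.all_eq_true, ← hG] at hc'
  have := hc' l hmem
  rw [h1, h2, h3] at this
  simp at this

end CfsgLib.SolvCrit.Order175560
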