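import Mathlib

/-!
Kovács–Robinson: a permutation group of degree `d` has at most `5^(d-1)` classes, given an order
bound for primitive groups not containing the alternating group.
-/

set_option autoImplicit false
set_option linter.style.haveILetI false

namespace CfsgLib.SolvCrit.ClassNumberPerm

open Equiv MulAction
open scoped Pointwise

section Count

variable {G : Type*} [Group G] [Finite G]
set_option linter.unusedSectionVars false

/-- The commuting pairs in `S × T`. -/
abbrev CommPairs (S T : Set G) : Type _ := {z : G × G // z.1 ∈ S ∧ z.2 ∈ T ∧ Commute z.1 z.2}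

theorem card_commPairs_coset_le (N : Subgroup G) (S : Set G) (b : G ⧸ N) :
    Nat.card (CommPairs S {y | (y : G ⧸ N) = b}) ≤ Nat.card (CommPairs S (N : Set G)) := by
  classical
  let pick : G → G := fun x =>
    if h : ∃ y : G, (y : G ⧸ N) = b ∧ Commute x y then h.choose else 1
  have hpick : ∀ x y : G, (y : G ⧸ N) = b → Commute x y →
      ((pick x : G) : G ⧸ N) = b ∧ Commute x (pick x) := by
    intro x y hy hxy
    have h : ∃ y : G, (y : G ⧸ N) = b ∧ Commute x y := ⟨y, hy, hxy⟩
    simp only [pick, dif_pos h]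
    exact h.choose_spec
  refine Nat.card_le_card_of_injective
    (fun z => ⟨(z.1.1, (pick z.1.1)⁻¹ * z.1.2), z.2.1, ?_, ?_⟩) ?_
  · obtain ⟨h1, h2⟩ := hpick _ _ z.2.2.1 z.2.2.2
    exact QuotientGroup.eq.1 (h1.trans (Eq.symm z.2.2.1))
  · obtain ⟨h1, h2⟩ := hpick _ _ z.2.2.1 z.2.2.2
    exact (h2.inv_right).mul_right z.2.2.2
  · rintro ⟨⟨x, y⟩, hz⟩ ⟨⟨x', y'⟩, hz'⟩ h
    simp only [Subtype.mk.injEq, Prod.mk.injEq] at h
    obtain ⟨rfl, h⟩ := h
    exact Subtype.ext (Prod.ext rfl (mul_left_cancel h))

theorem card_commPairs_comm (S T : Set G) :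
    Nat.card (CommPairs S T) = Nat.card (CommPairs T S) :=
  Nat.card_congr ((Equiv.prodComm G G).subtypeEquiv fun _ =>
    ⟨fun h => ⟨h.2.1, h.1, h.2.2.symm⟩, fun h => ⟨h.2.1, h.1, h.2.2.symm⟩⟩)

/-- The number of conjugacy classes. -/
noncomputable abbrev k (G : Type*) [Group G] : ℕ := Nat.card (ConjClasses G)

theorem k_congr {H : Type*} [Group H] [Finite H] (e : G ≃* H) : k G = k H := by
  have h := card_comm_eq_card_conjClasses_mul_card G
  have h' := card_comm_eq_card_conjClasses_mul_card H
  have e' : Nat.card {p : G × G // Commute p.1 p.2} = Nat.card {p : H × H // Commute p.1 p.2} :=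
    Nat.card_congr ((e.toEquiv.prodCongr e.toEquiv).subtypeEquiv fun z =>
      ⟨fun hz => hz.map e.toMonoidHom, fun hz => by
        have := hz.map e.symm.toMonoidHom
        simpa using this⟩)
  rw [e', h', ← Nat.card_congr e.toEquiv] at h
  exact (Nat.eq_of_mul_eq_mul_right Nat.card_pos h).symm

theorem k_le_card : k G ≤ Nat.card G :=
  Nat.card_le_card_of_surjective ConjClasses.mk ConjClasses.mk_surjective

theorem k_subgroup_le (H : Subgroup G) : k H ≤ H.index * k G := by
  have h := card_comm_eq_card_conjClasses_mul_card G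
  have h' := card_comm_eq_card_conjClasses_mul_card H
  have hle : Nat.card {p : H × H // Commute p.1 p.2} ≤ Nat.card {p : G × G // Commute p.1 p.2} := by
    refine Nat.card_le_card_of_injective
      (fun z => ⟨((z.1.1 : G), (z.1.2 : G)), z.2.map H.subtype⟩) fun a b hab => ?_
    have := congrArg Subtype.val hab
    simp only [Prod.mk.injEq] at this
    exact Subtype.ext (Prod.ext (Subtype.ext this.1) (Subtype.ext this.2))
  rw [h, h', ← H.card_mul_index] at hle
  refine Nat.le_of_mul_le_mul_right (hle.trans (le_of_eq ?_)) Nat.card_pos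
  show k G * (Nat.card H * H.index) = H.index * k G * Nat.card H
  ring

theorem k_le_mul (N : Subgroup G) [N.Normal] : k G ≤ k N * k (G ⧸ N) := by
  classical
  haveI : Fintype {p : (G ⧸ N) × (G ⧸ N) // Commute p.1 p.2} := Fintype.ofFinite _
  have h := card_comm_eq_card_conjClasses_mul_card G
  have hN := card_comm_eq_card_conjClasses_mul_card N
  have hQ := card_comm_eq_card_conjClasses_mul_card (G ⧸ N)
  have hle : Nat.card {p : G × G // Commute p.1 p.2} ≤
      Nat.card {p : (G ⧸ N) × (G ⧸ N) // Commute p.1 p.2} *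
        Nat.card {p : N × N // Commute p.1 p.2} := by
    let f : {p : G × G // Commute p.1 p.2} → {p : (G ⧸ N) × (G ⧸ N) // Commute p.1 p.2} :=
      fun z => ⟨((z.1.1 : G ⧸ N), (z.1.2 : G ⧸ N)), z.2.map (QuotientGroup.mk' N)⟩
    rw [← Nat.card_congr (Equiv.sigmaFiberEquiv f), Nat.card_sigma]
    refine (Finset.sum_le_card_nsmul _ _ _ fun c _ => ?_).trans
      (le_of_eq (by rw [smul_eq_mul, Finset.card_univ, ← Nat.card_eq_fintype_card]))
    calc Nat.card {z // f z = c}
        = Nat.card (CommPairs {x : G | (x : G ⧸ N) = c.1.1} {y : G | (y : G ⧸ N) = c.1.2}) := by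
          refine Nat.card_congr ⟨fun z => ⟨z.1.1, ?_, ?_, z.1.2⟩, fun z => ⟨⟨z.1, z.2.2.2⟩, ?_⟩,
            fun z => rfl, fun z => rfl⟩
          · exact congrArg (fun w => (Subtype.val w).1) z.2
          · exact congrArg (fun w => (Subtype.val w).2) z.2
          · exact Subtype.ext (Prod.ext z.2.1 z.2.2.1)
      _ ≤ Nat.card (CommPairs {x : G | (x : G ⧸ N) = c.1.1} (N : Set G)) :=
          card_commPairs_coset_le N _ _
      _ = Nat.card (CommPairs (N : Set G) {x : G | (x : G ⧸ N) = c.1.1}) := card_commPairs_comm _ _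
      _ ≤ Nat.card (CommPairs (N : Set G) (N : Set G)) := card_commPairs_coset_le N _ _
      _ = _ := by
          refine Nat.card_congr ⟨fun z => ⟨(⟨z.1.1, z.2.1⟩, ⟨z.1.2, z.2.2.1⟩), Subtype.ext z.2.2.2⟩,
            fun z => ⟨((z.1.1 : G), (z.1.2 : G)), z.1.1.2, z.1.2.2, z.2.map N.subtype⟩,
            fun z => rfl, fun z => rfl⟩
  rw [h, hN, hQ] at hle
  have hc := Subgroup.card_eq_card_quotient_mul_card_subgroup N
  refine Nat.le_of_mul_le_mul_right (hle.trans (le_of_eq ?_)) Nat.card_pos
  show k (G ⧸ N) * Nat.card (G ⧸ N) * (k N * Nat.card N) = k N * k (G ⧸ N) * Nat.card G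
  rw [hc]
  ring

theorem k_le_ker_range {H : Type*} [Group H] [Finite H] (f : G →* H) :
    k G ≤ k f.ker * k f.range :=
  (k_le_mul f.ker).trans (le_of_eq (by rw [k_congr (QuotientGroup.quotientKerEquivRange f)]))

end Count

universe u

/-- The hypothesis on primitive groups. -/
def PrimitiveBound : Prop :=
  ∀ (α : Type u) [Fintype α] [DecidableEq α] (G : Subgroup (Perm α)), 8 ≤ Fintype.card α →
    IsPreprimitive G α → ¬ alternatingGroup α ≤ G → Nat.card G ≤ 4 ^ Fintype.card α

/-- The number of orbits. -/
noncomputable abbrev numOrbits (G : Type*) (α : Type*) [Group G] [MulAction G α] : ℕ :=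
  Nat.card (Quotient (orbitRel G α))

theorem numOrbits_le_card (G : Type*) (α : Type*) [Group G] [MulAction G α] [Finite α] :
    numOrbits G α ≤ Nat.card α :=
  Nat.card_le_card_of_surjective _ Quotient.mk_surjective

theorem numOrbits_pos (G : Type*) (α : Type*) [Group G] [MulAction G α] [Finite α] [Nonempty α] :
    1 ≤ numOrbits G α :=
  haveI : Nonempty (Quotient (orbitRel G α)) := ⟨Quotient.mk _ (Classical.arbitrary α)⟩
  Finite.card_pos

theorem k_sym_le (α : Type u) [Fintype α] [DecidableEq α] :
    k (Perm α) ≤ 2 ^ (Fintype.card α - 1) := by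
  rw [← composition_card, ← Nat.card_eq_fintype_card]
  refine le_trans ?_ (Nat.card_le_card_of_surjective _ Nat.Partition.ofComposition_surj)
  refine Nat.card_le_card_of_injective
    (Quotient.lift (fun σ : Perm α => σ.partition)
      (fun a b h => Equiv.Perm.partition_eq_of_isConj.1 h)) ?_
  rintro ⟨a⟩ ⟨b⟩ h
  exact Quotient.sound (Equiv.Perm.partition_eq_of_isConj.2 h)

theorem four_pow_le {d : ℕ} (hd : 8 ≤ d) : 4 ^ d ≤ 5 ^ (d - 1) := by
  induction d, hd using Nat.le_induction with
  | base => norm_num
  | succ n hn ih =>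
    rw [pow_succ, show n + 1 - 1 = (n - 1) + 1 by omega, pow_succ]
    exact Nat.mul_le_mul ih (by norm_num)

theorem two_pow_le {d : ℕ} (hd : 8 ≤ d) : 2 * 2 ^ (d - 1) ≤ 5 ^ (d - 1) := by
  induction d, hd using Nat.le_induction with
  | base => norm_num
  | succ n hn ih =>
    rw [show n + 1 - 1 = (n - 1) + 1 by omega, pow_succ, pow_succ]
    omega

/-- The restriction to the elements fixing a set pointwise acts on the complement. -/
theorem exists_compl_embedding {α : Type u} (H : Subgroup (Perm α)) (O : Set α)
    (hO : ∀ g ∈ H, ∀ x ∈ O, g x = x) :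
    ∃ f : H →* Perm {x : α // x ∉ O}, Function.Injective f ∧
      ∀ (g : H) (x : {x : α // x ∉ O}), ((f g x : {x : α // x ∉ O}) : α) = (g : Perm α) x := by
  classical
  have hmem : ∀ g ∈ H, ∀ x, g x ∉ O ↔ x ∉ O := by
    intro g hg x
    refine not_congr ⟨fun h => ?_, fun h => by rwa [hO g hg x h]⟩
    have := hO g⁻¹ (inv_mem hg) _ h
    rw [Perm.inv_def, Equiv.symm_apply_apply] at this
    exact this.symm ▸ h
  refine ⟨{ toFun := fun g => (g : Perm α).subtypePerm fun x => hmem g g.2 x
            map_one' := ?_
            map_mul' := ?_ }, ?_, fun _ _ => rfl⟩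
  · ext x; rfl
  · intro a b; ext x; rfl
  · intro a b hab
    apply Subtype.ext
    ext x
    by_cases hx : x ∈ O
    · rw [hO a a.2 x hx, hO b b.2 x hx]
    · exact congrArg Subtype.val (Equiv.ext_iff.1 hab ⟨x, hx⟩)

/-- **Kovács–Robinson.** -/
theorem k_le_five_pow (hP : PrimitiveBound.{u}) : ∀ (d : ℕ) (α : Type u) [Fintype α]
    [DecidableEq α] (G : Subgroup (Perm α)), Fintype.card α = d →
      k G ≤ 5 ^ (d - numOrbits G α) := by
  intro d
  induction d using Nat.strong_induction_on with
  | _ d IH =>
    intro α _ _ G hd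
    rcases isEmpty_or_nonempty α with hα | hα
    · haveI : Subsingleton (Perm α) := inferInstance
      exact le_trans k_le_card ((Finite.card_le_one_iff_subsingleton.2 inferInstance).trans
        (Nat.one_le_pow _ _ (by norm_num)))
    -- intransitive groups of degree `d`
    have hint : ∀ H : Subgroup (Perm α), ¬ IsPretransitive H α →
        k H ≤ 5 ^ (d - numOrbits H α) := by
      intro H hH
      classical
      obtain ⟨x⟩ := hα
      set O := orbit H x with hO
      obtain ⟨y, hy⟩ : ∃ y, y ∉ O := by
        by_contra hall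
        push Not at hall
        exact hH ⟨fun a b => by
          obtain ⟨g, hg⟩ := hall a
          obtain ⟨g', hg'⟩ := hall b
          exact ⟨g' * g⁻¹, by rw [mul_smul, ← hg, inv_smul_smul]; exact hg'⟩⟩
      haveI : Fintype O := Fintype.ofFinite _
      haveI : Fintype {z : α // z ∉ O} := Fintype.ofFinite _
      have hxO : x ∈ O := mem_orbit_self x
      have hsum : Nat.card O + Nat.card {z : α // z ∉ O} = d := by
        rw [← hd, ← Nat.card_eq_fintype_card, ← Nat.card_sum]
        exact Nat.card_congr (Equiv.sumCompl fun z => z ∈ O)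
      have hapos : 1 ≤ Nat.card O := Nat.card_pos_iff.2 ⟨⟨⟨x, hxO⟩⟩, inferInstance⟩
      have hbpos : 1 ≤ Nat.card {z : α // z ∉ O} := Nat.card_pos_iff.2 ⟨⟨⟨y, hy⟩⟩, inferInstance⟩
      set f := MulAction.toPermHom H O with hf
      have hrange : k f.range ≤ 5 ^ (Nat.card O - 1) := by
        refine (IH (Fintype.card O) (by rw [← Nat.card_eq_fintype_card]; omega) O f.range rfl).trans
          (Nat.pow_le_pow_right (by norm_num) ?_)
        rw [Nat.card_eq_fintype_card]
        haveI : Nonempty O := ⟨⟨x, hxO⟩⟩
        have := numOrbits_pos f.range O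
        omega
      have hfix : ∀ g ∈ f.ker.map H.subtype, ∀ z ∈ O, g z = z := by
        rintro _ ⟨g, hg, rfl⟩ z hz
        exact congrArg Subtype.val (Equiv.ext_iff.1 (MonoidHom.mem_ker.1 hg) ⟨z, hz⟩)
      obtain ⟨e, he, heval⟩ := exists_compl_embedding (f.ker.map H.subtype) O hfix
      have hker : k f.ker ≤ 5 ^ (Nat.card {z : α // z ∉ O} - numOrbits e.range {z : α // z ∉ O}) := by
        rw [k_congr ((f.ker.equivMapOfInjective _ H.subtype_injective).trans
          (MonoidHom.ofInjective he)), Nat.card_eq_fintype_card (α := {z : α // z ∉ O})]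
        exact IH _ (by rw [← Nat.card_eq_fintype_card]; omega) _ e.range rfl
      -- orbit counting
      have horb : numOrbits H α ≤ numOrbits e.range {z : α // z ∉ O} + 1 := by
        rw [numOrbits, numOrbits, ← Finite.card_option]
        let φ : Option (Quotient (orbitRel e.range {z : α // z ∉ O})) → Quotient (orbitRel H α) :=
          fun o => o.elim (Quotient.mk _ x) (Quotient.lift (fun z => Quotient.mk _ (z : α))
            (fun z z' hz => by
              obtain ⟨⟨_, ⟨_, h, hk, rfl⟩, rfl⟩, hg⟩ := orbitRel_apply.1 hz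
              refine Quotient.sound (orbitRel_apply.2 ⟨h, ?_⟩)
              have h1 := congrArg Subtype.val hg
              rw [← h1]
              exact (heval ⟨H.subtype h, h, hk, rfl⟩ z').symm))
        refine Nat.card_le_card_of_surjective φ ?_
        rintro ⟨z⟩
        by_cases hz : z ∈ O
        · exact ⟨none, (Quotient.sound (orbitRel_apply.2 hz)).symm⟩
        · exact ⟨some (Quotient.mk _ ⟨z, hz⟩), rfl⟩
      have hle := numOrbits_le_card e.range {z : α // z ∉ O}
      calc k H ≤ k f.ker * k f.range := k_le_ker_range f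
        _ ≤ 5 ^ (Nat.card {z : α // z ∉ O} - numOrbits e.range {z : α // z ∉ O}) *
            5 ^ (Nat.card O - 1) := Nat.mul_le_mul hker hrange
        _ ≤ 5 ^ (d - numOrbits H α) := by
          rw [← pow_add]
          exact Nat.pow_le_pow_right (by norm_num) (by omega)
    by_cases htrans : IsPretransitive G α
    swap
    · exact hint G htrans
    have hone : numOrbits G α = 1 := by
      rw [numOrbits, Nat.card_eq_one_iff_unique]
      exact ⟨(pretransitive_iff_subsingleton_quotient G α).1 htrans,
        ⟨Quotient.mk _ (Classical.arbitrary α)⟩⟩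
    rw [hone]
    by_cases hsmall : d ≤ 7
    · refine le_trans k_le_card ?_
      have h1 := Subgroup.card_le_card_group G
      rw [Nat.card_eq_fintype_card (α := Perm α), Fintype.card_perm, hd] at h1
      refine h1.trans ?_
      interval_cases d <;> decide
    by_cases hprim : IsPreprimitive G α
    · by_cases hA : alternatingGroup α ≤ G
      · haveI : Nontrivial α := Fintype.one_lt_card_iff_nontrivial.1 (by omega)
        have hidx : G.index ≤ 2 := by
          rw [← alternatingGroup.index_eq_two (α := α)]
          exact Subgroup.index_antitone hA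
        refine (k_subgroup_le G).trans ?_
        refine (Nat.mul_le_mul hidx (k_sym_le α)).trans ?_
        rw [hd]
        exact two_pow_le (by omega)
      · refine le_trans k_le_card ((hP α G (by omega) hprim hA).trans ?_)
        rw [hd]
        exact four_pow_le (by omega)
    -- a block system
    obtain ⟨B, hB, hnt⟩ : ∃ B : Set α, IsBlock G B ∧ ¬ IsTrivialBlock B := by
      by_contra hall
      push Not at hall
      exact hprim { toIsPretransitive := htrans, isTrivialBlock_of_isBlock := fun {B} hB => hall B hB }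
    rw [IsTrivialBlock, not_or] at hnt
    obtain ⟨hBns, hBuniv⟩ := hnt
    obtain ⟨b, hb⟩ : B.Nonempty := Set.nonempty_iff_ne_empty.2 fun h =>
      hBns (h ▸ Set.subsingleton_empty)
    set Bl := orbit G B with hBl
    haveI : Fintype Bl := Fintype.ofFinite _
    set f := MulAction.toPermHom G Bl with hf
    have hdisj : ∀ g h : G, ∀ z : α, z ∈ g • B → z ∈ h • B → g • B = h • B := by
      intro g h z hz hz'
      rcases hB.smul_eq_smul_or_disjoint g h with h1 | h1
      · exact h1
      · exact absurd hz' (Set.disjoint_left.1 h1 hz)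
    -- every point lies in exactly one block
    have hblock : ∀ z : α, ∃ g : G, z ∈ g • B := fun z => by
      obtain ⟨g, rfl⟩ := MulAction.exists_smul_eq G b z
      exact ⟨g, Set.smul_mem_smul_set hb⟩
    choose sec hsec using hblock
    let blockOf : α → Bl := fun z => ⟨sec z • B, mem_orbit B (sec z)⟩
    have hblockOf : ∀ (g : G) (z : α), z ∈ g • B → (blockOf z : Set α) = g • B := fun g z hz =>
      hdisj _ _ z (hsec z) hz
    have hsurj : Function.Surjective blockOf := by
      rintro ⟨_, g, rfl⟩
      exact ⟨g • b, Subtype.ext (hblockOf g _ (Set.smul_mem_smul_set hb))⟩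
    have hmlt : Nat.card Bl < d := by
      refine lt_of_le_of_ne ?_ ?_
      · rw [← hd, ← Nat.card_eq_fintype_card]
        exact Nat.card_le_card_of_surjective _ hsurj
      intro he
      rw [← hd, ← Nat.card_eq_fintype_card] at he
      have hinj : Function.Injective blockOf :=
        ((Nat.bijective_iff_surjective_and_card blockOf).2 ⟨hsurj, he.symm⟩).1
      refine hBns fun u hu v hv => hinj (Subtype.ext ?_)
      have h1 : u ∈ (1 : G) • B := by rwa [one_smul]
      have h2 : v ∈ (1 : G) • B := by rwa [one_smul]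
      rw [hblockOf 1 u h1, hblockOf 1 v h2]
    have hm : 2 ≤ Nat.card Bl := by
      rw [Nat.succ_le_iff, Finite.one_lt_card_iff_nontrivial]
      obtain ⟨z, hz⟩ := (Set.ne_univ_iff_exists_notMem B).1 hBuniv
      refine ⟨⟨blockOf b, blockOf z, fun h => hz ?_⟩⟩
      have h1 : (blockOf b : Set α) = (1 : G) • B := hblockOf 1 b (by rwa [one_smul])
      have h2 : z ∈ (blockOf z : Set α) := hsec z
      rw [← h, h1, one_smul] at h2
      exact h2
    -- the kernel
    set N := f.ker.map G.subtype with hN
    have hNblock : ∀ (n : N) (z : α), blockOf ((n : Perm α) z) = blockOf z := by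
      rintro ⟨_, g, hg, rfl⟩ z
      apply Subtype.ext
      have h1 : g • (blockOf z : Set α) = (blockOf z : Set α) :=
        congrArg Subtype.val (Equiv.ext_iff.1 (MonoidHom.mem_ker.1 hg) (blockOf z))
      have h2 : g • z ∈ (blockOf z : Set α) := h1 ▸ Set.smul_mem_smul_set (hsec z)
      exact hblockOf _ _ h2
    have hNorb : Nat.card Bl ≤ numOrbits N α := by
      refine Nat.card_le_card_of_surjective (Quotient.lift blockOf fun z z' hzz' => ?_) ?_
      · obtain ⟨n, rfl⟩ := orbitRel_apply.1 hzz'
        exact hNblock n z'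
      · intro c
        obtain ⟨z, rfl⟩ := hsurj c
        exact ⟨Quotient.mk _ z, rfl⟩
    have hNtrans : ¬ IsPretransitive N α := by
      intro hNt
      have h1 : numOrbits N α = 1 := by
        rw [numOrbits, Nat.card_eq_one_iff_unique]
        exact ⟨(pretransitive_iff_subsingleton_quotient N α).1 hNt,
          ⟨Quotient.mk _ (Classical.arbitrary α)⟩⟩
      omega
    have hker : k f.ker ≤ 5 ^ (d - Nat.card Bl) := by
      rw [k_congr (f.ker.equivMapOfInjective _ G.subtype_injective)]
      exact (hint N hNtrans).trans (Nat.pow_le_pow_right (by norm_num) (by omega))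
    have hrange : k f.range ≤ 5 ^ (Nat.card Bl - 1) := by
      classical
      refine (IH (Fintype.card Bl) (by rw [← Nat.card_eq_fintype_card]; exact hmlt) Bl f.range rfl).trans
        (Nat.pow_le_pow_right (by norm_num) ?_)
      rw [Nat.card_eq_fintype_card]
      haveI : Nonempty Bl := ⟨⟨B, mem_orbit_self B⟩⟩
      have := numOrbits_pos f.range Bl
      omega
    calc k G ≤ k f.ker * k f.range := k_le_ker_range f
      _ ≤ 5 ^ (d - Nat.card Bl) * 5 ^ (Nat.card Bl - 1) := Nat.mul_le_mul hker hrange
      _ = 5 ^ (d - 1) := by rw [← pow_add]; congr 1; omega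

end CfsgLib.SolvCrit.ClassNumberPerm
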