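import Cfsg.Agent.Transfer.Fusion
import Mathlib.GroupTheory.Index
import Mathlib.Algebra.Group.Commute.Hom

/-!
# Essential hyperplanes of a two-group of class two

Let `P` be a `2`-subgroup of class two of `G`, `Z = Z(P)`, with `C_G(Z) ≤ M`. A *turn* is a pair
`(D, k)`: `D` a subgroup of index two of `P` containing `Z` and `k ∉ M` an element of odd order
normalizing `D` and inverted modulo `D` by an element of `P \ D`. We show that the relation
"`[D, k]` is not contained in `E`" between the subgroups of turns matches each of them with at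
most one other, so that an orbit of a group of odd order is free of it.
-/

set_option autoImplicit false
set_option linter.unusedSectionVars false

namespace CfsgLib.SolvCrit.Hyperplanes

open Subgroup

open scoped commutatorElement

variable {G : Type*} [Group G] [Finite G]

/-- The data `(P, M)`. -/
structure Ctx (P M : Subgroup G) : Prop where
  isTwo : IsPGroup 2 P
  classTwo : ∀ a ∈ P, ∀ b ∈ P, ⁅a, b⁆ ∈ centralizer (P : Set G)
  centralizer_le : centralizer ((P ⊓ centralizer (P : Set G) : Subgroup G) : Set G) ≤ M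

/-- A subgroup of index two with an element of odd order outside `M` inverted modulo it. -/
structure Turn (P M D : Subgroup G) (k : G) : Prop where
  le : D ≤ P
  center_le : P ⊓ centralizer (P : Set G) ≤ D
  index_two : ∀ a ∈ P, ∀ b ∈ P, a ∉ D → b ∉ D → a * b ∈ D
  mem_normalizer : k ∈ normalizer (D : Set G)
  odd_order : Odd (orderOf k)
  notMem : k ∉ M
  inverted : ∃ t ∈ P, t ∉ D ∧ t * k * t⁻¹ * k ∈ D

variable {P M D E E' : Subgroup G} {k kE kE' : G}

namespace Ctx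

theorem comm_mem_center (hC : Ctx P M) {a b : G} (ha : a ∈ P) (hb : b ∈ P) :
    ⁅a, b⁆ ∈ P ⊓ centralizer (P : Set G) :=
  ⟨by rw [commutatorElement_def]
      exact P.mul_mem (P.mul_mem (P.mul_mem ha hb) (P.inv_mem ha)) (P.inv_mem hb),
    hC.classTwo a ha b hb⟩

end Ctx

/-- An element of odd order is a power of its square. -/
theorem exists_sq_pow_eq {x : G} (hx : Odd (orderOf x)) : ∃ n : ℕ, (x ^ 2) ^ n = x :=
  exists_pow_eq_self_of_coprime hx.coprime_two_left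

namespace Turn

theorem conj_mem (h : Turn P M D k) {d : G} (hd : d ∈ D) : k * d * k⁻¹ ∈ D :=
  (mem_normalizer_iff.1 h.mem_normalizer d).1 hd

theorem inv_conj_mem (h : Turn P M D k) {d : G} (hd : d ∈ D) : k⁻¹ * d * k ∈ D :=
  (mem_normalizer_iff''.1 h.mem_normalizer d).1 hd

theorem conj_mem' (hC : Ctx P M) (h : Turn P M D k) {a d : G} (ha : a ∈ P) (hd : d ∈ D) :
    a * d * a⁻¹ ∈ D := by
  rw [show a * d * a⁻¹ = ⁅a, d⁆ * d by simp [commutatorElement_def, mul_assoc]]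
  exact D.mul_mem (h.center_le (hC.comm_mem_center ha (h.le hd))) hd

theorem center_le_centre (h : Turn P M D k) :
    P ⊓ centralizer (P : Set G) ≤ D ⊓ centralizer (D : Set G) :=
  le_inf h.center_le (inf_le_right.trans (centralizer_le h.le))

theorem comm_mem_centre (hC : Ctx P M) (h : Turn P M D k) {a b : G} (ha : a ∈ P) (hb : b ∈ P) :
    ⁅a, b⁆ ∈ D ⊓ centralizer (D : Set G) :=
  h.center_le_centre (hC.comm_mem_center ha hb)

theorem conj_centre_mem (h : Turn P M D k) {w : G} (hw : w ∈ D ⊓ centralizer (D : Set G)) :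
    k * w * k⁻¹ ∈ D ⊓ centralizer (D : Set G) := by
  refine ⟨h.conj_mem hw.1, fun d hd => ?_⟩
  have := hw.2 _ (h.inv_conj_mem hd)
  calc d * (k * w * k⁻¹) = k * (k⁻¹ * d * k * w) * k⁻¹ := by group
    _ = k * (w * (k⁻¹ * d * k)) * k⁻¹ := by rw [this]
    _ = k * w * k⁻¹ * d := by group

/-- If conjugation by `t` fixes `w` and `k w k⁻¹`, with `w` central in `D`, then `k` fixes `w`. -/
theorem commute_of_fixed (h : Turn P M D k) {t w : G} (ht : t * k * t⁻¹ * k ∈ D)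
    (hw : w ∈ D ⊓ centralizer (D : Set G)) (h1 : t * w * t⁻¹ = w)
    (h2 : t * (k * w * k⁻¹) * t⁻¹ = k * w * k⁻¹) : Commute k w := by
  set d := t * k * t⁻¹ * k with hd
  have e : k * w * k⁻¹ = k⁻¹ * w * k := by
    have hd' : d * (k⁻¹ * w * k) = k⁻¹ * w * k * d := by
      have hc : k⁻¹ * w * k ∈ centralizer (D : Set G) := fun y hy => by
        have := hw.2 _ (h.conj_mem hy)
        calc y * (k⁻¹ * w * k) = k⁻¹ * (k * y * k⁻¹ * w) * k := by group
          _ = k⁻¹ * (w * (k * y * k⁻¹)) * k := by rw [this]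
          _ = k⁻¹ * w * k * y := by group
      exact hc d ht
    calc k * w * k⁻¹ = t * (k * w * k⁻¹) * t⁻¹ := h2.symm
      _ = d * k⁻¹ * (t * w * t⁻¹) * (d * k⁻¹)⁻¹ := by rw [hd]; group
      _ = d * (k⁻¹ * w * k) * d⁻¹ := by rw [h1]; group
      _ = k⁻¹ * w * k := by rw [hd', mul_inv_cancel_right]
  have h3 : Commute (k ^ 2) w := by
    show k ^ 2 * w = w * k ^ 2
    calc k ^ 2 * w = k * (k * w * k⁻¹) * k := by rw [pow_two]; group
      _ = k * (k⁻¹ * w * k) * k := by rw [e]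
      _ = w * k ^ 2 := by rw [pow_two]; group
  obtain ⟨n, hn⟩ := exists_sq_pow_eq h.odd_order
  rw [← hn]
  exact h3.pow_left n

/-- `k` centralizes the commutators of `D`. -/
theorem commute_commutator (hC : Ctx P M) (h : Turn P M D k) {a b : G} (ha : a ∈ D)
    (hb : b ∈ D) : Commute k ⁅a, b⁆ := by
  obtain ⟨t, htP, -, ht⟩ := h.inverted
  have hfix : ∀ {a b : G}, a ∈ D → b ∈ D → t * ⁅a, b⁆ * t⁻¹ = ⁅a, b⁆ := fun {a b} ha hb => by
    rw [hC.classTwo a (h.le ha) b (h.le hb) t htP, mul_inv_cancel_right]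
  refine h.commute_of_fixed ht (h.comm_mem_centre hC (h.le ha) (h.le hb)) (hfix ha hb) ?_
  rw [show k * ⁅a, b⁆ * k⁻¹ = ⁅k * a * k⁻¹, k * b * k⁻¹⁆ by
    simp [commutatorElement_def, mul_assoc]]
  exact hfix (h.conj_mem ha) (h.conj_mem hb)

/-- `k` centralizes `D` modulo the centre of `D`. -/
theorem comm_mem (hC : Ctx P M) (h : Turn P M D k) {d : G} (hd : d ∈ D) :
    k * d * k⁻¹ * d⁻¹ ∈ D ⊓ centralizer (D : Set G) := by
  set W := D ⊓ centralizer (D : Set G) with hW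
  obtain ⟨t, htP, -, ht⟩ := h.inverted
  set d₀ := t * k * t⁻¹ * k with hd₀
  have hWinv : ∀ w ∈ W, k⁻¹ * w * k ∈ W := by
    intro w hw
    refine ⟨h.inv_conj_mem hw.1, fun y hy => ?_⟩
    have := hw.2 _ (h.conj_mem hy)
    calc y * (k⁻¹ * w * k) = k⁻¹ * (k * y * k⁻¹ * w) * k := by group
      _ = k⁻¹ * (w * (k * y * k⁻¹)) * k := by rw [this]
      _ = k⁻¹ * w * k * y := by group
  -- `k²` acts trivially modulo `W`
  have hsq : ∀ x ∈ D, k ^ 2 * x * (k ^ 2)⁻¹ * x⁻¹ ∈ W := by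
    intro x hx
    set e := k * x * k⁻¹ with he
    have heD : e ∈ D := h.conj_mem hx
    -- `k⁻¹ x k = w e` with `w ∈ W`
    have h1 : ⁅t, e⁆ ∈ W := h.comm_mem_centre hC htP (h.le heD)
    have hu : k⁻¹ * (t * x * t⁻¹) * k ∈ D := h.inv_conj_mem (h.conj_mem' hC htP hx)
    have h2 : ⁅d₀, k⁻¹ * (t * x * t⁻¹) * k⁆ ∈ W :=
      h.comm_mem_centre hC (h.le ht) (h.le hu)
    have h3 : k⁻¹ * ⁅t, x⁆ * k ∈ W := hWinv _ (h.comm_mem_centre hC htP (h.le hx))
    have key : k⁻¹ * x * k * e⁻¹ =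
        (k⁻¹ * ⁅t, x⁆ * k)⁻¹ * (⁅d₀, k⁻¹ * (t * x * t⁻¹) * k⁆⁻¹ * ⁅t, e⁆) := by
      rw [he, hd₀, commutatorElement_def, commutatorElement_def, commutatorElement_def]
      group
    have hmem : k⁻¹ * x * k * e⁻¹ ∈ W := key ▸ W.mul_mem (W.inv_mem h3) (W.mul_mem (W.inv_mem h2) h1)
    have h4 := h.conj_centre_mem hmem
    have e2 : k ^ 2 * x * (k ^ 2)⁻¹ * x⁻¹ = (k * (k⁻¹ * x * k * e⁻¹) * k⁻¹)⁻¹ := by
      rw [he]; simp [pow_two, mul_assoc]
    rw [e2]
    exact W.inv_mem h4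
  obtain ⟨n, hn⟩ := exists_sq_pow_eq h.odd_order
  have hconjW : ∀ (m : ℕ), ∀ w ∈ W, (k ^ 2) ^ m * w * ((k ^ 2) ^ m)⁻¹ ∈ W := by
    intro m
    induction m with
    | zero => intro w hw; simpa using hw
    | succ m ih =>
      intro w hw
      have := ih _ (h.conj_centre_mem (h.conj_centre_mem hw))
      rw [show (k ^ 2) ^ (m + 1) * w * ((k ^ 2) ^ (m + 1))⁻¹ =
        (k ^ 2) ^ m * (k * (k * w * k⁻¹) * k⁻¹) * ((k ^ 2) ^ m)⁻¹ by
          rw [pow_succ, pow_two]; group]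
      exact this
  have hpow : ∀ m : ℕ, (k ^ 2) ^ m * d * ((k ^ 2) ^ m)⁻¹ * d⁻¹ ∈ W := by
    intro m
    induction m with
    | zero => simp [W.one_mem]
    | succ m ih =>
      rw [show (k ^ 2) ^ (m + 1) * d * ((k ^ 2) ^ (m + 1))⁻¹ * d⁻¹ =
        (k ^ 2) ^ m * (k ^ 2 * d * (k ^ 2)⁻¹ * d⁻¹) * ((k ^ 2) ^ m)⁻¹ *
          ((k ^ 2) ^ m * d * ((k ^ 2) ^ m)⁻¹ * d⁻¹) by rw [pow_succ]; group]
      exact W.mul_mem (hconjW m _ (hsq d hd)) ih
  have := hpow n
  rwa [hn] at this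

/-- The set `[D, k]`. -/
def ImSet (D : Subgroup G) (k : G) : Set G := {y | ∃ d ∈ D, y = k * d * k⁻¹ * d⁻¹}

theorem mem_centre (hC : Ctx P M) (h : Turn P M D k) {y : G} (hy : y ∈ ImSet D k) :
    y ∈ D ⊓ centralizer (D : Set G) := by
  obtain ⟨d, hd, rfl⟩ := hy
  exact h.comm_mem hC hd

theorem map_mul' (hC : Ctx P M) (h : Turn P M D k) {d e : G} (hd : d ∈ D) (he : e ∈ D) :
    k * (d * e) * k⁻¹ * (d * e)⁻¹ = k * d * k⁻¹ * d⁻¹ * (k * e * k⁻¹ * e⁻¹) := by
  have := (h.comm_mem hC he).2 d hd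
  calc k * (d * e) * k⁻¹ * (d * e)⁻¹
      = k * d * k⁻¹ * d⁻¹ * (d * (k * e * k⁻¹ * e⁻¹)) * d⁻¹ := by group
    _ = k * d * k⁻¹ * d⁻¹ * ((k * e * k⁻¹ * e⁻¹) * d) * d⁻¹ := by rw [this]
    _ = _ := by group

theorem eq_one_of_commute (hC : Ctx P M) (h : Turn P M D k) {y : G} (hy : y ∈ ImSet D k)
    (hk : Commute k y) : y = 1 := by
  have hyD := (h.mem_centre hC hy).1
  obtain ⟨d, -, rfl⟩ := hy
  set w := k * d * k⁻¹ * d⁻¹ with hw
  have hpow : ∀ m : ℕ, k ^ m * d * (k ^ m)⁻¹ = w ^ m * d := by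
    intro m
    induction m with
    | zero => simp
    | succ m ih =>
      calc k ^ (m + 1) * d * (k ^ (m + 1))⁻¹ = k * (k ^ m * d * (k ^ m)⁻¹) * k⁻¹ := by
            rw [pow_succ']; group
        _ = k * w ^ m * d * k⁻¹ := by rw [ih]; group
        _ = w ^ m * k * d * k⁻¹ := by rw [(hk.pow_right m).eq]
        _ = w ^ m * (w * d) := by rw [hw]; group
        _ = w ^ (m + 1) * d := by rw [pow_succ]; group
  have h1 : w ^ orderOf k = 1 := by
    have := hpow (orderOf k)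
    rw [pow_orderOf_eq_one] at this
    simpa using this.symm
  obtain ⟨i, hi⟩ := hC.isTwo ⟨w, h.le hyD⟩
  have h2 : w ^ 2 ^ i = 1 := congrArg Subtype.val hi
  have := pow_gcd_eq_one.2 ⟨h1, h2⟩
  rwa [(Nat.Coprime.pow_right i h.odd_order.coprime_two_right).gcd_eq_one, pow_one] at this

/-- Every element of `[D, k]` comes from `[D, k]`. -/
theorem exists_preimage (hC : Ctx P M) (h : Turn P M D k) {y : G} (hy : y ∈ ImSet D k) :
    ∃ u ∈ ImSet D k, y = k * u * k⁻¹ * u⁻¹ := by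
  let F : ImSet D k → ImSet D k := fun u =>
    ⟨k * (u : G) * k⁻¹ * (u : G)⁻¹, _, (h.mem_centre hC u.2).1, rfl⟩
  have hF : Function.Injective F := by
    rintro ⟨u, a, ha, rfl⟩ ⟨v, b, hb, rfl⟩ e
    have e' := congrArg Subtype.val e
    simp only [F] at e'
    set fa := k * a * k⁻¹ * a⁻¹
    set fb := k * b * k⁻¹ * b⁻¹
    have hfa : fa ∈ D := (h.comm_mem hC ha).1
    have hfb : fb ∈ D := (h.comm_mem hC hb).1
    have hmem : fb⁻¹ * fa ∈ ImSet D k := by
      refine ⟨b⁻¹ * a, D.mul_mem (D.inv_mem hb) ha, ?_⟩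
      rw [h.map_mul' hC (D.inv_mem hb) ha]
      congr 1
      have h1 := h.map_mul' hC (D.inv_mem hb) hb
      rw [inv_mul_cancel] at h1
      simp only [mul_one, mul_inv_cancel, inv_one] at h1
      exact (eq_inv_of_mul_eq_one_left h1.symm).symm
    have hc : Commute k (fb⁻¹ * fa) := by
      have h1 : k * (fb⁻¹ * fa) * k⁻¹ * (fb⁻¹ * fa)⁻¹ = 1 := by
        rw [h.map_mul' hC (D.inv_mem hfb) hfa, e']
        have h2 := h.map_mul' hC (D.inv_mem hfb) hfb
        rw [inv_mul_cancel] at h2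
        rw [← h2]
        group
      show k * (fb⁻¹ * fa) = fb⁻¹ * fa * k
      exact mul_inv_eq_iff_eq_mul.1 (mul_inv_eq_one.1 h1)
    exact Subtype.ext (inv_mul_eq_one.1 (h.eq_one_of_commute hC hmem hc)).symm
  obtain ⟨u, hu⟩ := Finite.surjective_of_injective hF ⟨y, hy⟩
  exact ⟨u, u.2, (congrArg Subtype.val hu).symm⟩

theorem comm_eq (hC : Ctx P M) (h : Turn P M D k) {a b y : G} (ha : a ∈ P) (hb : b ∈ P)
    (ha' : a ∉ D) (hb' : b ∉ D) (hy : y ∈ ImSet D k) : ⁅a, y⁆ = ⁅b, y⁆ := by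
  have hW := h.mem_centre hC hy
  have hd : b⁻¹ * a ∈ D := h.index_two _ (P.inv_mem hb) _ ha (fun h1 => hb' (by simpa using h1)) ha'
  have := hW.2 _ hd
  rw [commutatorElement_def, commutatorElement_def]
  calc a * y * a⁻¹ * y⁻¹ = b * (b⁻¹ * a * y) * a⁻¹ * y⁻¹ := by group
    _ = b * (y * (b⁻¹ * a)) * a⁻¹ * y⁻¹ := by rw [this]
    _ = b * y * b⁻¹ * y⁻¹ := by group

theorem comm_eq_one (hC : Ctx P M) (h : Turn P M D k) {a y : G} (ha : a ∈ D)
    (hy : y ∈ ImSet D k) : ⁅a, y⁆ = 1 :=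
  commutatorElement_eq_one_iff_mul_comm.2 ((h.mem_centre hC hy).2 a ha)

theorem commutator_mem (hC : Ctx P M) (h : Turn P M D k) {a y : G} (ha : a ∈ P)
    (hy : y ∈ ImSet D k) : ⁅a, y⁆ ∈ ImSet D k := by
  by_cases haD : a ∈ D
  · rw [h.comm_eq_one hC haD hy]
    exact ⟨1, D.one_mem, by simp⟩
  obtain ⟨t, htP, htD, ht⟩ := h.inverted
  rw [h.comm_eq hC ha htP haD htD hy]
  obtain ⟨u, hu, rfl⟩ := h.exists_preimage hC hy
  set d₀ := t * k * t⁻¹ * k with hd₀
  have huW := h.mem_centre hC hu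
  have hvD : t * u * t⁻¹ ∈ D := h.conj_mem' hC htP huW.1
  set x := k⁻¹ * (t * u * t⁻¹) * k with hx
  have hxD : x ∈ D := h.inv_conj_mem hvD
  have hxc : d₀ * x = x * d₀ := by
    have hz : x ∈ centralizer (D : Set G) := fun y hy => by
      have h1 : k * y * k⁻¹ ∈ D := h.conj_mem hy
      have h2 : t⁻¹ * (k * y * k⁻¹) * t ∈ D := by
        simpa using h.conj_mem' hC (P.inv_mem htP) h1
      have h3 := huW.2 _ h2
      calc y * x = k⁻¹ * t * (t⁻¹ * (k * y * k⁻¹) * t * u) * t⁻¹ * k := by rw [hx]; group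
        _ = k⁻¹ * t * (u * (t⁻¹ * (k * y * k⁻¹) * t)) * t⁻¹ * k := by rw [h3]
        _ = x * y := by rw [hx]; group
    exact hz d₀ ht
  -- `t` maps `k u k⁻¹ u⁻¹` to `(k x k⁻¹ x⁻¹)⁻¹`
  have e1 : t * (k * u * k⁻¹ * u⁻¹) * t⁻¹ = (k * x * k⁻¹ * x⁻¹)⁻¹ := by
    calc t * (k * u * k⁻¹ * u⁻¹) * t⁻¹ = (d₀ * x) * d₀⁻¹ * (t * u * t⁻¹)⁻¹ := by
          rw [hx, hd₀]; group
      _ = x * (t * u * t⁻¹)⁻¹ := by rw [hxc, mul_inv_cancel_right]
      _ = _ := by rw [hx]; group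
  refine ⟨x⁻¹ * u⁻¹, D.mul_mem (D.inv_mem hxD) (D.inv_mem huW.1), ?_⟩
  rw [commutatorElement_def, e1, h.map_mul' hC (D.inv_mem hxD) (D.inv_mem huW.1)]
  have hneg : ∀ z ∈ D, k * z⁻¹ * k⁻¹ * z⁻¹⁻¹ = (k * z * k⁻¹ * z⁻¹)⁻¹ := fun z hz => by
    have h1 := h.map_mul' hC (D.inv_mem hz) hz
    rw [inv_mul_cancel] at h1
    simp only [mul_one, mul_inv_cancel, inv_one] at h1
    exact eq_inv_of_mul_eq_one_left h1.symm
  rw [hneg x hxD, hneg u huW.1]

/-- Some element of `[D, k]` does not commute with a given element of `P \ D`. -/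
theorem exists_not_commute (hC : Ctx P M) (h : Turn P M D k) {a : G} (ha : a ∈ P)
    (ha' : a ∉ D) : ∃ y ∈ ImSet D k, ⁅a, y⁆ ≠ 1 := by
  by_contra hcon
  push Not at hcon
  obtain ⟨t, htP, htD, ht⟩ := h.inverted
  have hfix : ∀ y ∈ ImSet D k, t * y * t⁻¹ = y := fun y hy => by
    have h1 := hcon y hy
    rw [h.comm_eq hC ha htP ha' htD hy, commutatorElement_def] at h1
    exact mul_inv_eq_one.1 h1
  have hone : ∀ y ∈ ImSet D k, y = 1 := fun y hy => by
    refine h.eq_one_of_commute hC hy (h.commute_of_fixed ht (h.mem_centre hC hy) (hfix y hy) ?_)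
    obtain ⟨d, hd, rfl⟩ := hy
    exact hfix _ ⟨k * d * k⁻¹, h.conj_mem hd, by group⟩
  refine h.notMem (hC.centralizer_le fun z hz => ?_)
  exact (mul_inv_eq_iff_eq_mul.1 (mul_inv_eq_one.1 (hone _ ⟨z, h.center_le hz, rfl⟩))).symm

theorem sq_eq_one (hC : Ctx P M) (h : Turn P M D k) {y : G} (hy : y ∈ ImSet D k) :
    y * y = 1 := by
  obtain ⟨t, htP, htD, ht⟩ := h.inverted
  have hfix : ∀ u ∈ ImSet D k, t * (u * u) * t⁻¹ = u * u := fun u hu => by
    set n := ⁅t, u⁆ with hn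
    have huD := (h.mem_centre hC hu).1
    have hnW := h.comm_mem_centre hC htP (h.le huD)
    have e1 : t * u * t⁻¹ = n * u := by simp [hn, commutatorElement_def, mul_assoc]
    have hnt : t * n * t⁻¹ = n := by
      rw [hC.classTwo t htP u (h.le huD) t htP, mul_inv_cancel_right]
    have htt : t * t ∈ D := h.index_two t htP t htP htD htD
    have e2 : (t * t) * u = u * (t * t) := (h.mem_centre hC hu).2 _ htt
    have hnn : n * n = 1 := by
      have h1 : t * (t * u * t⁻¹) * t⁻¹ = u := by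
        calc t * (t * u * t⁻¹) * t⁻¹ = t * t * u * (t * t)⁻¹ := by group
          _ = u := by rw [e2, mul_inv_cancel_right]
      rw [e1] at h1
      have h2 : t * (n * u) * t⁻¹ = n * n * u := by
        calc t * (n * u) * t⁻¹ = t * n * t⁻¹ * (t * u * t⁻¹) := by group
          _ = n * n * u := by rw [hnt, e1, mul_assoc]
      rw [h2] at h1
      simpa using h1
    have hnu : u * n = n * u := hnW.2 u huD
    calc t * (u * u) * t⁻¹ = t * u * t⁻¹ * (t * u * t⁻¹) := by group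
      _ = n * (u * n) * u := by rw [e1]; group
      _ = n * n * (u * u) := by rw [hnu]; group
      _ = u * u := by rw [hnn, one_mul]
  have hy' : y * y ∈ ImSet D k := by
    obtain ⟨d, hd, rfl⟩ := hy
    exact ⟨d * d, D.mul_mem hd hd, (h.map_mul' hC hd hd).symm⟩
  have hk : k * y * k⁻¹ ∈ ImSet D k := by
    obtain ⟨d, hd, rfl⟩ := hy
    exact ⟨k * d * k⁻¹, h.conj_mem hd, by group⟩
  refine h.eq_one_of_commute hC hy' (h.commute_of_fixed ht (h.mem_centre hC hy') (hfix y hy) ?_)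
  rw [show k * (y * y) * k⁻¹ = k * y * k⁻¹ * (k * y * k⁻¹) by group]
  exact hfix _ hk

/-- An element of `[D, k]` that is the square of an element of `D` is trivial. -/
theorem eq_one_of_sq (hC : Ctx P M) (h : Turn P M D k) {d : G} (hd : d ∈ D)
    (hy : d * d ∈ ImSet D k) : d * d = 1 := by
  refine h.eq_one_of_commute hC hy ?_
  have h1 := h.map_mul' hC hd hd
  rw [h.sq_eq_one hC ⟨d, hd, rfl⟩] at h1
  show k * (d * d) = d * d * k
  exact mul_inv_eq_iff_eq_mul.1 (mul_inv_eq_one.1 h1)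

theorem eq_one_of_commutator (hC : Ctx P M) (h : Turn P M D k) {a b : G} (ha : a ∈ D)
    (hb : b ∈ D) (hy : ⁅a, b⁆ ∈ ImSet D k) : ⁅a, b⁆ = 1 :=
  h.eq_one_of_commute hC hy (h.commute_commutator hC ha hb)

end Turn

/-- Some `[D, k]` is not inside `E`. -/
def Linked (P M D E : Subgroup G) : Prop :=
  ∃ k, Turn P M D k ∧ ∃ y ∈ Turn.ImSet D k, y ∉ E

theorem linked_symm (hC : Ctx P M) (hE : Turn P M E kE) (h : Linked P M D E) :
    ∃ u ∈ Turn.ImSet E kE, u ∉ D := by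
  obtain ⟨k, hD, y, hy, hyE⟩ := h
  obtain ⟨u, hu, hne⟩ := hE.exists_not_commute hC (hD.le (hD.mem_centre hC hy).1) hyE
  refine ⟨u, hu, fun huD => hne ?_⟩
  rw [← commutatorElement_inv u y, hD.comm_eq_one hC huD hy, inv_one]

/-- A subgroup is linked with at most one other. -/
theorem eq_of_linked (hC : Ctx P M) (hE : Turn P M E kE) (hE' : Turn P M E' kE')
    (h : Linked P M D E) (h' : Linked P M D E') : E = E' := by
  by_contra hne
  obtain ⟨k, hD, y, hy, hyE⟩ := h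
  obtain ⟨u, hu, huD⟩ := linked_symm hC hE ⟨k, hD, y, hy, hyE⟩
  obtain ⟨u', hu', hu'D⟩ := linked_symm hC hE' h'
  obtain ⟨y', hy', hy'E'⟩ := linked_symm hC hD ⟨kE', hE', u', hu', hu'D⟩
  have huP := hE.le (hE.mem_centre hC hu).1
  have hu'P := hE'.le (hE'.mem_centre hC hu').1
  have hyP := hD.le (hD.mem_centre hC hy).1
  have hy'P := hD.le (hD.mem_centre hC hy').1
  set c := ⁅u, y⁆ with hc
  -- all commutators with `[D, k]` are powers of `c`
  have hval : ∀ v ∈ Turn.ImSet D k, ⁅u, v⁆ = 1 ∨ ⁅u, v⁆ = c := by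
    intro v hv
    by_cases hvE : v ∈ E
    · left
      rw [← commutatorElement_inv v u, hE.comm_eq_one hC hvE hu, inv_one]
    · right
      rw [hc, ← commutatorElement_inv v u, ← commutatorElement_inv y u,
        hE.comm_eq hC (hD.le (hD.mem_centre hC hv).1) hyP hvE hyE hu]
  have hcinv : c⁻¹ = c := inv_eq_of_mul_eq_one_right (hD.sq_eq_one hC (hD.commutator_mem hC huP hy))
  have hc1 : c ≠ 1 := by
    obtain ⟨v, hv, hvne⟩ := hD.exists_not_commute hC huP huD
    rcases hval v hv with h1 | h1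
    · exact absurd h1 hvne
    · exact h1 ▸ hvne
  have hc' : ⁅y', u'⁆ = c := by
    have h1 : ⁅y', u'⁆ = ⁅u, y'⁆⁻¹ := by
      rw [← hD.comm_eq hC hu'P huP hu'D huD hy', commutatorElement_inv]
    obtain ⟨v, hv, hvne⟩ := hE'.exists_not_commute hC hy'P hy'E'
    rcases hval y' hy' with h2 | h2
    · exfalso
      have hu'1 : ⁅y', u'⁆ = 1 := by rw [h1, h2, inv_one]
      -- `u'` lies outside `D`, so some element of `[D,k]` moves it
      obtain ⟨z, hz, hzne⟩ := hD.exists_not_commute hC hu'P hu'D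
      have hzE' : z ∉ E' := fun hzE' => hzne (by
        rw [← commutatorElement_inv z u', hE'.comm_eq_one hC hzE' hu', inv_one])
      apply hzne
      rw [← commutatorElement_inv z u',
        hE'.comm_eq hC (hD.le (hD.mem_centre hC hz).1) hy'P hzE' hy'E' hu', hu'1, inv_one]
    · rw [h1, h2, hcinv]
  by_cases hu'E : u' ∈ E
  · obtain ⟨w, hwE, hwE'⟩ : ∃ w ∈ E, w ∉ E' := by
      by_contra hcon
      push Not at hcon
      apply hne
      refine le_antisymm hcon fun z hz => ?_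
      by_contra hzE
      obtain ⟨t, htP, htE', -⟩ := hE'.inverted
      refine htE' ?_
      have htE : t ∉ E := fun h1 => htE' (hcon t h1)
      have h1 := hcon _ (hE.index_two t htP z (hE'.le hz) htE hzE)
      simpa using E'.mul_mem h1 (E'.inv_mem hz)
    have h1 : ⁅w, u'⁆ = c := by rw [hE'.comm_eq hC (hE.le hwE) hy'P hwE' hy'E' hu', hc']
    refine hc1 (h1 ▸ hE.eq_one_of_commutator hC hwE hu'E (h1 ▸ ?_))
    have h2 := hE.commutator_mem hC hyP hu
    rwa [← commutatorElement_inv u y, ← hc, hcinv] at h2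
  · have hd : u * u' ∈ D := hD.index_two u huP u' hu'P huD hu'D
    have h1 : ⁅u', u⁆ = c := by
      rw [hE.comm_eq hC hu'P hyP hu'E hyE hu, ← commutatorElement_inv u y, ← hc, hcinv]
    have hui : u⁻¹ = u := inv_eq_of_mul_eq_one_right (hE.sq_eq_one hC hu)
    have hu'i : u'⁻¹ = u' := inv_eq_of_mul_eq_one_right (hE'.sq_eq_one hC hu')
    have h2 : u * u' * (u * u') = c := by
      rw [← hcinv, ← h1, commutatorElement_inv, commutatorElement_def, hui, hu'i]
      group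
    refine hc1 (h2 ▸ hD.eq_one_of_sq hC hd (h2 ▸ hD.commutator_mem hC huP hy))

end CfsgLib.SolvCrit.Hyperplanes
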