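import Mathlib

/-!
A finite certificate: the numerical Sylow data of a hypothetical simple group of order `19 d`,
`d` a proper divisor of `9240`, are contradictory.
-/

set_option autoImplicit false

namespace CfsgLib.SolvCrit.OrderCheck

/-- All products of sublists. -/
def prods : List ℕ → List ℕ
  | [] => [1]
  | p :: ps => ((prods ps) ++ (prods ps).map (p * ·)).dedup

theorem mem_prods : ∀ (ps : List ℕ), (∀ p ∈ ps, p.Prime) → ∀ x, x ∣ ps.prod → x ∈ prods ps := by
  intro ps
  induction ps with
  | nil => intro _ x hx; simp_all [prods]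
  | cons p ps ih =>
    intro hps x hx
    rw [List.prod_cons] at hx
    simp only [prods, List.mem_dedup, List.mem_append, List.mem_map]
    have hp := hps p List.mem_cons_self
    have hps' : ∀ q ∈ ps, q.Prime := fun q hq => hps q (List.mem_cons_of_mem _ hq)
    by_cases h : p ∣ x
    · obtain ⟨y, rfl⟩ := h
      exact Or.inr ⟨y, ih hps' y ((Nat.mul_dvd_mul_iff_left hp.pos).1 hx), rfl⟩
    · exact Or.inl (ih hps' x ((Nat.Coprime.dvd_of_dvd_mul_left
        (hp.coprime_iff_not_dvd.2 h).symm hx)))

/-- The candidates for the number of Sylow subgroups. -/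
def cand : List ℕ := prods [2, 2, 2, 3, 5, 7, 11, 19]

/-- The Sylow number, the automizer order, and the reduced centralizer order. -/
abbrev Data := ℕ × ℕ × ℕ

/-- The admissible data at the prime `r`. -/
def options (N r : ℕ) : List Data :=
  (cand.filter fun n => n % r == 1 && n != 1 && N % (r * n) == 0 &&
      (decide (24 ≤ n) || n.factorial % (2 * N) == 0)).flatMap fun n =>
    ((List.range r).filter fun e => 2 ≤ e && (r - 1) % e == 0 && (N / (r * n)) % e == 0 &&
      (!(r == 19 && n == 20) || (N / (r * n) / e == 1 && e % 2 == 1))).map fun e =>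
        (n, e, N / (r * n) / e)

/-- The primes to inspect. -/
def primesOf (N : ℕ) : List ℕ := [3, 5, 7, 11, 19].filter fun r => N % r == 0

/-- All choices of data. -/
def choices (N : ℕ) : List ℕ → List (List (ℕ × Data))
  | [] => [[]]
  | r :: rs => (options N r).flatMap fun o => (choices N rs).map fun l => (r, o) :: l

/-- Commuting is symmetric. -/
def consistent (l : List (ℕ × Data)) : Bool :=
  l.all fun a => l.all fun b =>
    a.1 == b.1 || (a.2.2.2 % b.1 == 0) == (b.2.2.2 % a.1 == 0)

/-- A forced normal Sylow subgroup of a centralizer. -/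
def forced (l : List (ℕ × Data)) : Bool :=
  l.all fun a => l.all fun b =>
    a.1 == b.1 || a.2.2.2 % b.1 != 0 ||
      ((cand.any fun k => k != 1 && (a.2.2.2 / b.1) % k == 0 && k % b.1 == 1) ||
        (b.1 * b.2.2.1 * b.2.2.2) % (a.1 * a.2.2.1 * a.2.2.2) == 0)

/-- The sublists that give disjoint sets of elements. -/
def indep : List (ℕ × Data) → List (List (ℕ × Data))
  | [] => [[]]
  | a :: l => (indep l) ++
      ((indep l).filter fun s => s.all fun b => a.2.2.2 % b.1 != 0 && b.2.2.2 % a.1 != 0).map (a :: ·)

/-- The elements counted. -/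
def weight (s : List (ℕ × Data)) : ℕ :=
  (s.map fun a => a.2.1 * ((a.1 - 1) * a.2.2.2)).sum

/-- The element count stays below the order. -/
def countOK (N : ℕ) (l : List (ℕ × Data)) : Bool := (indep l).all fun s => weight s < N

/-- The data are contradictory for every proper order. -/
def check : Bool :=
  ((prods [2, 2, 2, 3, 5, 7, 11]).filter fun d => d != 9240).all fun d =>
    (choices (19 * d) (primesOf (19 * d))).all fun l =>
      !(consistent l && forced l && countOK (19 * d) l)

theorem check_eq_true : check = true := by decide +kernel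

end CfsgLib.SolvCrit.OrderCheck
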